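import Cfsg.Agent.Lib.OEightStd.Triality
import Cfsg.Agent.Lib.ChevAut.D4OutOrth

/-!
Every automorphism of the even lattice group is conjugation by an isometry.
-/

set_option autoImplicit false
set_option maxRecDepth 100000
set_option linter.unusedSectionVars false

namespace CfsgLib.OEightStd

open Matrix CfsgLib.E8

theorem map_center_aut (ψ : MulAut ↥Wp) {a : ↥Wp} (h : a ∈ Subgroup.center ↥Wp) :
    ψ a ∈ Subgroup.center ↥Wp :=
  Subgroup.mem_center_iff.2 fun b => by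
    obtain ⟨c, rfl⟩ := ψ.surjective b
    rw [← map_mul, ← map_mul, Subgroup.mem_center_iff.1 h c]

theorem proj_congr (ψ : MulAut ↥Wp) {a b : ↥Wp} (h : proj0 a = proj0 b) : proj0 (ψ a) = proj0 (ψ b) := by
  have hm : a⁻¹ * b ∈ Subgroup.center ↥Wp := by
    rw [← proj0_ker, MonoidHom.mem_ker, map_mul, map_inv, h, inv_mul_cancel]
  have h2 := map_center_aut ψ hm
  rw [← proj0_ker, MonoidHom.mem_ker, map_mul ψ, map_inv ψ, map_mul, map_inv, inv_mul_eq_one] at h2
  exact h2

/-- a section of the projection -/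
noncomputable def sec (x : Xt) : ↥Wp := (proj0_surjective x).choose

theorem proj_sec (x : Xt) : proj0 (sec x) = x := (proj0_surjective x).choose_spec

/-- the induced map -/
noncomputable def barFun (ψ : MulAut ↥Wp) (x : Xt) : Xt := proj0 (ψ (sec x))

theorem barFun_proj (ψ : MulAut ↥Wp) (a : ↥Wp) : barFun ψ (proj0 a) = proj0 (ψ a) :=
  proj_congr ψ (proj_sec _)

theorem barFun_comp (ψ χ : MulAut ↥Wp) (x : Xt) : barFun (ψ * χ) x = barFun ψ (barFun χ x) := by
  obtain ⟨a, rfl⟩ := proj0_surjective x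
  rw [barFun_proj, barFun_proj, barFun_proj]; rfl

theorem barFun_one (x : Xt) : barFun 1 x = x := proj_sec x

/-- the induced automorphism -/
noncomputable def barEquiv (ψ : MulAut ↥Wp) : MulAut Xt where
  toFun := barFun ψ
  invFun := barFun ψ⁻¹
  left_inv x := by rw [← barFun_comp, inv_mul_cancel, barFun_one]
  right_inv x := by rw [← barFun_comp, mul_inv_cancel, barFun_one]
  map_mul' x y := by
    obtain ⟨a, rfl⟩ := proj0_surjective x
    obtain ⟨b, rfl⟩ := proj0_surjective y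
    rw [← map_mul, barFun_proj, barFun_proj, barFun_proj, map_mul ψ, map_mul]

/-- the map on automorphisms -/
noncomputable def bar : MulAut ↥Wp →* MulAut Xt where
  toFun := barEquiv
  map_one' := MulEquiv.ext barFun_one
  map_mul' ψ χ := MulEquiv.ext (barFun_comp ψ χ)

theorem bar_apply (ψ : MulAut ↥Wp) (a : ↥Wp) : bar ψ (proj0 a) = proj0 (ψ a) := barFun_proj ψ a

theorem bar_inj {ψ : MulAut ↥Wp} (h : bar ψ = 1) : ψ = 1 := by
  have hc : ∀ a, ψ a * a⁻¹ ∈ Subgroup.center ↥Wp := fun a => by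
    rw [← proj0_ker, MonoidHom.mem_ker, map_mul, map_inv, ← bar_apply, h, MulAut.one_apply, mul_inv_cancel]
  let f : ↥Wp →* ↥(Subgroup.center ↥Wp) := MonoidHom.mk' (fun a => ⟨_, hc a⟩) fun a b => Subtype.ext (by
    show ψ (a * b) * (a * b)⁻¹ = ψ a * a⁻¹ * (ψ b * b⁻¹)
    have h1 := Subgroup.mem_center_iff.1 (hc b) a⁻¹
    rw [mul_assoc (ψ a), h1, map_mul ψ]
    group)
  refine MulEquiv.ext fun a => ?_
  have hle : commutator ↥Wp ≤ f.ker := by
    rw [commutator_def, Subgroup.commutator_le]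
    intro x _ y _
    rw [MonoidHom.mem_ker, map_commutatorElement, commutatorElement_eq_one_iff_mul_comm]
    exact Subtype.ext (Subgroup.mem_center_iff.1 (f y).2 (f x).1)
  rw [perfect_Wp] at hle
  exact mul_inv_eq_one.1 (congrArg Subtype.val (MonoidHom.mem_ker.1 (hle (Subgroup.mem_top a))))

/-- conjugation by an isometry -/
noncomputable def conjW : W →* MulAut ↥Wp := MulAut.conjNormal

theorem conjW_apply (u : W) (a : ↥Wp) : ((conjW u a : ↥Wp) : W) = u * a * u⁻¹ := MulAut.conjNormal_apply u a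

theorem bar_inn (a : ↥Wp) : bar (conjW (a : W)) = MulAut.conj (proj0 a) := by
  refine MulEquiv.ext fun x => ?_
  obtain ⟨b, rfl⟩ := proj0_surjective x
  rw [bar_apply, MulAut.conj_apply, ← map_inv, ← map_mul, ← map_mul]
  congr 1

/-- the outer class -/
noncomputable def toOutX : MulAut Xt →* Cfsg.Out Xt := QuotientGroup.mk' (Cfsg.Inn Xt)

theorem toOutX_eq_one {α : MulAut Xt} (h : toOutX α = 1) : α ∈ Cfsg.Inn Xt :=
  (QuotientGroup.eq_one_iff (N := Cfsg.Inn Xt) α).1 h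

theorem toOutX_inn (x : Xt) : toOutX (MulAut.conj x) = 1 :=
  (QuotientGroup.eq_one_iff (N := Cfsg.Inn Xt) _).2 ⟨x, rfl⟩

/-- outer classes -/
noncomputable def outA : MulAut ↥Wp →* Cfsg.Out Xt := toOutX.comp bar

theorem outA_inner (a : ↥Wp) : outA (conjW (a : W)) = 1 := by
  rw [outA, MonoidHom.comp_apply, bar_inn]
  exact toOutX_inn _

theorem outA_eq_one {ψ : MulAut ↥Wp} (h : outA ψ = 1) : ∃ a : ↥Wp, ψ = conjW (a : W) := by
  rw [outA, MonoidHom.comp_apply] at h
  obtain ⟨x, hx⟩ := toOutX_eq_one h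
  obtain ⟨a, rfl⟩ := proj0_surjective x
  refine ⟨a, ?_⟩
  have : bar (ψ * (conjW (a : W))⁻¹) = 1 := by
    rw [map_mul, map_inv, bar_inn, hx, mul_inv_cancel]
  exact mul_inv_eq_one.1 (bar_inj this)

theorem outA_fr : outA (conjW (fr 0)) ≠ 1 := by
  intro h
  obtain ⟨a, ha⟩ := outA_eq_one h
  have hc : ∀ g ∈ Wp, (a : W)⁻¹ * fr 0 * g = g * ((a : W)⁻¹ * fr 0) := fun g hg => by
    have h1 := congrArg (fun ψ : MulAut ↥Wp => ((ψ ⟨g, hg⟩ : ↥Wp) : W)) ha
    simp only [conjW_apply] at h1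
    calc (a : W)⁻¹ * fr 0 * g = (a : W)⁻¹ * (fr 0 * g * (fr 0)⁻¹) * fr 0 := by group
      _ = (a : W)⁻¹ * ((a : W) * g * (a : W)⁻¹) * fr 0 := by rw [h1]
      _ = _ := by group
  have hp : parity ((a : W)⁻¹ * fr 0) = -1 := by
    rw [map_mul, map_inv, mem_Wp_iff.1 a.2, fr, parity_refl]; rfl
  rcases center_cases hc with e | e <;> rw [e] at hp
  · rw [map_one] at hp; exact absurd hp (by decide)
  · rw [mem_Wp_iff.1 negW_mem_Wp] at hp; exact absurd hp (by decide)

theorem card_out : Nat.card (Cfsg.Out Xt) = 6 := by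
  obtain ⟨e⟩ := CfsgLib.ChevAut.D4.out_orth_two (F := ZMod 2) (f := 1) le_rfl (by simp)
  rw [show Nat.card (Cfsg.Out Xt) = _ from Nat.card_congr e.toEquiv, Nat.card_prod, Nat.card_perm]
  simp
  decide

theorem eq_zpowers_of_six {K : Type*} [Group K] (hK : Nat.card K = 6) {o : K} (hord : orderOf o = 2)
    {S : Subgroup K} (hle : Subgroup.zpowers o ≤ S) (hne : S ≠ ⊤) : S = Subgroup.zpowers o := by
  haveI : Finite K := Nat.finite_of_card_ne_zero (by rw [hK]; norm_num)
  refine (Subgroup.eq_of_le_of_card_ge hle ?_).symm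
  rw [Nat.card_zpowers, hord]
  have hd : Nat.card S ∣ 6 := hK ▸ Subgroup.card_subgroup_dvd_card _
  have h2 : 2 ∣ Nat.card S := by
    rw [← hord, ← Nat.card_zpowers]; exact Subgroup.card_dvd_of_le hle
  have h6 : Nat.card S ≠ 6 := fun h => hne (Subgroup.eq_top_of_card_eq _ (h.trans hK.symm))
  have hle6 := Nat.le_of_dvd (by norm_num) hd
  interval_cases hk : Nat.card S <;> omega

theorem range_outA : outA.range = Subgroup.zpowers (outA (conjW (fr 0))) := by
  set o := outA (conjW (fr 0)) with ho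
  have hsq : o ^ 2 = 1 := by
    rw [ho, pow_two, ← map_mul, ← map_mul, fr, refl_sq, map_one, map_one]
  have hord : orderOf o = 2 := by
    haveI : Fact (Nat.Prime 2) := ⟨Nat.prime_two⟩
    exact orderOf_eq_prime hsq outA_fr
  have hle : Subgroup.zpowers o ≤ outA.range := Subgroup.zpowers_le.2 ⟨_, rfl⟩
  have hne : outA.range ≠ ⊤ := by
    intro htop
    obtain ⟨α, a, ha, hno⟩ := exists_twist
    obtain ⟨ψ, hψ⟩ : toOutX α ∈ outA.range := htop ▸ Subgroup.mem_top _
    have hψ' : toOutX (bar ψ) = toOutX α := hψ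
    have hm : (bar ψ)⁻¹ * α ∈ Cfsg.Inn Xt := by
      refine toOutX_eq_one ?_
      rw [map_mul, map_inv, hψ', inv_mul_cancel]
    obtain ⟨x, hx⟩ := hm
    obtain ⟨c, rfl⟩ := proj0_surjective x
    have hα : α = bar (ψ * conjW (c : W)) := by
      rw [map_mul, bar_inn, hx, mul_inv_cancel_left]
    refine hno ((ψ * conjW (c : W)) a) (by rw [hα, bar_apply]) ?_
    rw [← map_mul, ha, map_one]
  exact eq_zpowers_of_six card_out hord hle hne

/-- every automorphism is conjugation by an isometry -/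
theorem aut_conj (ψ : MulAut ↥Wp) : ∃ u : W, ∀ a : ↥Wp, ((ψ a : ↥Wp) : W) = u * a * u⁻¹ := by
  have h : outA ψ ∈ outA.range := ⟨ψ, rfl⟩
  rw [range_outA] at h
  obtain ⟨n, hn⟩ := Subgroup.mem_zpowers_iff.1 h
  rw [← map_zpow, ← map_zpow] at hn
  have h1 : outA ((conjW (fr 0 ^ n))⁻¹ * ψ) = 1 := by rw [map_mul, map_inv, hn, inv_mul_cancel]
  obtain ⟨a, ha⟩ := outA_eq_one h1
  refine ⟨fr 0 ^ n * (a : W), fun b => ?_⟩
  rw [inv_mul_eq_iff_eq_mul, ← map_mul] at ha
  rw [ha, conjW_apply]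

end CfsgLib.OEightStd
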