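/-!
Words of transvections carrying the vectors of norm one modulo two to the frame.
-/

set_option autoImplicit false

namespace CfsgLib.OEightStd

/-- Data: the vectors orthogonal to the frame before the first place, with words. -/
def level0 : List (Nat × List Nat) :=
  [(17, [39]), (19, [98, 71]), (21, [35]), (23, [101, 68]), (25, [47]), (27, [106, 71]), (29, [43]),
  (31, [109, 68]), (34, [83, 71]), (35, [21]), (38, [84, 68]), (39, [17]), (42, [91, 71]), (43,
  [29]), (46, [92, 68]), (47, [25]), (49, [84, 83]), (50, [21, 17]), (53, [71, 68]), (54, []), (57,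
  [92, 83]), (58, [29, 17]), (61, [79, 68]), (62, [25, 17]), (68, [114]), (69, [98, 17]), (70, [101,
  21]), (71, [113]), (76, [122]), (77, [106, 17]), (78, [109, 21]), (79, [121]), (81, [114, 21]),
  (83, [101]), (84, [98]), (86, [113, 17]), (89, [122, 21]), (91, [109]), (92, [106]), (94, [121,
  17]), (98, [84]), (99, [68, 17]), (100, [71, 21]), (101, [83]), (106, [92]), (107, [76, 17]),
  (108, [79, 21]), (109, [91]), (113, [71]), (114, [68]), (116, [83, 17]), (119, [84, 21]), (121,
  [79]), (122, [76]), (124, [91, 17]), (127, [92, 21]), (136, [167, 25]), (137, [191]), (138,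
  [188]), (139, [172, 17]), (140, [163, 25]), (141, [187]), (142, [184]), (143, [168, 17]), (145,
  [167]), (147, [188, 25]), (149, [163]), (151, [184, 25]), (152, [191, 17]), (154, [172]), (156,
  [187, 17]), (158, [168]), (162, [141, 25]), (163, [149]), (166, [137, 25]), (167, [145]), (168,
  [158]), (169, [142, 17]), (172, [154]), (173, [138, 17]), (177, [158, 25]), (178, [149, 17]),
  (181, [154, 25]), (182, [145, 17]), (184, [142]), (187, [141]), (188, [138]), (191, [137]), (196,
  [242]), (197, [226, 17]), (198, [229, 21]), (199, [241]), (200, [254]), (201, [238, 17]), (202,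
  [233, 21]), (203, [253]), (209, [242, 21]), (211, [229]), (212, [226]), (214, [241, 17]), (216,
  [238]), (218, [253, 17]), (221, [254, 21]), (223, [233]), (226, [212]), (227, [196, 17]), (228,
  [199, 21]), (229, [211]), (232, [203, 21]), (233, [223]), (238, [216]), (239, [200, 17]), (241,
  [199]), (242, [196]), (244, [211, 17]), (247, [212, 21]), (248, [223, 17]), (251, [216, 21]),
  (253, [203]), (254, [200])]

/-- Data: the vectors orthogonal to the frame before the second place, with words. -/
def level1 : List (Nat × List Nat) :=
  [(19, [127]), (23, [89, 34]), (27, [119]), (31, [81, 34]), (34, [78]), (38, [89, 19]), (42, [70]),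
  (46, [81, 19]), (49, [78, 19]), (50, [94]), (53, [89]), (57, [70, 19]), (58, [86]), (61, [81]),
  (62, [218, 136]), (69, [58, 19]), (70, [42]), (77, [50, 19]), (78, [34]), (81, [61]), (86, [58]),
  (89, [53]), (94, [50]), (99, [61, 50]), (100, [27, 19]), (107, [53, 50]), (108, []), (116, [58,
  34]), (119, [27]), (124, [50, 34]), (127, [19]), (136, [228]), (139, [244, 19]), (140, [251, 27]),
  (143, [227]), (147, [228, 27]), (151, [251]), (152, [244]), (156, [227, 19]), (162, [221, 19]),
  (166, [202]), (169, [197]), (173, [218, 27]), (177, [221]), (178, [197, 27]), (181, [202, 19]),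
  (182, [218]), (197, [169]), (198, [177, 27]), (201, [182, 19]), (202, [166]), (209, [166, 27]),
  (214, [169, 19]), (218, [182]), (221, [177]), (227, [143]), (228, [136]), (232, [151, 19]), (239,
  [152, 27]), (244, [152]), (247, [136, 19]), (248, [143, 27]), (251, [151])]

/-- Data: the vectors orthogonal to the frame before the third place, with words. -/
def level2 : List (Nat × List Nat) :=
  [(23, [198, 38]), (31, [232]), (38, [209]), (46, [198, 31]), (49, [198]), (57, [209, 31]), (62,
  [201]), (69, [178]), (77, [156, 38]), (99, [139, 31]), (100, [147]), (107, [156]), (116, [156,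
  31]), (124, [139]), (139, [124]), (140, [100, 31]), (147, [100]), (156, [107]), (162, [100, 49]),
  (173, [69, 31]), (178, [69]), (181, [100, 38]), (198, [49]), (201, [62]), (209, [38]), (214, [62,
  31]), (232, [31]), (239, [62, 38]), (247, []), (248, [62, 49])]

/-- Data: the maximal orthogonal sets beyond the third place, with words. -/
def level3 : List (List Nat × List Nat) :=
  [([23, 77, 140, 173, 214], [46]), ([46, 116, 173, 181, 239], [23]), ([57, 99, 162, 173, 248], [])]

end CfsgLib.OEightStd
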