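import Mathlib.Data.List.Sublists
import Mathlib.Data.Fintype.Basic
import Cfsg.Agent.Lib.OEightStd.BitsData

/-!
Vectors over two elements in eight coordinates as bit strings: orthogonal sets of vectors of norm one
are carried into the frame by transvections.
-/

set_option autoImplicit false
set_option maxRecDepth 100000

namespace CfsgLib.OEightStd

/-- the quadratic form on bit strings -/
def qb (v : ℕ) : Bool :=
  (v.testBit 0 && v.testBit 4) ^^ (v.testBit 1 && v.testBit 5) ^^ (v.testBit 2 && v.testBit 6) ^^
    (v.testBit 3 && v.testBit 7)

/-- its polar form -/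
def bb (u v : ℕ) : Bool := qb (u ^^^ v) ^^ qb u ^^ qb v

/-- the transvection -/
def tr (v x : ℕ) : ℕ := if bb x v then x ^^^ v else x

/-- a word of transvections, the last letter applied first -/
def app : List ℕ → ℕ → ℕ
  | [], x => x
  | v :: vs, x => tr v (app vs x)

/-- the frame modulo two -/
def fv : List ℕ := [54, 108, 247, 173, 99, 57, 162, 248]

/-- the frame vector with the given index -/
def fb (k : Fin 8) : ℕ := fv.getD k.1 0

/-- vectors of norm one -/
def nsing : List ℕ := (List.range 256).filter qb

/-- vectors of norm one orthogonal to the first frame vectors -/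
def perp (n : ℕ) : List ℕ :=
  nsing.filter fun v => (fv.take n).all fun u => !(bb v u) && v != u

/-- a word is admissible beyond place `n`: it fixes the first frame vectors -/
def wordOK (n : ℕ) (w : List ℕ) : Bool :=
  w.all (fun v => qb v && decide (v < 256)) && (fv.take n).all fun u => app w u == u

/-- the table for place `n` -/
def tabOK (n : ℕ) (t : List (ℕ × List ℕ)) : Bool :=
  (t.map Prod.fst == perp n) && t.all fun e => wordOK n e.2 && app e.2 e.1 == fv.getD n 0

theorem level0_ok : tabOK 0 level0 = true := by decide +kernel
theorem level1_ok : tabOK 1 level1 = true := by decide +kernel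
theorem level2_ok : tabOK 2 level2 = true := by decide +kernel

/-- grow orthogonal sets inside a list, testing each against the maximal ones -/
def grow : List ℕ → List ℕ → Bool
  | acc, [] => level3.any fun e => acc.all fun v => e.1.contains v
  | acc, v :: vs => grow acc vs && (!(acc.all fun u => !(bb u v)) || grow (v :: acc) vs)

theorem level3_ok : (grow [] (perp 3) && level3.all fun e =>
    wordOK 3 e.2 && e.1.all fun v => fv.contains (app e.2 v)) = true := by decide +kernel

theorem frame_bits : (∀ k : Fin 8, qb (fb k) = true ∧ fb k < 256) ∧
    (∀ k l : Fin 8, fb k = fb l → k = l) ∧ ∀ k l : Fin 8, bb (fb k) (fb l) = false := by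
  decide +kernel

theorem linker_bits : ∀ i j k l : Fin 8, i ≠ j → i ≠ k → i ≠ l → j ≠ k → j ≠ l → k ≠ l →
    ∃ v : Fin 256, qb v.1 = true ∧ bb v.1 (fb i) = true ∧ bb v.1 (fb j) = false ∧
      bb v.1 (fb k) = true ∧ bb v.1 (fb l) = false := by
  decide +kernel

end CfsgLib.OEightStd
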