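import Mathlib
import Cfsg.Prelude.Def_Classical

/-!
# The plus orthogonal groups along an isomorphism of fields
-/

set_option autoImplicit false

namespace CfsgLib.OEightStd.PlusField

open Matrix

variable {F E : Type*} [Field F] [Field E] (φ : F ≃+* E) {m : ℕ}

/-- The matrices along a field isomorphism. -/
noncomputable def glMap : GL (Fin m ⊕ Fin m) F ≃* GL (Fin m ⊕ Fin m) E :=
  Units.mapEquiv φ.mapMatrix.toMulEquiv

theorem map_mem_isometry (φ : F ≃+* E) {g : GL (Fin m ⊕ Fin m) F}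
    (hg : g ∈ Cfsg.isometryGroup F (Cfsg.quadFormPlus m F)) :
    glMap φ g ∈ Cfsg.isometryGroup E (Cfsg.quadFormPlus m E) := by
  intro u _
  show Cfsg.quadFormPlus m E ((g.val.map φ) *ᵥ u) = Cfsg.quadFormPlus m E u
  have hq : ∀ v : Fin m ⊕ Fin m → F,
      Cfsg.quadFormPlus m E (φ ∘ v) = φ (Cfsg.quadFormPlus m F v) := fun v => by
    simp [Cfsg.quadFormPlus, map_sum]
  have hu : u = φ ∘ (φ.symm ∘ u) := funext fun i => (φ.apply_symm_apply (u i)).symm
  rw [hu, show (g.val.map φ) *ᵥ (φ ∘ (φ.symm ∘ u)) = φ ∘ (g.val *ᵥ (φ.symm ∘ u)) from funext fun i =>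
    (RingHom.map_mulVec φ.toRingHom g.val (φ.symm ∘ u) i).symm, hq, hq]
  exact congrArg φ (hg (φ.symm ∘ u) (φ.symm ∘ u))

theorem map_isometry : (Cfsg.isometryGroup F (Cfsg.quadFormPlus m F)).map (glMap φ).toMonoidHom =
    Cfsg.isometryGroup E (Cfsg.quadFormPlus m E) := by
  refine le_antisymm ?_ fun g hg => ?_
  · rintro _ ⟨g, hg, rfl⟩
    exact map_mem_isometry φ hg
  · refine ⟨glMap φ.symm g, map_mem_isometry φ.symm hg, ?_⟩
    refine Units.ext (Matrix.ext fun i j => ?_)
    exact φ.apply_symm_apply _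

/-- `PΩ` of the plus form along a field isomorphism. -/
theorem pomega_congr (φ : F ≃+* E) : Nonempty (Cfsg.POmega F (Cfsg.quadFormPlus m F) ≃*
    Cfsg.POmega E (Cfsg.quadFormPlus m E)) := by
  let e : Cfsg.isometryGroup F (Cfsg.quadFormPlus m F) ≃* Cfsg.isometryGroup E (Cfsg.quadFormPlus m E) :=
    ((glMap φ).subgroupMap _).trans (MulEquiv.subgroupCongr (map_isometry φ))
  have hmap : (commutator (Cfsg.isometryGroup F (Cfsg.quadFormPlus m F))).map e.toMonoidHom =
      commutator (Cfsg.isometryGroup E (Cfsg.quadFormPlus m E)) := by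
    rw [commutator_def, Subgroup.map_commutator, Subgroup.map_top_of_surjective _ e.surjective,
      ← commutator_def]
  let e' : Cfsg.Omega F (Cfsg.quadFormPlus m F) ≃* Cfsg.Omega E (Cfsg.quadFormPlus m E) :=
    (e.subgroupMap _).trans (MulEquiv.subgroupCongr hmap)
  refine ⟨QuotientGroup.congr _ _ e' ?_⟩
  ext z
  simp only [Subgroup.mem_map, Subgroup.mem_center_iff]
  constructor
  · rintro ⟨x, hx, rfl⟩ y
    obtain ⟨w, rfl⟩ := e'.surjective y
    exact (map_mul e' w x).symm.trans ((congrArg e' (hx w)).trans (map_mul e' x w))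
  · intro h
    refine ⟨e'.symm z, fun g => e'.injective ?_, e'.apply_symm_apply z⟩
    rw [map_mul, map_mul, e'.apply_symm_apply]
    exact h (e' g)

end CfsgLib.OEightStd.PlusField
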