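import Cfsg.Agent.Lib.OEightStd.Aut
import Cfsg.Agent.Lib.OEightStd.PlusField
import Cfsg.Agent.Lib.Schur.OmegaPlusTwo
import Cfsg.Agent.Lib.Schur.CoverOfBound

/-!
Every double cover of the simple group is isomorphic to the even lattice group.
-/

set_option autoImplicit false
set_option maxRecDepth 100000
set_option linter.unusedSectionVars false

namespace CfsgLib.OEightStd

open Matrix CfsgLib.E8 CfsgLib.Orth

/-- perfect central extensions of the simple group have small kernels -/
theorem card_ker_bound {Γ : Type} [Group Γ] [Finite Γ] (σ : Γ →* Xt) (hs : Function.Surjective σ)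
    (hc : σ.ker ≤ Subgroup.center Γ) (hΓ : commutator Γ = ⊤) : Nat.card σ.ker ≤ 4 := by
  obtain ⟨u₀, u₁, u₂, h₀⟩ := CfsgLib.Schur.OmegaPlusTwo.exists_tri (Q := Qp) zmod_cases Qp_eq
  let mk := QuotientGroup.mk' (Subgroup.center (Cfsg.Omega (ZMod 2) ⇑Qp))
  have hb : Function.Bijective mk := ⟨fun a b h => by
    have h1 : a⁻¹ * b ∈ Subgroup.center (Cfsg.Omega (ZMod 2) ⇑Qp) := QuotientGroup.eq.1 h
    rw [center_omega, Subgroup.mem_bot, inv_mul_eq_one] at h1
    exact h1, QuotientGroup.mk'_surjective _⟩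
  let eΩ := MulEquiv.ofBijective mk hb
  have hk : (eΩ.symm.toMonoidHom.comp σ).ker = σ.ker := by
    ext x
    rw [MonoidHom.mem_ker, MonoidHom.mem_ker, MonoidHom.comp_apply]
    exact eΩ.symm.map_eq_one_iff
  have h := CfsgLib.Schur.OmegaPlusTwo.card_ker_le_four (CfsgLib.E8.two_eq zmod_cases) Qp_nondeg
    (by simp) zmod_cases (by simp) h₀ (eΩ.symm.toMonoidHom.comp σ) (eΩ.symm.surjective.comp hs) (hk ▸ hc) hΓ
  rw [hk] at h
  exact h

theorem card_center_Wp : Nat.card (Subgroup.center ↥Wp) = 2 := by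
  have hne : (1 : W) ≠ negW := fun h => by
    have := congrArg (fun g : W => act g (a 0)) h
    simp only [act_negW, act_one] at this
    exact a_ne_neg 0 this
  refine Nat.card_eq_two_iff.2 ⟨1, ⟨⟨negW, negW_mem_Wp⟩, center_Wp.2 (Or.inr rfl)⟩, ?_, ?_⟩
  · intro h
    exact hne (congrArg (fun x : Subgroup.center ↥Wp => ((x : ↥Wp) : W)) h)
  · ext x
    simp only [Set.mem_insert_iff, Set.mem_singleton_iff, Set.mem_univ, iff_true]
    rcases center_Wp.1 x.2 with h | h
    · exact Or.inl (Subtype.ext (Subtype.ext h))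
    · exact Or.inr (Subtype.ext (Subtype.ext h))

/-- a quotient by a common kernel -/
theorem iso_of_ker_eq {D A B : Type} [Group D] [Group A] [Group B] (p : D →* A) (q : D →* B)
    (hp : Function.Surjective p) (hq : Function.Surjective q) (h : p.ker = q.ker) :
    ∃ θ : A ≃* B, ∀ d, θ (p d) = q d :=
  ⟨(QuotientGroup.quotientKerEquivOfSurjective p hp).symm.trans
      ((QuotientGroup.quotientMulEquivOfEq h).trans (QuotientGroup.quotientKerEquivOfSurjective q hq)),
    fun d => by
      rw [MulEquiv.trans_apply, show (QuotientGroup.quotientKerEquivOfSurjective p hp).symm (p d) =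
        (QuotientGroup.mk d : D ⧸ p.ker) from (MulEquiv.symm_apply_eq _).2 rfl]
      rfl⟩

/-- the kernel of a factor of index two -/
theorem ker_count {D A X : Type} [Group D] [Group A] [Group X] [Finite D] [Finite A] (σ : D →* X) (p : D →* A)
    (t : A →* X) (hp : Function.Surjective p) (hpt : ∀ x, t (p x) = σ x) (ht : Nat.card t.ker = 2) :
    p.ker ≤ σ.ker ∧ 2 * Nat.card p.ker = Nat.card σ.ker := by
  have hle : p.ker ≤ σ.ker := fun x hx => by
    rw [MonoidHom.mem_ker, ← hpt, MonoidHom.mem_ker.1 hx, map_one]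
  refine ⟨hle, ?_⟩
  let ψ : ↥σ.ker →* ↥t.ker := (p.comp σ.ker.subtype).codRestrict _ fun x => by
    rw [MonoidHom.mem_ker, MonoidHom.comp_apply, hpt]; exact x.2
  have hψ : Function.Surjective ψ := fun y => by
    obtain ⟨x, hx⟩ := hp y.1
    exact ⟨⟨x, by rw [MonoidHom.mem_ker, ← hpt, hx]; exact y.2⟩, Subtype.ext hx⟩
  have h1 := Subgroup.card_eq_card_quotient_mul_card_subgroup ψ.ker
  rw [Nat.card_congr (QuotientGroup.quotientKerEquivOfSurjective ψ hψ).toEquiv, ht] at h1
  have h3 : ψ.ker = p.ker.subgroupOf σ.ker := by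
    ext x
    rw [MonoidHom.mem_ker, Subgroup.mem_subgroupOf, MonoidHom.mem_ker]
    exact ⟨fun h => congrArg Subtype.val h, fun h => Subtype.ext h⟩
  rw [h3, Nat.card_congr (Subgroup.subgroupOfEquivOfLe hle).toEquiv] at h1
  exact h1.symm

theorem hom_shift {A B C : Type} [Group A] [Group B] [Group C] (f : B →* C) (β : A →* B) {x y : B} {θ : A}
    (h : x = y * β θ) : f (β θ⁻¹) = (f x)⁻¹ * f y := by
  rw [h, map_mul, map_inv β, map_inv f, _root_.mul_inv_rev, inv_mul_cancel_right]

theorem toOutX_surjective : Function.Surjective toOutX := QuotientGroup.mk'_surjective (Cfsg.Inn Xt)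

/-- among four double covers inside a small kernel two kernels coincide -/
theorem exists_eq_of_four {D : Type} [Group D] [Finite D] {K : Subgroup D} (hK : Nat.card K ≤ 4)
    (Ki : Fin 4 → Subgroup D) (hle : ∀ i, Ki i ≤ K) (hcard : ∀ i, 2 * Nat.card (Ki i) = Nat.card K) :
    ∃ i j, i ≠ j ∧ Ki i = Ki j := by
  classical
  by_contra hno
  push_neg at hno
  have hpos : ∀ i, 0 < Nat.card (Ki i) := fun i => Nat.card_pos
  have h2 : ∀ i, Nat.card (Ki i) = 2 := by
    intro i
    have := hcard i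
    by_contra h
    have h1 : Nat.card (Ki i) = 1 := by have := hpos i; omega
    obtain ⟨j, hj⟩ : ∃ j : Fin 4, j ≠ i := ⟨if i = 0 then 1 else 0, by
      split_ifs with h
      · rw [h]; decide
      · exact Ne.symm h⟩
    have := hcard j
    exact hno j i hj (by
      rw [Subgroup.eq_bot_of_card_eq _ h1, Subgroup.eq_bot_of_card_eq _ (show Nat.card (Ki j) = 1 by omega)])
  have hel : ∀ i, ∃ k : ↥K, (k : D) ≠ 1 ∧ (k : D) ∈ Ki i ∧ ∀ x ∈ Ki i, x = 1 ∨ x = k := by
    intro i
    obtain ⟨a, b, hab, huniv⟩ := Nat.card_eq_two_iff.1 (h2 i)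
    have hall : ∀ x : ↥(Ki i), x = a ∨ x = b := fun x => by
      have := Set.mem_univ x; rw [← huniv] at this; simpa using this
    obtain ⟨c, hc1, hc⟩ : ∃ c : ↥(Ki i), c ≠ 1 ∧ ∀ x, x = 1 ∨ x = c := by
      rcases hall 1 with h | h
      · exact ⟨b, h ▸ Ne.symm hab, fun x => h ▸ hall x⟩
      · exact ⟨a, h ▸ hab, fun x => h ▸ (hall x).symm⟩
    exact ⟨⟨c, hle i c.2⟩, fun e => hc1 (Subtype.ext e), c.2,
      fun x hx => (hc ⟨x, hx⟩).imp (congrArg Subtype.val) (congrArg Subtype.val)⟩
  choose k hk1 hk2 hk3 using hel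
  have hinj : Function.Injective fun i => (⟨k i, fun e => hk1 i (congrArg Subtype.val e)⟩ : {x : ↥K // x ≠ 1}) := by
    intro i j e
    by_contra hne
    have e' : (k i : D) = k j := congrArg (fun x : {x : ↥K // x ≠ 1} => ((x : ↥K) : D)) e
    refine hno i j hne (le_antisymm (fun x hx => ?_) fun x hx => ?_)
    · rcases hk3 i x hx with h | h
      · rw [h]; exact one_mem _
      · rw [h, e']; exact hk2 j
    · rcases hk3 j x hx with h | h
      · rw [h]; exact one_mem _
      · rw [h, ← e']; exact hk2 i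
  have hc := Nat.card_le_card_of_injective _ hinj
  haveI := Fintype.ofFinite ↥K
  rw [Nat.card_fin, Nat.card_eq_fintype_card, Fintype.card_subtype_compl, Fintype.card_subtype_eq] at hc
  rw [Nat.card_eq_fintype_card] at hK
  omega

/-- double covers of the simple group -/
theorem cover_iso {Γ : Type} [Group Γ] [Finite Γ] (τ : Γ →* Xt) (hs : Function.Surjective τ)
    (hc : τ.ker ≤ Subgroup.center Γ) (hΓ : commutator Γ = ⊤) (h2 : Nat.card τ.ker = 2) :
    Nonempty (Γ ≃* ↥Wp) := by
  classical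
  haveI : Finite ↥Wp := inferInstance
  obtain ⟨q, hq⟩ : ∃ q : Fin 3 → Cfsg.Out Xt, ∀ i j, (q i)⁻¹ * q j ∈ outA.range → i = j := by
    haveI : Finite (Cfsg.Out Xt) := Nat.finite_of_card_ne_zero (by rw [card_out]; norm_num)
    haveI : Fact (Nat.Prime 2) := ⟨Nat.prime_two⟩
    have hR : Nat.card outA.range = 2 := by
      rw [range_outA, Nat.card_zpowers]
      refine orderOf_eq_prime ?_ outA_fr
      rw [pow_two, ← map_mul, ← map_mul, fr, refl_sq, map_one, map_one]
    have hidx : Nat.card (Cfsg.Out Xt ⧸ outA.range) = 3 := by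
      have := Subgroup.card_eq_card_quotient_mul_card_subgroup outA.range
      rw [card_out, hR] at this
      omega
    haveI : Finite (Cfsg.Out Xt ⧸ outA.range) := Nat.finite_of_card_ne_zero (by rw [hidx]; norm_num)
    let e := Finite.equivFinOfCardEq hidx
    refine ⟨fun i => (e.symm i).out, fun i j h => e.symm.injective ?_⟩
    have := QuotientGroup.eq.2 h
    simpa using this
  choose al hal using fun i => toOutX_surjective (q i)
  let τi : Fin 3 → (↥Wp →* Xt) := fun i => (al i).toMonoidHom.comp proj0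
  have hτs : ∀ i, Function.Surjective (τi i) := fun i => (al i).surjective.comp proj0_surjective
  have hτk : ∀ i, (τi i).ker = Subgroup.center ↥Wp := fun i => by
    ext x
    rw [← proj0_ker, MonoidHom.mem_ker, MonoidHom.mem_ker]
    exact (al i).map_eq_one_iff
  have hτc : ∀ i, (τi i).ker ≤ Subgroup.center ↥Wp := fun i => (hτk i).le
  have hX : commutator Xt = ⊤ := by
    rw [commutator_def, ← Subgroup.map_top_of_surjective _ proj0_surjective, ← Subgroup.map_commutator,
      ← commutator_def, perfect_Wp]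
  obtain ⟨D1, _, _, a, b, ha, hb, hD1, he1, hc1, -⟩ := CfsgLib.Schur.CoverOfBound.exists_common hX (τi 0) (τi 1)
    (hτs 0) (hτc 0) perfect_Wp (hτs 1) (hτc 1) perfect_Wp
  obtain ⟨D2, _, _, c, d, hcs, hd, hD2, he2, hc2, -⟩ := CfsgLib.Schur.CoverOfBound.exists_common hX
    ((τi 0).comp a) (τi 2) ((hτs 0).comp ha) hc1 hD1 (hτs 2) (hτc 2) perfect_Wp
  obtain ⟨D3, _, _, f, g, hf, hg, hD3, he3, hc3, -⟩ := CfsgLib.Schur.CoverOfBound.exists_common hX
    (((τi 0).comp a).comp c) τ (((hτs 0).comp ha).comp hcs) hc2 hD2 hs hc hΓ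
  set σ := (((τi 0).comp a).comp c).comp f with hσ
  have hσs : Function.Surjective σ := (((hτs 0).comp ha).comp hcs).comp hf
  have hK := card_ker_bound σ hσs hc3 hD3
  let pW : Fin 3 → (D3 →* ↥Wp) := ![(a.comp c).comp f, (b.comp c).comp f, d.comp f]
  have hpW : ∀ i, Function.Surjective (pW i) ∧ ∀ x, τi i (pW i x) = σ x := by
    intro i
    fin_cases i
    · exact ⟨(ha.comp hcs).comp hf, fun x => rfl⟩
    · exact ⟨(hb.comp hcs).comp hf, fun x => (DFunLike.congr_fun he1 (c (f x))).symm⟩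
    · exact ⟨hd.comp hf, fun x => (DFunLike.congr_fun he2 (f x)).symm⟩
  have hg' : ∀ x, τ (g x) = σ x := fun x => (DFunLike.congr_fun he3 x).symm
  have hcnt : ∀ {A : Type} [Group A] [Finite A] (p : D3 →* A) (t : A →* Xt), Function.Surjective p →
      (∀ x, t (p x) = σ x) → Nat.card t.ker = 2 → p.ker ≤ σ.ker ∧ 2 * Nat.card p.ker = Nat.card σ.ker :=
    fun p t hp hpt ht => ker_count σ p t hp hpt ht
  let Kf : Fin 4 → Subgroup D3 := Fin.cons g.ker fun i => (pW i).ker
  have hW2 : ∀ i, Nat.card (τi i).ker = 2 := fun i => by rw [hτk]; exact card_center_Wp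
  have hKf : ∀ i, Kf i ≤ σ.ker ∧ 2 * Nat.card (Kf i) = Nat.card σ.ker := by
    refine Fin.cases ?_ ?_
    · exact hcnt g τ hg hg' h2
    · exact fun i => hcnt (pW i) (τi i) (hpW i).1 (hpW i).2 (hW2 i)
  obtain ⟨i, j, hne, heq⟩ := exists_eq_of_four hK Kf (fun i => (hKf i).1) fun i => (hKf i).2
  have hWW : ∀ i j : Fin 3, (pW i).ker = (pW j).ker → i = j := by
    intro i j h
    obtain ⟨θ, hθ⟩ := iso_of_ker_eq _ _ (hpW i).1 (hpW j).1 h
    have h1 : al i = al j * bar θ := by
      refine MulEquiv.ext fun x => ?_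
      obtain ⟨w, rfl⟩ := proj0_surjective x
      obtain ⟨y, rfl⟩ := (hpW i).1 w
      show al i (proj0 (pW i y)) = al j (bar θ (proj0 (pW i y)))
      rw [bar_apply]
      show τi i (pW i y) = τi j (θ (pW i y))
      rw [hθ, (hpW i).2, (hpW j).2]
    refine hq i j ⟨θ⁻¹, ?_⟩
    exact (hom_shift toOutX bar h1).trans
      (congrArg₂ (fun (s t : Cfsg.Out Xt) => s⁻¹ * t) (hal i) (hal j))
  induction i using Fin.cases with
  | zero =>
    induction j using Fin.cases with
    | zero => exact absurd rfl hne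
    | succ j =>
      obtain ⟨θ, -⟩ := iso_of_ker_eq g (pW j) hg (hpW j).1 (by simpa [Kf] using heq)
      exact ⟨θ⟩
  | succ i =>
    induction j using Fin.cases with
    | zero =>
      obtain ⟨θ, -⟩ := iso_of_ker_eq g (pW i) hg (hpW i).1 (by simpa [Kf] using heq.symm)
      exact ⟨θ⟩
    | succ j => exact absurd (congrArg Fin.succ (hWW i j (by simpa [Kf] using heq))) hne

end CfsgLib.OEightStd
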