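import Cfsg.Agent.Lib.OEightStd.KillsPoint

/-!
The full word is fixed.
-/

set_option autoImplicit false
set_option maxRecDepth 100000
set_option maxHeartbeats 1000000

namespace CfsgLib.OEightStd.Kills

/-- six choices of classes -/
def mk6 (b2 b3 b4 b9 b5 b6 : Bool) : ℕ → Bool
  | 2 => b2 | 3 => b3 | 4 => b4 | 9 => b9 | 5 => b5 | 6 => b6
  | _ => false

/-- membership in a union of classes with the full word -/
def memO (b : ℕ → Bool) (x : Fin 256) : Bool := x == top || b (clsT x)

/-- the words of a set -/
def wordsOf (m : Fin 256 → Bool) : List (Fin 256) := (List.finRange 256).filter m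

/-- pairs with a given sum -/
def cnt2 (m : Fin 256 → Bool) (c : Fin 256) : ℕ := ((wordsOf m).filter fun y => m (xr c y)).length

/-- triples with a given sum -/
def cnt3 (m : Fin 256 → Bool) (c : Fin 256) : ℕ :=
  ((wordsOf m).map fun a => ((wordsOf m).filter fun b => m (xr (xr c a) b)).length).sum

/-- the pair numbers agree on the set -/
def pairsOK (b : ℕ → Bool) : Bool :=
  [2, 3, 4, 9, 5, 6].all fun k => !b k || cnt2 (memO b) (rep k) == cnt2 (memO b) top

theorem options : ∀ b2 b3 b4 b9 b5 b6 : Bool, pairsOK (mk6 b2 b3 b4 b9 b5 b6) = true →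
    (b2, b3, b4, b9, b5, b6) ∈ [(false, false, false, false, false, false), (false, false, false, true, false, false),
      (true, false, true, true, false, true), (false, false, false, false, false, true),
      (false, false, false, false, true, false), (false, true, false, false, false, false)] := by
  decide +kernel

theorem triples_6 : cnt3 (memO (mk6 false false false false false true)) (rep 6) ≠
    cnt3 (memO (mk6 false false false false false true)) top := by decide +kernel

theorem triples_5 : cnt3 (memO (mk6 false false false false true false)) (rep 5) ≠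
    cnt3 (memO (mk6 false false false false true false)) top := by decide +kernel

theorem triples_3 : cnt3 (memO (mk6 false true false false false false)) (rep 3) ≠
    cnt3 (memO (mk6 false true false false false false)) top := by decide +kernel

/-- seven choices for the orbit of a pair word -/
def memP (b1 b3 b4 b5 b6 b7 : Bool) (x : Fin 256) : Bool :=
  clsT x == 2 || (b1 && clsT x == 1) || (b3 && clsT x == 3) || (b4 && clsT x == 4) || (b5 && clsT x == 5) ||
    (b6 && clsT x == 6) || (b7 && clsT x == 7)

theorem options_P : ∀ b1 b3 b4 b5 b6 b7 : Bool,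
    420 % (wordsOf (memP b1 b3 b4 b5 b6 b7)).length = 0 →
      cnt2 (memP b1 b3 b4 b5 b6 b7) 15 = cnt2 (memP b1 b3 b4 b5 b6 b7) top → False := by
  decide +kernel

section Orbits

variable {ev : Bool} {H : Subgroup (Equiv.Perm (Fin 256))} (hS : Sys ev H)

theorem card_words {m : Fin 256 → Bool} : (Finset.univ.filter fun y => m y = true).card = (wordsOf m).length := by
  rw [wordsOf, ← List.toFinset_card_of_nodup ((List.nodup_finRange 256).filter _)]
  congr 1
  ext y
  simp [wordsOf]

include hS in
theorem cnt2_eq {P : Fin 256 → Prop} (hP : ∀ h ∈ H, ∀ x, P x → P (h x)) (hPS : ∀ x, P x → inS ev x = true)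
    {m : Fin 256 → Bool} (hm : ∀ x, m x = true ↔ P x) {c : Fin 256} (hc : inS ev c = true)
    {h : Equiv.Perm (Fin 256)} (hh : h ∈ H) : cnt2 m c = cnt2 m (h c) := by
  classical
  have e : ∀ d : Fin 256, cnt2 m d = (Finset.univ.filter fun y => P y ∧ P (xr d y)).card := by
    intro d
    rw [cnt2, wordsOf, ← List.toFinset_card_of_nodup (((List.nodup_finRange 256).filter _).filter _)]
    congr 1
    ext y
    simp [hm, and_comm]
  rw [e, e]
  exact pair_count hS hP hPS hc hh

include hS in
theorem cnt3_eq {m : Fin 256 → Bool} (hm : ∀ x, m x = true ↔ InO H x) {c : Fin 256} (hc : inS ev c = true)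
    {h : Equiv.Perm (Fin 256)} (hh : h ∈ H) : cnt3 m c = cnt3 m (h c) := by
  classical
  have e : ∀ d : Fin 256, cnt3 m d = (Finset.univ.filter fun p : Fin 256 × Fin 256 =>
      InO H p.1 ∧ InO H p.2 ∧ InO H (xr (xr d p.1) p.2)).card := by
    intro d
    have hn : (wordsOf m).Nodup := (List.nodup_finRange 256).filter _
    rw [cnt3, ← List.sum_toFinset _ hn, ← Finset.card_sigma (wordsOf m).toFinset
      (fun a => (Finset.univ.filter fun b => InO H b ∧ InO H (xr (xr d a) b))) |>.trans (Finset.sum_congr rfl ?_)]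
    · refine Finset.card_bij (fun p _ => (p.1, p.2)) ?_ ?_ ?_
      · intro p hp
        simp only [Finset.mem_sigma, wordsOf, List.mem_toFinset, List.mem_filter, List.mem_finRange, true_and,
          hm, Finset.mem_filter, Finset.mem_univ] at hp ⊢
        exact hp
      · intro a _ b _ e
        rcases a with ⟨a1, a2⟩; rcases b with ⟨b1, b2⟩
        simp only [Prod.mk.injEq] at e
        obtain ⟨rfl, rfl⟩ := e
        rfl
      · intro p hp
        refine ⟨⟨p.1, p.2⟩, ?_, rfl⟩
        simp only [Finset.mem_sigma, wordsOf, List.mem_toFinset, List.mem_filter, List.mem_finRange, true_and,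
          hm, Finset.mem_filter, Finset.mem_univ] at hp ⊢
        exact hp
    · intro a _
      rw [← List.toFinset_card_of_nodup (hn.filter _)]
      congr 1
      ext b
      simp [hm, wordsOf, and_comm]
  rw [e, e]
  exact triple_count hS hc hh

include hS in
theorem inO_ne_zero {x : Fin 256} (hx : InO H x) : x ≠ 0 := by
  obtain ⟨h, hh, rfl⟩ := hx
  exact fun e => absurd (h.injective (e.trans (h_zero hS hh).symm)) (by decide)

include hS in
/-- the orbit is the union of some classes -/
theorem exists_classes (htr : ∀ x, inS ev x = true → cls x ∈ [2, 3, 4, 9, 5, 6] → St H (rep (cls x)) x)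
    (hno : ∀ x, InO H x → cls x ≠ 1 ∧ cls x ≠ 7) :
    ∃ b2 b3 b4 b9 b5 b6 : Bool, ∀ x, memO (mk6 b2 b3 b4 b9 b5 b6) x = true ↔ InO H x := by
  classical
  refine ⟨decide (InO H (rep 2)), decide (InO H (rep 3)), decide (InO H (rep 4)), decide (InO H (rep 9)),
    decide (InO H (rep 5)), decide (InO H (rep 6)), fun x => ?_⟩
  simp only [memO, Bool.or_eq_true, beq_iff_eq, ← cls_eq_clsT]
  have htop : InO H top := ⟨1, one_mem _, rfl⟩
  have hpar : ∀ y : Fin 256, wt (rep (cls y)) % 2 = wt y % 2 := by decide +kernel
  have fw : cls x ∈ [2, 3, 4, 9, 5, 6] → InO H x → InO H (rep (cls x)) := fun hk hx =>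
    hx.st (Rel.symm' (htr x (inS_of_inO hS hx) hk))
  have bw : cls x ∈ [2, 3, 4, 9, 5, 6] → InO H (rep (cls x)) → InO H x := fun hk hx =>
    hx.st (htr x (inS_parity (hpar x).symm (inS_of_inO hS hx)) hk)
  have hk := cls_mem x
  rw [List.mem_range] at hk
  constructor
  · rintro (rfl | hx)
    · exact htop
    · have hcase : cls x = 0 ∨ cls x = 1 ∨ cls x = 2 ∨ cls x = 3 ∨ cls x = 4 ∨ cls x = 5 ∨ cls x = 6 ∨
        cls x = 7 ∨ cls x = 8 ∨ cls x = 9 := by omega
      rcases hcase with e | e | e | e | e | e | e | e | e | e <;> rw [e] at hx bw <;>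
        simp [mk6] at hx <;> exact bw (by simp) hx
  · intro hx
    have hcase : cls x = 0 ∨ cls x = 1 ∨ cls x = 2 ∨ cls x = 3 ∨ cls x = 4 ∨ cls x = 5 ∨ cls x = 6 ∨
      cls x = 7 ∨ cls x = 8 ∨ cls x = 9 := by omega
    rcases hcase with e | e | e | e | e | e | e | e | e | e
    · exact absurd ((class_08 x).1 e) (inO_ne_zero hS hx)
    · exact absurd e (hno x hx).1
    all_goals first
      | exact absurd e (hno x hx).2
      | exact Or.inl ((class_08 x).2 e)
      | (right; rw [e] at fw ⊢; simpa [mk6] using fw (by simp) hx)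

include hS in
/-- the possible orbits -/
theorem orbit_cases {b2 b3 b4 b9 b5 b6 : Bool} (hm : ∀ x, memO (mk6 b2 b3 b4 b9 b5 b6) x = true ↔ InO H x) :
    (b2, b3, b4, b9, b5, b6) ∈ [(false, false, false, false, false, false), (false, false, false, true, false, false),
      (true, false, true, true, false, true)] := by
  have hrep : ∀ k ∈ [2, 3, 4, 9, 5, 6], mk6 b2 b3 b4 b9 b5 b6 k = true → InO H (rep k) := by
    intro k hk hb
    refine (hm _).1 ?_
    have hc : clsT (rep k) = k := by
      rw [← cls_eq_clsT]
      have key : ∀ k ∈ [2, 3, 4, 9, 5, 6], cls (rep k) = k := by decide +kernel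
      exact key k hk
    simp [memO, hc, hb]
  have h2 : ∀ k ∈ [2, 3, 4, 9, 5, 6], mk6 b2 b3 b4 b9 b5 b6 k = true →
      cnt2 (memO (mk6 b2 b3 b4 b9 b5 b6)) (rep k) = cnt2 (memO (mk6 b2 b3 b4 b9 b5 b6)) top ∧
      cnt3 (memO (mk6 b2 b3 b4 b9 b5 b6)) (rep k) = cnt3 (memO (mk6 b2 b3 b4 b9 b5 b6)) top := by
    intro k hk hb
    obtain ⟨h, hh, e⟩ := hrep k hk hb
    rw [← e]
    exact ⟨(cnt2_eq hS (fun g hg x hx => InO.map hx hg) (fun x hx => inS_of_inO hS hx) hm (inS_top ev) hh).symm,
      (cnt3_eq hS hm (inS_top ev) hh).symm⟩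
  have hok : pairsOK (mk6 b2 b3 b4 b9 b5 b6) = true := by
    simp only [pairsOK, List.all_eq_true, Bool.or_eq_true, Bool.not_eq_true', beq_iff_eq]
    intro k hk
    cases hb : mk6 b2 b3 b4 b9 b5 b6 k
    · exact Or.inl rfl
    · exact Or.inr (h2 k hk hb).1
  have h := options _ _ _ _ _ _ hok
  simp only [List.mem_cons, List.not_mem_nil, or_false] at h ⊢
  rcases h with h | h | h | h | h | h
  · exact Or.inl h
  · exact Or.inr (Or.inl h)
  · exact Or.inr (Or.inr h)
  all_goals (simp only [Prod.mk.injEq] at h; obtain ⟨rfl, rfl, rfl, rfl, rfl, rfl⟩ := h; exfalso)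
  · exact triples_6 (h2 6 (by simp) rfl).2
  · exact triples_5 (h2 5 (by simp) rfl).2
  · exact triples_3 (h2 3 (by simp) rfl).2

end Orbits

theorem count_evens : (Finset.univ.filter fun x => memO (mk6 true false true true false true) x = true).card = 127 ∧
    (∀ x : Fin 256, wt x % 2 = 0 → x ≠ 0 → memO (mk6 true false true true false true) x = true) := by
  decide +kernel

/-- all even words in the orbit -/
theorem orbO_evens {H : Subgroup (Equiv.Perm (Fin 256))}
    (hm : ∀ x, memO (mk6 true false true true false true) x = true ↔ InO H x) :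
    (orbO H).card = 127 ∧ ∀ x, wt x % 2 = 0 → x ≠ 0 → InO H x := by
  refine ⟨?_, fun x h h0 => (hm x).1 (count_evens.2 x h h0)⟩
  rw [← count_evens.1]
  congr 1
  ext x
  simp [mem_orbO, hm]

/-- the full word is fixed -/
theorem fixes_top {ev : Bool} {H : Subgroup (Equiv.Perm (Fin 256))} (hF : Frame ev H) : ∀ h ∈ H, h top = top := by
  classical
  have hS := hF.toSys
  have hno : ∀ x, InO H x → cls x ≠ 1 ∧ cls x ≠ 7 := by
    cases ev with
    | false => exact no_point hF
    | true =>
      intro x hx
      have he := inS_of_inO hS hx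
      have key : ∀ x : Fin 256, inS true x = true → cls x ≠ 1 ∧ cls x ≠ 7 := by decide +kernel
      exact key x he
  obtain ⟨b2, b3, b4, b9, b5, b6, hm⟩ := exists_classes hS (fun x hx _ => st_rep hF hx) hno
  have hcases := orbit_cases hS hm
  simp only [List.mem_cons, List.not_mem_nil, or_false, Prod.mk.injEq] at hcases
  have hcf : ∀ x, inS ev x = true → cls x % 2 = 0 ∨ cls x = 9 →
      orbS H x = Finset.univ.filter fun y => cls y = cls x := by
    intro x hx he
    ext y
    simp only [mem_orbS, Finset.mem_filter, Finset.mem_univ, true_and]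
    refine ⟨fun h => cls_of_st_even hF hx h he, fun e => ?_⟩
    have key : ∀ u v : Fin 256, cls u = cls v → wt u % 2 = wt v % 2 := by
      have k1 : ∀ u : Fin 256, wt u % 2 = if cls u = 9 then 0 else cls u % 2 := by decide +kernel
      intro u v e; rw [k1, k1, e]
    exact st_of_cls hF hx (inS_parity (key y x e) hx) e.symm
  have c15 : inS ev 15 = true := by cases ev <;> decide +kernel
  have c3 : inS ev 3 = true := by cases ev <;> decide +kernel
  rcases hcases with ⟨rfl, rfl, rfl, rfl, rfl, rfl⟩ | ⟨rfl, rfl, rfl, rfl, rfl, rfl⟩ | ⟨rfl, rfl, rfl, rfl, rfl, rfl⟩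
  · intro h hh
    have key : ∀ x : Fin 256, memO (mk6 false false false false false false) x = true → x = top := by decide +kernel
    exact key _ ((hm _).2 ⟨h, hh, rfl⟩)
  · exfalso
    have hO : (orbO H).card = 15 := by
      have : orbO H = Finset.univ.filter fun x => memO (mk6 false false false true false false) x = true := by
        ext x; simp [mem_orbO, hm]
      rw [this]; decide +kernel
    let P : Fin 256 → Prop := fun x => ∃ h ∈ H, h 3 = x
    have hPS : ∀ x, P x → inS ev x = true := by rintro x ⟨h, hh, rfl⟩; exact hS.pres h hh 3 c3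
    have hPmap : ∀ h ∈ H, ∀ x, P x → P (h x) := by
      rintro h hh x ⟨g, hg, rfl⟩; exact ⟨h * g, mul_mem hh hg, rfl⟩
    have hP3 : ∀ x, cls x = 2 → P x := by
      intro x hx
      have key : ∀ x : Fin 256, cls x = 2 → wt x % 2 = wt (3 : Fin 256) % 2 ∧ cls (3 : Fin 256) = cls x := by
        decide +kernel
      obtain ⟨h, hh, -, e⟩ := st_of_cls hF c3 (inS_parity (key x hx).1 c3) (key x hx).2
      exact ⟨h, hh, e⟩
    have hPst : ∀ x y, P x → St H x y → P y := by
      rintro x y hx ⟨h, hh, -, e⟩
      have e' : h x = y := e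
      exact e' ▸ hPmap h hh x hx
    have hPO : ∀ x, P x → ¬ InO H x := by
      rintro x ⟨h, hh, rfl⟩ ⟨g, hg, e⟩
      have hh3 : InO H 3 := ⟨h⁻¹ * g, mul_mem (inv_mem hh) hg, by
        show h.symm (g top) = 3
        rw [e, Equiv.symm_apply_apply]⟩
      exact absurd ((hm 3).2 hh3) (by decide +kernel)
    let b : ℕ → Bool := fun k => decide (P (rep k))
    have hmP : ∀ x, memP (b 1) (b 3) (b 4) (b 5) (b 6) (b 7) x = true ↔ P x := by
      intro x
      simp only [memP, Bool.or_eq_true, Bool.and_eq_true, beq_iff_eq, ← cls_eq_clsT, b, decide_eq_true_eq]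
      have hpar : ∀ y : Fin 256, wt (rep (cls y)) % 2 = wt y % 2 := by decide +kernel
      have fw : P x → P (rep (cls x)) := fun hx => hPst _ _ hx (Rel.symm' (st_rep hF (hPS x hx)))
      have bw : P (rep (cls x)) → P x := fun hx =>
        hPst _ _ hx (st_rep hF (inS_parity (hpar x).symm (hPS _ hx)))
      constructor
      · rintro ((((((e | ⟨h, e⟩) | ⟨h, e⟩) | ⟨h, e⟩) | ⟨h, e⟩) | ⟨h, e⟩) | ⟨h, e⟩)
        · exact hP3 x e
        all_goals (rw [← e] at h; exact bw h)
      · intro hx
        have hk := cls_mem x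
        rw [List.mem_range] at hk
        have h1 : cls x ≠ 8 := fun e => hPO x hx (by
          rw [(class_08 x).2 e]; exact ⟨1, one_mem _, rfl⟩)
        have h2 : cls x ≠ 0 := fun e => by
          obtain ⟨h, hh, e'⟩ := hx
          rw [(class_08 x).1 e, ← h_zero hS hh] at e'
          exact absurd (h.injective e') (by decide)
        have h3 : cls x ≠ 9 := fun e => hPO x hx ((hm x).1 (by simp [memO, ← cls_eq_clsT, e, mk6]))
        have hf := fw hx
        rcases (show cls x = 1 ∨ cls x = 2 ∨ cls x = 3 ∨ cls x = 4 ∨ cls x = 5 ∨ cls x = 6 ∨ cls x = 7 by omega)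
          with e | e | e | e | e | e | e <;> rw [e] at hf <;> simp [e, hf]
    refine options_P (b 1) (b 3) (b 4) (b 5) (b 6) (b 7) ?_ ?_
    · let R := relSet H (top, 3)
      let PF := Finset.univ.filter fun x => P x
      have hR : R.card = 420 := by
        rw [card_relSet, hO, hcf 3 c3 (Or.inl (by decide +kernel))]
        decide +kernel
      have hsum := Finset.card_eq_sum_card_fiberwise (f := Prod.snd) (s := R) (t := PF) (fun p hp => by
        obtain ⟨h, hh, -, e⟩ := mem_relSet.1 hp
        exact Finset.mem_filter.2 ⟨Finset.mem_univ _, h, hh, e⟩)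
      have hfib : ∀ x ∈ PF, (R.filter fun p => p.2 = x).card = (R.filter fun p => p.2 = 3).card := by
        intro x hx
        obtain ⟨h, hh, e⟩ := (Finset.mem_filter.1 hx).2
        refine (Finset.card_bij (fun p _ => (h p.1, h p.2)) ?_ ?_ ?_).symm
        · intro p hp
          obtain ⟨hp1, hp2⟩ := Finset.mem_filter.1 hp
          obtain ⟨k, hk, k1, k2⟩ := mem_relSet.1 hp1
          refine Finset.mem_filter.2 ⟨mem_relSet.2 ⟨h * k, mul_mem hh hk, ?_, ?_⟩, ?_⟩
          · show h (k top) = h p.1
            rw [k1]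
          · show h (k 3) = h p.2
            rw [k2]
          · show h p.2 = x
            rw [hp2, e]
        · intro a _ c _ e'
          simp only [Prod.mk.injEq] at e'
          exact Prod.ext (h.injective e'.1) (h.injective e'.2)
        · intro p hp
          obtain ⟨hp1, hp2⟩ := Finset.mem_filter.1 hp
          obtain ⟨k, hk, k1, k2⟩ := mem_relSet.1 hp1
          refine ⟨(h.symm p.1, h.symm p.2), Finset.mem_filter.2 ⟨mem_relSet.2
            ⟨h⁻¹ * k, mul_mem (inv_mem hh) hk, ?_, ?_⟩, ?_⟩,
            Prod.ext (h.apply_symm_apply _) (h.apply_symm_apply _)⟩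
          · show h.symm (k top) = h.symm p.1
            rw [k1]
          · show h.symm (k 3) = h.symm p.2
            rw [k2]
          · show h.symm p.2 = 3
            rw [hp2, ← e, Equiv.symm_apply_apply]
      rw [Finset.sum_congr rfl hfib, Finset.sum_const, smul_eq_mul, hR] at hsum
      have hlen : (wordsOf (memP (b 1) (b 3) (b 4) (b 5) (b 6) (b 7))).length = PF.card := by
        rw [← card_words]; congr 1; ext x; simp [PF, hmP]
      rw [hlen, hsum]
      exact Nat.mul_mod_right _ _
    · obtain ⟨h, hh, e⟩ := (hm 15).1 (by decide +kernel)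
      rw [← e]
      exact (cnt2_eq hS hPmap hPS hmP (inS_top ev) hh).symm
  · exfalso
    obtain ⟨hcard, hall⟩ := orbO_evens hm
    have hy : InO H 15 := hall 15 (by decide +kernel) (by decide)
    obtain ⟨t, htS, hrel⟩ := exists_rot hS hy
    have hc := card_rot hS c15 hrel
    rw [hcf 15 c15 (Or.inr (by decide +kernel))] at hc
    have cards : ∀ k, k < 10 → (Finset.univ.filter fun y : Fin 256 => cls y = k).card =
        [1, 8, 28, 56, 56, 56, 28, 8, 1, 14].getD k 0 := by decide +kernel
    have h15 : cls (15 : Fin 256) = 9 := by decide +kernel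
    rw [h15, cards 9 (by norm_num), show [1, 8, 28, 56, 56, 56, 28, 8, 1, 14].getD 9 0 = 14 from rfl] at hc
    have hsub : (Finset.univ.filter fun y => cls y = cls t) ⊆ orbS H t := fun y hy' => by
      have key : ∀ u v : Fin 256, cls u = cls v → wt u % 2 = wt v % 2 := by
        have k1 : ∀ u : Fin 256, wt u % 2 = if cls u = 9 then 0 else cls u % 2 := by decide +kernel
        intro u v e; rw [k1, k1, e]
      have e := (Finset.mem_filter.1 hy').2
      exact mem_orbS.2 (st_of_cls hF htS (inS_parity (key y t e) htS) e.symm)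
    have hk := cls_mem t
    rw [List.mem_range] at hk
    have hle := Finset.card_le_card hsub
    rw [cards _ hk] at hle
    have he : cls t % 2 = 0 ∨ cls t = 9 ∨ cls t = 1 ∨ cls t = 7 := by
      rcases (show cls t = 0 ∨ cls t = 1 ∨ cls t = 2 ∨ cls t = 3 ∨ cls t = 4 ∨ cls t = 5 ∨ cls t = 6 ∨
        cls t = 7 ∨ cls t = 8 ∨ cls t = 9 by omega) with e | e | e | e | e | e | e | e | e | e <;>
        rw [e] at hle <;> simp at hle <;> omega
    have h9 : cls t = 9 := by
      rcases he with e | e | e | e
      · rw [hcf t htS (Or.inl e), cards _ hk] at hc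
        rcases (show cls t = 0 ∨ cls t = 2 ∨ cls t = 4 ∨ cls t = 6 ∨ cls t = 8 by omega) with e' | e' | e' | e' | e' <;>
          rw [e'] at hc <;> simp at hc
      · exact e
      all_goals (
        exfalso
        obtain ⟨k, hk', k1, k2⟩ := hrel
        have hpz : wt (rot (top, 15)).2 % 2 = 0 ∧ wt (rot (top, 15)).1 % 2 = 0 := by decide +kernel
        have hnz : (rot (top, 15)).2 ≠ 0 := by decide +kernel
        obtain ⟨g, hg, ge⟩ := hall _ hpz.1 hnz
        have htO : InO H t := ⟨k⁻¹ * g, mul_mem (inv_mem hk') hg, by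
          show k.symm (g top) = t
          rw [ge, ← k2, Equiv.symm_apply_apply]⟩
        have := hno t htO
        omega)
    have h3 := three_dvd hS (by decide) c15 ((st_of_cls hF c15 htS (h15.trans h9.symm)).trans' hrel)
    rw [hcard, hcf 15 c15 (Or.inr h15), h15, cards 9 (by norm_num)] at h3
    revert h3
    decide

/-- the full word is fixed in the second even shape -/
theorem fixes_top' {H : Subgroup (Equiv.Perm (Fin 256))} (hE : Even' H) : ∀ h ∈ H, h top = top := by
  classical
  have hS := hE.toSys
  have gen : ∀ f ∈ gsD, ∃ h ∈ H, h top = top ∧ ∀ x, inS true x = true → h x = f x := by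
    intro f hf
    obtain ⟨⟨k, l⟩, hkl, rfl⟩ := List.mem_map.1 hf
    have hne : k ≠ l := by
      simp only [List.mem_cons, List.not_mem_nil, or_false, Prod.mk.injEq] at hkl
      rcases hkl with ⟨rfl, rfl⟩ | ⟨rfl, rfl⟩ | ⟨rfl, rfl⟩ | ⟨rfl, rfl⟩ | ⟨rfl, rfl⟩ | ⟨rfl, rfl⟩ <;> decide
    obtain ⟨h, hh, he⟩ := hE.lower 0 1 k l (by decide) hne
    refine ⟨h, hh, ?_, he⟩
    rw [he top (inS_top true), pm_top (Equiv.injective _), pm_top (Equiv.injective _)]
  let rw' : Fin 256 → Fin 256 := fun x => rep (if wt x == 4 then 9 else wt x)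
  have st_rw : ∀ x, inS true x = true → St H (rw' x) x := by
    intro x hx
    show St H (rep (if wt x == 4 then 9 else wt x)) x
    rw [← (tree_D x).2.2]
    exact st_tree hS gen (fun y hy => ⟨inS_parity (tree_D y).2.1 hy, (tree_D y).1⟩) 15 x hx
  have hpar : ∀ x : Fin 256, inS true x = true ↔ wt x % 2 = 0 := by decide +kernel
  have st_wt : ∀ x y, inS true x = true → inS true y = true → wt x = wt y → St H x y := by
    intro x y hx hy e
    have e' : rw' x = rw' y := by simp only [rw', e]
    exact (Rel.symm' (st_rw x hx)).trans' (e' ▸ st_rw y hy)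
  have wt_st : ∀ x y, inS true x = true → St H x y → wt y = wt x := by
    rintro x y hx ⟨h, hh, ht, e⟩
    have e' : h x = y := e
    rw [← e', hE.upper h hh ht x hx]
  have hw : ∀ x y : Fin 256, cls x = cls y → wt x = wt y := by
    have k1 : ∀ u : Fin 256, wt u = if cls u = 9 then 4 else cls u := by decide +kernel
    intro x y e; rw [k1, k1, e]
  obtain ⟨b2, b3, b4, b9, b5, b6, hm⟩ := exists_classes hS (fun x hx _ => by
      refine st_wt _ _ ?_ hx ?_
      · have key : ∀ x : Fin 256, inS true x = true → inS true (rep (cls x)) = true := by decide +kernel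
        exact key x hx
      · exact hw _ _ (cls_rep _ (cls_mem x)))
    (fun x hx => by
      have key : ∀ x : Fin 256, inS true x = true → cls x ≠ 1 ∧ cls x ≠ 7 := by decide +kernel
      exact key x (inS_of_inO hS hx))
  have hcases := orbit_cases hS hm
  simp only [List.mem_cons, List.not_mem_nil, or_false, Prod.mk.injEq] at hcases
  rcases hcases with ⟨rfl, rfl, rfl, rfl, rfl, rfl⟩ | ⟨rfl, rfl, rfl, rfl, rfl, rfl⟩ | ⟨rfl, rfl, rfl, rfl, rfl, rfl⟩
  · intro h hh
    have key : ∀ x : Fin 256, memO (mk6 false false false false false false) x = true → x = top := by decide +kernel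
    exact key _ ((hm _).2 ⟨h, hh, rfl⟩)
  · exfalso
    have h1 : InO H 15 := (hm 15).1 (by decide +kernel)
    have h2 : InO H 23 := h1.st (st_wt 15 23 (by decide +kernel) (by decide +kernel) (by decide +kernel))
    exact absurd ((hm 23).2 h2) (by decide +kernel)
  · exfalso
    obtain ⟨hcard, hall⟩ := orbO_evens hm
    have horb : ∀ x, inS true x = true → orbS H x = Finset.univ.filter fun y => wt y = wt x := by
      intro x hx
      ext y
      simp only [mem_orbS, Finset.mem_filter, Finset.mem_univ, true_and]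
      exact ⟨wt_st x y hx, fun e => st_wt x y hx ((hpar y).2 (e ▸ (hpar x).1 hx)) e.symm⟩
    have h26 : ∀ x, inS true x = true → (orbS H x).card = 28 → wt x = 2 ∨ wt x = 6 := by
      intro x hx h
      rw [horb x hx] at h
      have key : ∀ k, k < 9 → (Finset.univ.filter fun y : Fin 256 => wt y = k).card = 28 → k = 2 ∨ k = 6 := by
        decide +kernel
      have hlt : ∀ x : Fin 256, wt x < 9 := by decide +kernel
      exact key _ (hlt x) h
    have h28 : ∀ x, inS true x = true → (wt x = 2 ∨ wt x = 6) → (orbS H x).card = 28 := by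
      intro x hx h
      rw [horb x hx]
      rcases h with e | e <;> rw [e] <;> decide +kernel
    have c3 : inS true 3 = true := by decide +kernel
    have w3 : wt (3 : Fin 256) = 2 := by decide +kernel
    obtain ⟨t, htS, hrel⟩ := exists_rot hS (hall 3 (by decide +kernel) (by decide))
    have htc : (orbS H t).card = 28 := by rw [card_rot hS c3 hrel, h28 3 c3 (Or.inl w3)]
    have main : wt t ≠ 6 := by
      intro h6
      have ht0 : t ≠ 0 := fun e => by rw [e] at h6; exact absurd h6 (by decide +kernel)
      obtain ⟨t2, ht2S, hrel2⟩ := exists_rot hS (hall t (by omega) ht0)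
      have h2c := h26 t2 ht2S (by rw [card_rot hS htS hrel2, h28 t htS (Or.inr h6)])
      have hq1 : inS true (rot (top, (3 : Fin 256))).1 = true ∧ inS true (rot (top, (3 : Fin 256))).2 = true ∧
        inS true (rot (rot (top, (3 : Fin 256)))).1 = true ∧ inS true (rot (rot (top, (3 : Fin 256)))).2 = true := by
        decide +kernel
      have hB : Rel H (rot (top, t)) (rot (rot (top, 3))) := hrel.rotate hS (inS_top _) htS
      have hC : Rel H (top, t2) (rot (rot (top, 3))) := hrel2.trans' hB
      have bad : Rel H (top, 3) (rot (top, 3)) → False := fun h => by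
        have := wt_st 3 t c3 (h.trans' hrel.symm')
        omega
      rcases h2c with e2 | e2
      · have h1 : Rel H (top, 3) (rot (rot (top, 3))) := Rel.trans' (st_wt 3 t2 c3 ht2S (w3.trans e2.symm)) hC
        have h2 := h1.rotate hS (inS_top _) c3
        rw [rot_three] at h2
        exact bad h2.symm'
      · have h1 : Rel H (rot (top, 3)) (rot (rot (top, 3))) :=
          hrel.symm'.trans' (Rel.trans' (st_wt t t2 htS ht2S (h6.trans e2.symm)) hC)
        have h2 := (h1.rotate hS hq1.1 hq1.2.1).rotate hS hq1.2.2.1 hq1.2.2.2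
        rw [rot_three] at h2
        exact bad h2
    have h2 : wt t = 2 := (h26 t htS htc).resolve_right main
    have h3 := three_dvd hS (by decide) c3 (Rel.trans' (st_wt 3 t c3 htS (w3.trans h2.symm)) hrel)
    rw [hcard, h28 3 c3 (Or.inl w3)] at h3
    revert h3
    decide

end CfsgLib.OEightStd.Kills
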