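import Cfsg.Agent.Lib.OEightStd.Group

/-!
For an element of square the negation, the negation is a product of elements of order dividing three
in the even part commuting with it.
-/

set_option autoImplicit false
set_option maxRecDepth 100000
set_option linter.unusedSectionVars false

namespace CfsgLib.OEightStd

open Matrix CfsgLib.E8

theorem refl_eq {x y : Ix → ℤ} (hx : q x = 1) (hy : q y = 1) (h : x = y ∨ x = -y) : refl x hx = refl y hy := by
  refine ext_act fun v => ?_
  rcases h with rfl | rfl
  · rfl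
  · rw [act_refl, act_refl, bil_neg_left]; module

theorem refl_comm {x y : Ix → ℤ} (hx : q x = 1) (hy : q y = 1) (h : bil x y = 0) :
    refl x hx * refl y hy = refl y hy * refl x hx := by
  have := refl_conj (refl x hx) hy
  rw [refl_eq _ hy (Or.inl (refl_apply_orth hx h))] at this
  exact mul_inv_eq_iff_eq_mul.1 this

theorem refl_braid {x y : Ix → ℤ} (hx : q x = 1) (hy : q y = 1) (h : bil x y = 1 ∨ bil x y = -1) :
    (refl x hx * refl y hy) ^ 3 = 1 := by
  have h1 := refl_conj (refl x hx) hy
  have h2 := refl_conj (refl y hy) hx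
  rw [inv_eq_of_mul_eq_one_right (refl_sq hx)] at h1
  rw [inv_eq_of_mul_eq_one_right (refl_sq hy)] at h2
  have heq : refl x hx * refl y hy * refl x hx = refl y hy * refl x hx * refl y hy := by
    rw [h1, h2]
    refine refl_eq _ _ ?_
    rw [act_refl, act_refl, bil_comm y x]
    rcases h with h | h <;> rw [h]
    · right; module
    · left; module
  calc (refl x hx * refl y hy) ^ 3
      = (refl x hx * refl y hy * refl x hx) * (refl y hy * refl x hx * refl y hy) := by
        rw [pow_succ, pow_succ, pow_one]; group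
    _ = (refl y hy * refl x hx * refl y hy) * (refl y hy * refl x hx * refl y hy) := by rw [heq]
    _ = refl y hy * refl x hx * (refl y hy * refl y hy) * refl x hx * refl y hy := by group
    _ = 1 := by rw [refl_sq, mul_one, mul_assoc (refl y hy), refl_sq, mul_one, refl_sq]

theorem exists_perp {l : List (Ix → ℤ)} (h : Orth l) (hl : l.length < 8) :
    ∃ x, q x = 1 ∧ ∀ y ∈ l, bil y x = 0 := by
  classical
  obtain ⟨g, hg⟩ := exists_frame h
  choose f hf using fun i : Fin l.length => hg _ (List.getElem_mem i.2)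
  obtain ⟨k, hk⟩ : ∃ k, ∀ i, f i ≠ k := by
    by_contra! hall
    have := Fintype.card_le_of_surjective f hall
    simp at this
    omega
  refine ⟨act g⁻¹ (a k), by rw [act_q, a_norm], fun y hy => ?_⟩
  obtain ⟨i, hi, rfl⟩ := List.getElem_of_mem hy
  rw [← act_bil g, act_act_inv]
  rcases hf ⟨i, hi⟩ with e | e <;> rw [e]
  · exact orth' _ _ (hk _)
  · rw [bil_neg_left, orth' _ _ (hk _), neg_zero]

theorem exists_linker {x x' y y' : Ix → ℤ} (h : Orth [x, x', y, y']) :
    ∃ e, q e = 1 ∧ (bil e x = 1 ∨ bil e x = -1) ∧ bil e x' = 0 ∧ (bil e y = 1 ∨ bil e y = -1) ∧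
      bil e y' = 0 := by
  obtain ⟨g, hg⟩ := exists_frame h
  obtain ⟨i, hi⟩ := hg x (by simp)
  obtain ⟨j, hj⟩ := hg x' (by simp)
  obtain ⟨k, hk⟩ := hg y (by simp)
  obtain ⟨l, hl⟩ := hg y' (by simp)
  have hb : ∀ {v : Ix → ℤ} {m : Fin 8}, (act g v = a m ∨ act g v = -a m) → bv (act g v) = fb m := by
    intro v m h
    rcases h with h | h <;> rw [h]
    · exact bv_a m
    · rw [bv_neg, bv_a]
  have hne : ∀ {v w : Ix → ℤ} {m n : Fin 8}, v ∈ [x, x', y, y'] → w ∈ [x, x', y, y'] → bil v w = 0 →
      (act g v = a m ∨ act g v = -a m) → (act g w = a n ∨ act g w = -a n) → m ≠ n := by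
    intro v w m n hv hw h0 h1 h2 e
    have := (bil_eq_zero_iff (by rw [act_q, h.1 v hv]) (by rw [act_q, h.1 w hw])).1 ((act_bil g v w).trans h0)
    exact this.2 (by rw [hb h1, hb h2, e])
  obtain ⟨p1, h'⟩ := List.pairwise_cons.1 h.2
  obtain ⟨p2, h''⟩ := List.pairwise_cons.1 h'
  obtain ⟨p3, -⟩ := List.pairwise_cons.1 h''
  obtain ⟨v, hv, v1, v2, v3, v4⟩ := linker_bits i j k l
    (hne (by simp) (by simp) (p1 x' (by simp)) hi hj) (hne (by simp) (by simp) (p1 y (by simp)) hi hk)
    (hne (by simp) (by simp) (p1 y' (by simp)) hi hl) (hne (by simp) (by simp) (p2 y (by simp)) hj hk)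
    (hne (by simp) (by simp) (p2 y' (by simp)) hj hl) (hne (by simp) (by simp) (p3 y' (by simp)) hk hl)
  obtain ⟨e, he, hev⟩ := exists_root hv v.2
  have key : ∀ {w : Ix → ℤ} {m : Fin 8}, q w = 1 → (act g w = a m ∨ act g w = -a m) →
      odd (bil (act g⁻¹ e) w) = bb v.1 (fb m) := by
    intro w m hw hm
    rw [← hb hm, ← hev, bb_bv, ← act_bil g, act_act_inv]
  have hq : q (act g⁻¹ e) = 1 := by rw [act_q, he]
  have one : ∀ {w : Ix → ℤ}, q w = 1 → odd (bil (act g⁻¹ e) w) = true →
      bil (act g⁻¹ e) w = 1 ∨ bil (act g⁻¹ e) w = -1 := by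
    intro w hw ho
    obtain ⟨a1, a2, -, -⟩ := root_bounds hq hw
    simp only [odd, decide_eq_true_eq] at ho
    omega
  have X := one (h.1 x (by simp)) (by rw [key (h.1 x (by simp)) hi, v1])
  have Y := one (h.1 y (by simp)) (by rw [key (h.1 y (by simp)) hk, v3])
  have zero : ∀ {w : Ix → ℤ}, q w = 1 → bil x w = 0 → odd (bil (act g⁻¹ e) w) = false →
      bil (act g⁻¹ e) w = 0 := by
    intro w hw hxw ho
    obtain ⟨a1, a2, e1, e2⟩ := root_bounds hq hw
    simp only [odd, decide_eq_false_iff_not] at ho
    rcases (show bil (act g⁻¹ e) w = 0 ∨ bil (act g⁻¹ e) w = 2 ∨ bil (act g⁻¹ e) w = -2 by omega) with a3 | a3 | a3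
    · exact a3
    · rw [e1 a3, bil_comm, hxw] at X; norm_num at X
    · rw [e2 a3, bil_neg_left, bil_comm, hxw] at X; norm_num at X
  exact ⟨_, hq, X, zero (h.1 x' (by simp)) (p1 x' (by simp)) (by rw [key (h.1 x' (by simp)) hj, v2]), Y,
    zero (h.1 y' (by simp)) (p1 y' (by simp)) (by rw [key (h.1 y' (by simp)) hl, v4])⟩

/-- the product of the reflections in a root and its image -/
def dbl (u : W) (x : Ix → ℤ) (hx : q x = 1) : W := refl x hx * refl (act u x) (by rw [act_q, hx])

/-- the negation as a product of commuting elements of order dividing three -/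
theorem negW_product {u : W} (hu : u * u = negW) :
    ∃ l : List W, (∀ m ∈ l, m ∈ Wp ∧ m ^ 3 = 1 ∧ m * u = u * m) ∧ l.prod = negW := by
  classical
  have hinv : ∀ x, act u (act u x) = -x := fun x => by rw [← act_mul, hu, act_negW]
  have hperp : ∀ x, bil x (act u x) = 0 := fun x => by
    have := act_bil u x (act u x)
    rw [hinv, bil_neg_right, bil_comm] at this
    linarith
  have hflip : ∀ x y, bil x (act u y) = -bil (act u x) y := fun x y => by
    have := act_bil u x (act u y)
    rw [hinv, bil_neg_right] at this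
    linarith
  have hmem : ∀ x (hx : q x = 1), dbl u x hx ∈ Wp := fun x hx => pair_mem_Wp _ _
  have hcomm : ∀ x (hx : q x = 1), dbl u x hx * u = u * dbl u x hx := by
    intro x hx
    have h1 := refl_conj u hx
    have h2 := refl_conj u (show q (act u x) = 1 by rw [act_q, hx])
    rw [refl_eq _ hx (Or.inr (hinv x))] at h2
    rw [dbl]
    symm
    calc u * (refl x hx * refl (act u x) _)
        = (u * refl x hx * u⁻¹) * (u * refl (act u x) _ * u⁻¹) * u := by group
      _ = _ := by rw [h1, h2, refl_comm _ _ (by rw [bil_comm]; exact hperp x)]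
  have hdsq : ∀ x (hx : q x = 1), dbl u x hx * dbl u x hx = 1 := by
    intro x hx
    rw [dbl]
    calc _ = refl x hx * refl (act u x) _ * (refl (act u x) _ * refl x hx) := by
          nth_rewrite 2 [refl_comm hx _ (hperp x)]; rfl
      _ = _ := by rw [mul_assoc, ← mul_assoc (refl (act u x) _), refl_sq, one_mul, refl_sq]
  have h3 : ∀ x y (hx : q x = 1) (hy : q y = 1), (bil x y = 1 ∨ bil x y = -1) → bil x (act u y) = 0 →
      (dbl u x hx * dbl u y hy) ^ 3 = 1 := by
    intro x y hx hy hxy hxy'
    have hux : q (act u x) = 1 := by rw [act_q, hx]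
    have huy : q (act u y) = 1 := by rw [act_q, hy]
    have hyx : bil (act u x) y = 0 := by have := hflip x y; linarith
    have c : Commute (refl x hx * refl y hy) (refl (act u x) hux * refl (act u y) huy) := by
      refine (Commute.mul_right ?_ ?_).mul_left (Commute.mul_right ?_ ?_)
      · exact refl_comm _ _ (hperp x)
      · exact refl_comm _ _ hxy'
      · exact refl_comm _ _ (by rw [bil_comm]; exact hyx)
      · exact refl_comm _ _ (hperp y)
    have e : dbl u x hx * dbl u y hy = (refl x hx * refl y hy) * (refl (act u x) hux * refl (act u y) huy) := by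
      rw [dbl, dbl, mul_assoc (refl x hx), ← mul_assoc (refl (act u x) _),
        refl_comm hux hy hyx, mul_assoc (refl y hy), ← mul_assoc (refl x hx)]
    rw [e, c.mul_pow, refl_braid hx hy hxy, refl_braid hux huy (by rw [act_bil]; exact hxy), one_mul]
  -- four pairs
  let P : List (Ix → ℤ) → List (Ix → ℤ) := fun l => l.flatMap fun x => [x, act u x]
  have hext : ∀ l, Orth (P l) → l.length < 4 → ∃ x, q x = 1 ∧ Orth (P (x :: l)) := by
    intro l hl hlen
    have hP : (P l).length = 2 * l.length := by
      simp only [P, List.length_flatMap]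
      induction l with
      | nil => simp
      | cons a t ih' => simp [List.sum_replicate, mul_add, Nat.add_comm]; omega
    obtain ⟨x, hx, hxo⟩ := exists_perp hl (by omega)
    refine ⟨x, hx, ?_⟩
    have hc : P (x :: l) = x :: act u x :: P l := rfl
    rw [hc]
    refine ⟨fun v hv => ?_, List.pairwise_cons.2 ⟨fun v hv => ?_, List.pairwise_cons.2 ⟨fun v hv => ?_, hl.2⟩⟩⟩
    · rcases List.mem_cons.1 hv with rfl | hv
      · exact hx
      rcases List.mem_cons.1 hv with rfl | hv
      exacts [by rw [act_q, hx], hl.1 v hv]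
    · rcases List.mem_cons.1 hv with rfl | hv
      exacts [hperp x, by rw [bil_comm]; exact hxo v hv]
    · simp only [P, List.mem_flatMap, List.mem_cons, List.not_mem_nil, or_false] at hv
      obtain ⟨w, hw, hv⟩ := hv
      rcases hv with rfl | rfl
      · have e1 := hxo (act u v) (List.mem_flatMap.2 ⟨v, hw, by simp⟩)
        rw [bil_comm] at e1
        have := hflip x v
        linarith
      · rw [act_bil, bil_comm]; exact hxo w (List.mem_flatMap.2 ⟨w, hw, by simp⟩)
  obtain ⟨x1, q1, h1⟩ := hext [] ⟨by simp [P], by simp [P]⟩ (by simp)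
  obtain ⟨x2, q2, h2⟩ := hext [x1] h1 (by simp)
  obtain ⟨x3, q3, h3'⟩ := hext [x2, x1] h2 (by simp)
  obtain ⟨x4, q4, h4⟩ := hext [x3, x2, x1] h3' (by simp)
  have o12 : Orth [x2, act u x2, x1, act u x1] := h2
  have o34 : Orth [x4, act u x4, x3, act u x3] :=
    ⟨fun v hv => h4.1 v (List.Sublist.mem hv (by simp [P])), h4.2.sublist (by simp [P])⟩
  obtain ⟨e, he, e2, e2', e1, e1'⟩ := exists_linker o12
  obtain ⟨f, hf, f4, f4', f3, f3'⟩ := exists_linker o34
  refine ⟨[dbl u x1 q1 * dbl u e he, dbl u e he * dbl u x2 q2, dbl u x3 q3 * dbl u f hf,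
    dbl u f hf * dbl u x4 q4], ?_, ?_⟩
  · intro m hm
    simp only [List.mem_cons, List.not_mem_nil, or_false] at hm
    have hc2 : ∀ {s t : W}, s * u = u * s → t * u = u * t → s * t * u = u * (s * t) :=
      fun {s t} hs ht => (show Commute (s * t) u from Commute.mul_left hs ht)
    rcases hm with rfl | rfl | rfl | rfl
    · exact ⟨mul_mem (hmem _ _) (hmem _ _), h3 _ _ _ _ (by rwa [bil_comm]) (by
        have := hflip x1 e; rw [bil_comm (act u x1)] at this; linarith), hc2 (hcomm _ _) (hcomm _ _)⟩
    · exact ⟨mul_mem (hmem _ _) (hmem _ _), h3 _ _ _ _ e2 e2', hc2 (hcomm _ _) (hcomm _ _)⟩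
    · exact ⟨mul_mem (hmem _ _) (hmem _ _), h3 _ _ _ _ (by rwa [bil_comm]) (by
        have := hflip x3 f; rw [bil_comm (act u x3)] at this; linarith), hc2 (hcomm _ _) (hcomm _ _)⟩
    · exact ⟨mul_mem (hmem _ _) (hmem _ _), h3 _ _ _ _ f4 f4', hc2 (hcomm _ _) (hcomm _ _)⟩
  · simp only [List.prod_cons, List.prod_nil, mul_one]
    rw [show dbl u x1 q1 * dbl u e he * (dbl u e he * dbl u x2 q2 * (dbl u x3 q3 * dbl u f hf * (dbl u f hf *
      dbl u x4 q4))) = dbl u x1 q1 * (dbl u e he * dbl u e he) * dbl u x2 q2 * dbl u x3 q3 *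
        (dbl u f hf * dbl u f hf) * dbl u x4 q4 by group]
    rw [hdsq, hdsq, mul_one, mul_one]
    -- both sides negate eight orthogonal roots
    obtain ⟨g, hg⟩ := exists_frame h4
    choose k hk using fun i : Fin (P [x4, x3, x2, x1]).length => hg _ (List.getElem_mem i.2)
    have hlen : (P [x4, x3, x2, x1]).length = 8 := rfl
    have hk_inj : Function.Injective k := by
      intro i j e
      by_contra hne
      have h0 : bil (P [x4, x3, x2, x1])[i.1] (P [x4, x3, x2, x1])[j.1] = 0 := by
        rcases Nat.lt_or_gt_of_ne (fun h => hne (Fin.ext h)) with hlt | hlt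
        · exact List.pairwise_iff_getElem.1 h4.2 _ _ i.2 j.2 hlt
        · rw [bil_comm]; exact List.pairwise_iff_getElem.1 h4.2 _ _ j.2 i.2 hlt
      rw [← act_bil g] at h0
      rcases hk i with a1 | a1 <;> rcases hk j with a2 | a2 <;>
        rw [a1, a2, e] at h0 <;> simp [bil_neg_left, bil_neg_right, bil_self, a_norm, q_neg] at h0
    have hk_surj : Function.Surjective k :=
      ((Fintype.bijective_iff_injective_and_card k).2 ⟨hk_inj, by simp [hlen]⟩).2
    classical
    let d : (Ix → ℤ) → W := fun x => if hx : q x = 1 then dbl u x hx else 1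
    have hd : ∀ {x} (hx : q x = 1), d x = dbl u x hx := fun {x} hx => dif_pos hx
    have hprod : ∀ l : List (Ix → ℤ), Orth (P l) →
        (∀ v ∈ P l, act (l.map d).prod v = -v) ∧
          ∀ v, (∀ w ∈ P l, bil w v = 0) → act (l.map d).prod v = v := by
      intro l hl
      induction l with
      | nil => exact ⟨fun v hv => by simp [P] at hv, fun v _ => act_one v⟩
      | cons x t ih =>
        obtain ⟨hq, hp⟩ := hl
        have hc : P (x :: t) = x :: act u x :: P t := rfl
        rw [hc] at hq hp ⊢
        obtain ⟨p1, hp'⟩ := List.pairwise_cons.1 hp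
        obtain ⟨p2, hp''⟩ := List.pairwise_cons.1 hp'
        obtain ⟨i1, i2⟩ := ih ⟨fun v hv => hq v (by simp [hv]), hp''⟩
        have hx : q x = 1 := hq x List.mem_cons_self
        have hux : q (act u x) = 1 := by rw [act_q, hx]
        have hfix : ∀ v, bil x v = 0 → bil (act u x) v = 0 → act (d x) v = v := fun v h h' => by
          rw [hd hx, dbl, act_mul, refl_apply_orth hux h', refl_apply_orth hx h]
        refine ⟨fun v hv => ?_, fun v hv => ?_⟩
        · rw [List.map_cons, List.prod_cons, act_mul]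
          rcases List.mem_cons.1 hv with rfl | hv
          · rw [i2 _ fun w hw => by rw [bil_comm]; exact p1 w (by simp [hw]), hd hx, dbl, act_mul,
              refl_apply_orth (y := v) hux (by rw [bil_comm]; exact hperp v), refl_apply_self]
          rcases List.mem_cons.1 hv with rfl | hv
          · rw [i2 _ fun w hw => by rw [bil_comm]; exact p2 w hw, hd hx, dbl, act_mul, refl_apply_self,
              act_neg, refl_apply_orth hx (hperp x)]
          · rw [i1 v hv, act_neg, hfix v (p1 v (by simp [hv])) (p2 v hv)]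
        · rw [List.map_cons, List.prod_cons, act_mul, i2 v fun w hw => hv w (by simp [hw]),
            hfix v (hv _ List.mem_cons_self) (hv _ (by simp))]
    obtain ⟨D, hD⟩ : ∃ D, D = ([x4, x3, x2, x1].map d).prod := ⟨_, rfl⟩
    have hneg : ∀ v ∈ P [x4, x3, x2, x1], act D v = -v := hD ▸ (hprod _ h4).1
    have hconj : g * D * g⁻¹ = negW := by
      refine ext_frame fun j => ?_
      obtain ⟨i, rfl⟩ := hk_surj j
      rw [act_negW, act_mul, act_mul]
      rcases hk i with e | e
      · rw [← e, act_inv_act, hneg _ (List.getElem_mem i.2), act_neg]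
      · rw [show a (k i) = act g (-(P [x4, x3, x2, x1])[i.1]) by rw [act_neg, e, neg_neg], act_inv_act, act_neg D,
          hneg _ (List.getElem_mem i.2), neg_neg, act_neg, neg_neg]
    have hDz : D = negW := by
      calc D = g⁻¹ * (g * D * g⁻¹) * g := by group
        _ = g⁻¹ * negW * g := by rw [hconj]
        _ = negW := by
          rw [Subgroup.mem_center_iff.1 negW_central g⁻¹, mul_assoc, inv_mul_cancel, mul_one]
    rw [hD] at hDz
    simp only [List.map_cons, List.map_nil, List.prod_cons, List.prod_nil, mul_one, hd q1, hd q2, hd q3,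
      hd q4] at hDz
    have := congrArg (·⁻¹) hDz
    simp only [_root_.mul_inv_rev, inv_eq_of_mul_eq_one_right (hdsq x1 q1),
      inv_eq_of_mul_eq_one_right (hdsq x2 q2), inv_eq_of_mul_eq_one_right (hdsq x3 q3),
      inv_eq_of_mul_eq_one_right (hdsq x4 q4), inv_eq_of_mul_eq_one_right negW_sq] at this
    exact this

end CfsgLib.OEightStd
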