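import Cfsg.Agent.Lib.OEightStd.Mono
import Cfsg.Agent.Lib.OEightStd.Quarter
import Cfsg.Agent.Lib.OEightStd.KillsTop

/-!
A group with a component isomorphic to the even lattice group: the conjugates of the central
involution commuting with it.
-/

set_option autoImplicit false
set_option maxRecDepth 100000
set_option linter.unusedSectionVars false

namespace CfsgLib.OEightStd

open Matrix CfsgLib.E8

/-- the data of a standard component isomorphic to the even lattice group -/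
structure Ctx (G : Type*) [Group G] where
  L : Subgroup G
  e : ↥L ≃* ↥Wp
  hN : ∃ N : Subgroup ↥(Subgroup.centralizer (L : Set G)),
    N.Normal ∧ Odd (Nat.card N) ∧ ∀ a b, a * b * a⁻¹ * b⁻¹ ∈ N

namespace Ctx

variable {G : Type*} [Group G] [Finite G] (C : Ctx G)

open scoped Classical in
/-- the embedding, extended by one -/
noncomputable def emb (a : W) : G := if h : a ∈ Wp then (C.e.symm ⟨a, h⟩ : G) else 1

/-- the central involution -/
noncomputable def z : G := C.emb negW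

/-- the centralizer of the component -/
abbrev K : Subgroup G := Subgroup.centralizer (C.L : Set G)

/-- inducing an isometry on the component -/
def Ind (g : G) (u : W) : Prop := ∀ a ∈ Wp, g * C.emb a * g⁻¹ = C.emb (u * a * u⁻¹)

theorem emb_mem {a : W} : C.emb a ∈ C.L := by
  unfold emb
  split_ifs with h
  · exact (C.e.symm ⟨a, h⟩).2
  · exact one_mem _

theorem emb_mul {a b : W} (ha : a ∈ Wp) (hb : b ∈ Wp) : C.emb (a * b) = C.emb a * C.emb b := by
  rw [emb, emb, emb, dif_pos ha, dif_pos hb, dif_pos (mul_mem ha hb), ← Subgroup.coe_mul, ← map_mul]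
  rfl

theorem emb_one : C.emb 1 = 1 := by
  have h := C.emb_mul (one_mem Wp) (one_mem Wp)
  rw [mul_one] at h
  exact left_eq_mul.1 h

theorem emb_inv {a : W} (ha : a ∈ Wp) : C.emb a⁻¹ = (C.emb a)⁻¹ :=
  eq_inv_of_mul_eq_one_left (by rw [← C.emb_mul (inv_mem ha) ha, inv_mul_cancel, emb_one])

theorem emb_inj {a b : W} (ha : a ∈ Wp) (hb : b ∈ Wp) (h : C.emb a = C.emb b) : a = b := by
  rw [emb, emb, dif_pos ha, dif_pos hb] at h
  exact congrArg Subtype.val (C.e.symm.injective (Subtype.ext h))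

theorem exists_emb {x : G} (h : x ∈ C.L) : ∃ a ∈ Wp, C.emb a = x :=
  ⟨(C.e ⟨x, h⟩ : W), (C.e ⟨x, h⟩).2, by rw [emb, dif_pos (C.e ⟨x, h⟩).2]; simp⟩

theorem emb_conj {a b : W} (ha : a ∈ Wp) (hb : b ∈ Wp) :
    C.emb a * C.emb b * (C.emb a)⁻¹ = C.emb (a * b * a⁻¹) := by
  rw [C.emb_mul (mul_mem ha hb) (inv_mem ha), C.emb_mul ha hb, C.emb_inv ha]

theorem ind_emb {a : W} (ha : a ∈ Wp) : C.Ind (C.emb a) a := fun b hb => C.emb_conj ha hb

theorem ind_of_mem_K {k : G} (hk : k ∈ C.K) : C.Ind k 1 := fun a _ => by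
  rw [one_mul, inv_one, mul_one, ← Subgroup.mem_centralizer_iff.1 hk _ C.emb_mem, mul_inv_cancel_right]

theorem conj_mem {u a : W} (ha : a ∈ Wp) : u * a * u⁻¹ ∈ Wp :=
  (inferInstance : Wp.Normal).conj_mem _ ha u

theorem ind_mul {g h : G} {u v : W} (hg : C.Ind g u) (hh : C.Ind h v) : C.Ind (g * h) (u * v) := fun a ha => by
  rw [show g * h * C.emb a * (g * h)⁻¹ = g * (h * C.emb a * h⁻¹) * g⁻¹ by group, hh a ha, hg _ (conj_mem ha)]
  congr 1
  group

theorem ind_inv {g : G} {u : W} (hg : C.Ind g u) : C.Ind g⁻¹ u⁻¹ := fun a ha => by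
  have h := hg _ (conj_mem (u := u⁻¹) ha)
  rw [show u * (u⁻¹ * a * u⁻¹⁻¹) * u⁻¹ = a by group] at h
  rw [← h]; group

theorem ind_unique {g : G} {u v : W} (hu : C.Ind g u) (hv : C.Ind g v) : v = u ∨ v = u * negW := by
  have h : ∀ a ∈ Wp, u⁻¹ * v * a = a * (u⁻¹ * v) := fun a ha => by
    have h1 := C.emb_inj (conj_mem ha) (conj_mem ha) ((hu a ha).symm.trans (hv a ha))
    calc u⁻¹ * v * a = u⁻¹ * (v * a * v⁻¹) * v := by group
      _ = u⁻¹ * (u * a * u⁻¹) * v := by rw [h1]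
      _ = _ := by group
  rcases center_cases h with e | e
  · exact Or.inl ((inv_mul_eq_one.1 e).symm)
  · exact Or.inr (by rw [← e, mul_inv_cancel_left])

theorem parity_negW : parity negW = 1 := mem_Wp_iff.1 negW_mem_Wp

theorem parity_unique {g : G} {u v : W} (hu : C.Ind g u) (hv : C.Ind g v) : parity v = parity u := by
  rcases C.ind_unique hu hv with rfl | rfl
  · rfl
  · rw [map_mul, parity_negW, mul_one]

theorem ind_negW {g : G} {u : W} (hu : C.Ind g u) : C.Ind g (u * negW) := fun a ha => by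
  have hc : ∀ b : W, negW * b = b * negW := fun b => (Subgroup.mem_center_iff.1 negW_central b).symm
  rw [hu a ha, _root_.mul_inv_rev]
  congr 1
  rw [show u * negW * a * (negW⁻¹ * u⁻¹) = u * (negW * a * negW⁻¹) * u⁻¹ by group, hc a, mul_inv_cancel_right]

theorem z_comm_L {x : G} (h : x ∈ C.L) : x * C.z = C.z * x := by
  obtain ⟨a, ha, rfl⟩ := C.exists_emb h
  rw [z, ← C.emb_mul ha negW_mem_Wp, ← C.emb_mul negW_mem_Wp ha, Subgroup.mem_center_iff.1 negW_central a]

theorem z_mem_K : C.z ∈ C.K :=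
  Subgroup.mem_centralizer_iff.2 fun _ hx => C.z_comm_L hx

theorem z_sq : C.z * C.z = 1 := by rw [z, ← C.emb_mul negW_mem_Wp negW_mem_Wp, negW_sq, emb_one]

theorem negW_ne : (negW : W) ≠ 1 := fun h => by
  have := congrArg (fun g : W => act g (a 0)) h
  simp only [act_negW, act_one] at this
  exact a_ne_neg 0 this.symm

theorem z_ne : C.z ≠ 1 := fun h => negW_ne (C.emb_inj negW_mem_Wp (one_mem _) (h.trans C.emb_one.symm))

theorem comm_z_of_ind {g : G} {u : W} (h : C.Ind g u) : g * C.z = C.z * g := by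
  have h1 := h negW negW_mem_Wp
  rw [show u * negW * u⁻¹ = negW by rw [Subgroup.mem_center_iff.1 negW_central u, mul_inv_cancel_right]] at h1
  exact mul_inv_eq_iff_eq_mul.1 h1

theorem K_comm {k : G} (hk : k ∈ C.K) (a : W) : k * C.emb a = C.emb a * k :=
  (Subgroup.mem_centralizer_iff.1 hk _ C.emb_mem).symm

theorem inner_split {g : G} {u : W} (h : C.Ind g u) (hu : u ∈ Wp) : g * (C.emb u)⁻¹ ∈ C.K := by
  refine Subgroup.mem_centralizer_iff.2 fun x hx => ?_
  obtain ⟨a, ha, rfl⟩ := C.exists_emb hx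
  have h1 := C.ind_mul h (C.ind_inv (C.ind_emb hu)) a ha
  rw [mul_inv_cancel, one_mul, inv_one, mul_one, mul_inv_eq_iff_eq_mul] at h1
  exact h1.symm

/-- the standing assumptions on the centralizer of the component -/
structure Good : Prop where
  uniq : ∀ x ∈ C.K, x * x = 1 → x ≠ 1 → x = C.z
  dec : ∀ g : G, g * C.z = C.z * g → ∃ u, C.Ind g u

variable {C} (hG : C.Good)

include hG in
theorem emb_mem_K {a : W} (ha : a ∈ Wp) (h : C.emb a ∈ C.K) : a = 1 ∨ a = negW :=
  center_cases fun b hb => C.emb_inj (mul_mem ha hb) (mul_mem hb ha) (by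
    rw [C.emb_mul ha hb, C.emb_mul hb ha]; exact C.K_comm h b)

include hG in
/-- an inner involution inducing an involution lies in the component -/
theorem inner_inv {g : G} {u : W} (h : C.Ind g u) (hu : u ∈ Wp) (hg : g * g = 1) (h2 : u * u = 1) :
    ∃ a ∈ Wp, a * a = 1 ∧ g = C.emb a ∧ C.Ind g a := by
  set k := g * (C.emb u)⁻¹ with hk
  have hkK : k ∈ C.K := C.inner_split h hu
  have hge : g = k * C.emb u := by rw [hk, inv_mul_cancel_right]
  have hk2 : k * k = 1 := by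
    have : (k * C.emb u) * (k * C.emb u) = 1 := by rw [← hge, hg]
    rw [show k * C.emb u * (k * C.emb u) = k * (C.emb u * k) * C.emb u by group, ← C.K_comm hkK,
      show k * (k * C.emb u) * C.emb u = k * k * (C.emb u * C.emb u) by group, ← C.emb_mul hu hu, h2, emb_one,
      mul_one] at this
    exact this
  by_cases hk1 : k = 1
  · exact ⟨u, hu, h2, by rw [hge, hk1, one_mul], h⟩
  · have hz := hG.uniq k hkK hk2 hk1
    refine ⟨negW * u, mul_mem negW_mem_Wp hu, ?_, by rw [hge, hz, z, C.emb_mul negW_mem_Wp hu], ?_⟩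
    · rw [show negW * u * (negW * u) = negW * (u * negW) * u by group, Subgroup.mem_center_iff.1 negW_central u,
        show negW * (negW * u) * u = negW * negW * (u * u) by group, negW_sq, h2, one_mul]
    · rw [← Subgroup.mem_center_iff.1 negW_central u]; exact C.ind_negW h

include hG in
theorem comm_inner {x y : G} {u v : W} (hx : C.Ind x u) (hy : C.Ind y v) (hu : u ∈ Wp) (hv : v ∈ Wp)
    (hxy : x * y = y * x) : u * v = v * u := by
  have hc : u * v * u⁻¹ * v⁻¹ ∈ Wp := mul_mem (mul_mem (mul_mem hu hv) (inv_mem hu)) (inv_mem hv)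
  set k := x * (C.emb u)⁻¹ with hk
  set l := y * (C.emb v)⁻¹ with hl
  have kK := C.inner_split hx hu
  have lK := C.inner_split hy hv
  have ex : x = k * C.emb u := by rw [hk, inv_mul_cancel_right]
  have ey : y = l * C.emb v := by rw [hl, inv_mul_cancel_right]
  have key : k * l * k⁻¹ * l⁻¹ * C.emb (u * v * u⁻¹ * v⁻¹) = 1 := by
    have h1 : x * y * x⁻¹ * y⁻¹ = 1 := by rw [hxy]; group
    rw [← h1, C.emb_mul (mul_mem (mul_mem hu hv) (inv_mem hu)) (inv_mem hv), C.emb_mul (mul_mem hu hv) (inv_mem hu),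
      C.emb_mul hu hv, C.emb_inv hu, C.emb_inv hv, ex, ey]
    have ek : C.emb u * l = l * C.emb u := (C.K_comm lK u).symm
    have c1 : ∀ b : W, C.emb b * k⁻¹ = k⁻¹ * C.emb b := fun b => (C.K_comm (inv_mem kK) b).symm
    have c1' : (C.emb u)⁻¹ * k⁻¹ = k⁻¹ * (C.emb u)⁻¹ := by rw [← C.emb_inv hu]; exact c1 _
    have c2 : ∀ b : W, C.emb b * l⁻¹ = l⁻¹ * C.emb b := fun b => (C.K_comm (inv_mem lK) b).symm
    have c2' : ∀ b ∈ Wp, (C.emb b)⁻¹ * l⁻¹ = l⁻¹ * (C.emb b)⁻¹ := fun b hb => by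
      rw [← C.emb_inv hb]; exact c2 _
    symm
    calc k * C.emb u * (l * C.emb v) * (k * C.emb u)⁻¹ * (l * C.emb v)⁻¹
        = k * (C.emb u * l) * C.emb v * ((C.emb u)⁻¹ * k⁻¹) * (C.emb v)⁻¹ * l⁻¹ := by group
      _ = k * l * C.emb u * (C.emb v * k⁻¹) * (C.emb u)⁻¹ * (C.emb v)⁻¹ * l⁻¹ := by rw [ek, c1']; group
      _ = k * l * (C.emb u * k⁻¹) * C.emb v * (C.emb u)⁻¹ * ((C.emb v)⁻¹ * l⁻¹) := by rw [c1]; group
      _ = k * l * k⁻¹ * C.emb u * C.emb v * ((C.emb u)⁻¹ * l⁻¹) * (C.emb v)⁻¹ := by rw [c1, c2' v hv]; group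
      _ = k * l * k⁻¹ * C.emb u * (C.emb v * l⁻¹) * (C.emb u)⁻¹ * (C.emb v)⁻¹ := by rw [c2' u hu]; group
      _ = k * l * k⁻¹ * (C.emb u * l⁻¹) * C.emb v * (C.emb u)⁻¹ * (C.emb v)⁻¹ := by rw [c2]; group
      _ = _ := by rw [c2]; group
  have hK : C.emb (u * v * u⁻¹ * v⁻¹) ∈ C.K := by
    rw [eq_inv_of_mul_eq_one_right key]
    exact inv_mem (mul_mem (mul_mem (mul_mem kK lK) (inv_mem kK)) (inv_mem lK))
  rcases emb_mem_K hG hc hK with e | e
  · calc u * v = (u * v * u⁻¹ * v⁻¹) * (v * u) := by group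
      _ = _ := by rw [e, one_mul]
  · exfalso
    rw [e, show C.emb negW = C.z from rfl] at key
    obtain ⟨N, -, hodd, hNc⟩ := C.hN
    have hm := hNc ⟨k, kK⟩ ⟨l, lK⟩
    have hpow := congrArg Subtype.val (congrArg Subtype.val (pow_card_eq_one' (x := (⟨_, hm⟩ : ↥N))))
    simp only [Subgroup.coe_pow, Subgroup.coe_mul, Subgroup.coe_inv, Subgroup.coe_one] at hpow
    rw [eq_inv_of_mul_eq_one_left key, inv_eq_of_mul_eq_one_right C.z_sq] at hpow
    obtain ⟨m, hm'⟩ := hodd
    rw [hm', pow_succ, pow_mul, pow_two, C.z_sq, one_pow, one_mul] at hpow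
    exact C.z_ne hpow

end Ctx

end CfsgLib.OEightStd
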