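import Cfsg.Agent.Lib.OEightStd.Invol

/-!
The lattice group: finiteness, generation by reflections, and the even part.
-/

set_option autoImplicit false
set_option maxRecDepth 100000
set_option linter.unusedSectionVars false

namespace CfsgLib.OEightStd

open Matrix CfsgLib.E8 CfsgLib.Orth

/-- the even part of the lattice group -/
abbrev Wp : Subgroup W := commutator W

theorem roots_finite : {x : Ix → ℤ | q x = 1}.Finite := by
  refine Set.Finite.subset (s := (fun p : Fin 256 × Bool =>
      if h : qb p.1.1 = true then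
        (if p.2 then (exists_root h p.1.2).choose else -(exists_root h p.1.2).choose) else 0) '' Set.univ)
    (Set.finite_univ.image _) fun x hx => ?_
  have h : qb (bv x) = true := qb_root hx
  obtain ⟨hq, hb⟩ := (exists_root h (bv_lt x)).choose_spec
  rcases root_cases hx hq hb.symm with e | e
  · exact ⟨(⟨_, bv_lt x⟩, true), trivial, by simp [h, ← e]⟩
  · exact ⟨(⟨_, bv_lt x⟩, false), trivial, by simp [h, ← e]⟩

instance finite_W : Finite W := by
  haveI := roots_finite.to_subtype
  refine Finite.of_injective (fun g : W => fun k => (⟨act g (a k), by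
    show q _ = 1; rw [act_q, a_norm]⟩ : {x : Ix → ℤ | q x = 1})) fun g h e => ?_
  exact ext_frame fun k => congrArg Subtype.val (congrFun e k)

theorem zmod_cases (c : ZMod 2) : c = 0 ∨ c = 1 := by revert c; decide

/-- the form modulo two -/
noncomputable def Qb : QuadraticForm (ZMod 2) (Ix → ZMod 2) := (exists_quadForm_plus 4).choose

theorem Qb_eq : ⇑Qb = Cfsg.quadFormPlus 4 (ZMod 2) := (exists_quadForm_plus 4).choose_spec.1

theorem Qb_nondeg : Nondeg Qb := (exists_quadForm_plus 4).choose_spec.2

/-- reduction modulo two -/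
noncomputable def red : W →* Grp Qb :=
  (exists_red (six_eq zmod_cases) Qb_eq (cast_surjective zmod_cases)).choose

theorem red_spec (g : W) (x : Ix → ℤ) : ap (red g) (cv (ZMod 2) x) = cv (ZMod 2) (act g x) :=
  (exists_red (six_eq zmod_cases) Qb_eq (cast_surjective zmod_cases)).choose_spec g x

/-- the parity -/
noncomputable def parity : W →* ℤˣ := (dickson Qb_nondeg).comp red

theorem parity_refl {x : Ix → ℤ} (hx : q x = 1) : parity (refl x hx) = -1 :=
  dickson_refl Qb_nondeg (red_refl (six_eq zmod_cases) Qb_eq (cast_surjective zmod_cases) red_spec hx)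

theorem negW_mem_Wp : negW ∈ Wp := negW_mem

theorem mem_Wp_iff {g : W} : g ∈ Wp ↔ parity g = 1 := by
  refine ⟨fun h => Abelianization.commutator_subset_ker parity h, fun h => ?_⟩
  obtain ⟨w, hw, e⟩ := omega_le_map zmod_cases Qb_eq Qb_nondeg red_spec (g := red g) (by
    rw [omega_eq_ker_dickson Qb_nondeg (two_eq zmod_cases) (by simp) (fun h => by simp at h)]
    exact h)
  rcases (red_eq_one zmod_cases Qb_eq Qb_nondeg red_spec).1
    (show red (w⁻¹ * g) = 1 by rw [map_mul, map_inv, e, inv_mul_cancel]) with h' | h'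
  · rw [inv_mul_eq_one] at h'; rwa [← h']
  · rw [show g = w * negW by rw [← h', mul_inv_cancel_left]]
    exact mul_mem hw negW_mem

theorem pair_mem_Wp {x y : Ix → ℤ} (hx : q x = 1) (hy : q y = 1) : refl x hx * refl y hy ∈ Wp :=
  mem_Wp_iff.2 (by rw [map_mul, parity_refl, parity_refl]; rfl)

theorem parity_sgn (T : Finset (Fin 8)) : parity (sgn T) = (-1) ^ T.card := by
  induction T using Finset.induction with
  | empty => simp [sgn_empty]
  | insert k T hk ih =>
    have h : sgn (insert k T) = fr k * sgn T := by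
      rw [← sgn_single, sgn_mul]
      congr 1
      ext j
      by_cases hj : j = k <;> simp [Finset.mem_symmDiff, hj, hk]
    rw [h, map_mul, fr, parity_refl, ih, Finset.card_insert_of_notMem hk, pow_succ, mul_comm]

theorem sgn_mem_Wp {T : Finset (Fin 8)} : sgn T ∈ Wp ↔ Even T.card := by
  rw [mem_Wp_iff, parity_sgn]
  refine ⟨fun h => ?_, fun h => h.neg_one_pow⟩
  rcases Nat.even_or_odd T.card with h' | h'
  · exact h'
  · rw [h'.neg_one_pow] at h; exact absurd h (by decide)

/-- the lattice group is generated by reflections -/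
theorem closure_refl :
    Subgroup.closure {g : W | ∃ (x : Ix → ℤ) (hx : q x = 1), g = refl x hx} = ⊤ := by
  set R := Subgroup.closure {g : W | ∃ (x : Ix → ℤ) (hx : q x = 1), g = refl x hx}
  have hneg : negW ∈ R := by
    rw [← sgn_univ]
    refine Subgroup.list_prod_mem R fun g hg => ?_
    obtain ⟨k, -, rfl⟩ := List.mem_map.1 hg
    exact Subgroup.subset_closure ⟨a k, a_norm k, rfl⟩
  have hmap : R.map red = ⊤ := by
    rw [eq_top_iff, ← refl_eq_top Qb_nondeg (fun h => by simp at h)]
    refine (Subgroup.closure_le _).2 fun g ⟨v, hv⟩ => ?_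
    obtain ⟨x, hx, rfl⟩ := roots_above zmod_cases Qb_eq ((zmod_cases (Qb v)).resolve_left hv.1)
    refine ⟨refl x hx, Subgroup.subset_closure ⟨x, hx, rfl⟩, ext_ap fun y => ?_⟩
    rw [(red_refl (six_eq zmod_cases) Qb_eq (cast_surjective zmod_cases) red_spec hx).2, hv.2]
  rw [eq_top_iff]
  intro g _
  obtain ⟨r, hr, e⟩ := (show red g ∈ R.map red from hmap ▸ Subgroup.mem_top _)
  rcases (red_eq_one zmod_cases Qb_eq Qb_nondeg red_spec).1
    (show red (r⁻¹ * g) = 1 by rw [map_mul, map_inv, e, inv_mul_cancel]) with h | h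
  · rw [inv_mul_eq_one] at h; rwa [← h]
  · rw [show g = r * negW by rw [← h, mul_inv_cancel_left]]
    exact mul_mem hr hneg

/-- the even part is generated by products of two reflections -/
theorem Wp_le_closure :
    Wp ≤ Subgroup.closure {g : W | ∃ (x y : Ix → ℤ) (hx : q x = 1) (hy : q y = 1), g = refl x hx * refl y hy} := by
  set N := Subgroup.closure {g : W | ∃ (x y : Ix → ℤ) (hx : q x = 1) (hy : q y = 1), g = refl x hx * refl y hy}
  have key : ∀ g : W, (parity g = 1 → g ∈ N) ∧ (parity g = -1 → fr 0 * g ∈ N) := by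
    intro g
    have hg : g ∈ Subgroup.closure {g : W | ∃ (x : Ix → ℤ) (hx : q x = 1), g = refl x hx} := by
      rw [closure_refl]; exact Subgroup.mem_top _
    have step : ∀ {x : Ix → ℤ} (hx : q x = 1) (g : W),
        ((parity g = 1 → g ∈ N) ∧ (parity g = -1 → fr 0 * g ∈ N)) →
        (parity (refl x hx * g) = 1 → refl x hx * g ∈ N) ∧
          (parity (refl x hx * g) = -1 → fr 0 * (refl x hx * g) ∈ N) := by
      intro x hx g hg
      rcases Int.units_eq_one_or (parity g) with h | h
      · refine ⟨fun e => ?_, fun _ => ?_⟩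
        · rw [map_mul, parity_refl, h] at e; exact absurd e (by decide)
        · rw [← mul_assoc]
          exact mul_mem (Subgroup.subset_closure ⟨_, _, a_norm 0, hx, rfl⟩) (hg.1 h)
      · refine ⟨fun _ => ?_, fun e => ?_⟩
        · rw [show refl x hx * g = refl x hx * fr 0 * (fr 0 * g) by
            rw [mul_assoc, ← mul_assoc (fr 0), fr, refl_sq, one_mul]]
          exact mul_mem (Subgroup.subset_closure ⟨_, _, hx, a_norm 0, rfl⟩) (hg.2 h)
        · rw [map_mul, parity_refl, h] at e; exact absurd e (by decide)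
    induction hg using Subgroup.closure_induction_left with
    | one => exact ⟨fun _ => one_mem _, fun e => absurd (by rwa [map_one] at e) (by decide : (1 : ℤˣ) ≠ -1)⟩
    | mul_left x hx y _ ih =>
      obtain ⟨x, hx, rfl⟩ := hx
      exact step hx y ih
    | inv_mul_cancel x hx y _ ih =>
      obtain ⟨x, hx, rfl⟩ := hx
      rw [inv_eq_of_mul_eq_one_right (refl_sq hx)]
      exact step hx y ih
  exact fun g hg => (key g).1 (mem_Wp_iff.1 hg)

theorem center_cases {u : W} (h : ∀ g ∈ Wp, u * g = g * u) : u = 1 ∨ u = negW := by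
  refine eq_one_or_neg u fun x hx => ?_
  obtain ⟨g, hg⟩ := exists_prefix (l := [x]) ⟨by simpa using hx, by simp⟩
  have e0 : bv (act g x) = fb 0 := hg 0 (by simp) (by omega)
  suffices hv : act (g * u * g⁻¹) (a 0) = a 0 ∨ act (g * u * g⁻¹) (a 0) = -a 0 by
    have hinj : ∀ y z, act g y = act g z → y = z := fun y z e => by
      rw [← act_inv_act g y, e, act_inv_act]
    rcases eq_frame_of_bv (by rw [act_q, hx]) e0 with e | e
    · rw [← e, act_mul, act_inv_act, act_mul, ← act_neg] at hv
      exact hv.imp (hinj _ _) (hinj _ _)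
    · rw [show a 0 = act g (-x) by rw [act_neg, e, neg_neg], act_mul, act_inv_act, act_mul,
        ← act_neg g (-x), neg_neg] at hv
      rcases hv with hv | hv <;> have := hinj _ _ hv <;> rw [act_neg, neg_eq_iff_eq_neg] at this
      · exact Or.inl (by rw [this, neg_neg])
      · exact Or.inr this
  set v := g * u * g⁻¹
  have hv : ∀ k, k ≠ 0 → v * (fr 0 * fr k) = fr 0 * fr k * v := by
    intro k _
    have hm : g⁻¹ * (fr 0 * fr k) * g ∈ Wp := by
      have := (inferInstance : Wp.Normal).conj_mem _ (pair_mem_Wp (a_norm 0) (a_norm k)) g⁻¹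
      rwa [inv_inv] at this
    calc v * (fr 0 * fr k) = g * (u * (g⁻¹ * (fr 0 * fr k) * g)) * g⁻¹ := by simp only [v]; group
      _ = g * ((g⁻¹ * (fr 0 * fr k) * g) * u) * g⁻¹ := by rw [h _ hm]
      _ = _ := by simp only [v]; group
  have hd : ∀ k, k ≠ 0 → fr 0 * fr k = sgn {0, k} := fun k hk => by
    rw [← sgn_single, ← sgn_single, sgn_mul]
    congr 1
    ext j
    by_cases h0 : j = 0
    · subst h0; simp [Finset.mem_symmDiff, Ne.symm hk]
    · by_cases hj : j = k <;> simp [Finset.mem_symmDiff, h0, hj, hk]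
  have hneg : ∀ k, k ≠ 0 → ∀ i, i ≠ 0 → i ≠ k → bil (act v (a 0)) (a i) = 0 := by
    intro k hk i hi hik
    have h1 : act (sgn {0, k}) (act v (a 0)) = -act v (a 0) := by
      rw [← hd k hk, ← act_mul, ← hv k hk, act_mul, hd k hk, act_sgn, if_pos (by simp), act_neg]
    have h2 : act (sgn {0, k}) (a i) = a i := by rw [act_sgn, if_neg (by simp [hi, hik])]
    have := act_bil (sgn {0, k}) (act v (a 0)) (a i)
    rw [h1, h2, bil_neg_left] at this
    linarith
  have hzero : ∀ i, i ≠ 0 → bil (a i) (act v (a 0)) = 0 := by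
    intro i hi
    rw [bil_comm]
    by_cases h1 : i = 1
    · exact hneg 2 (by decide) i hi (by rw [h1]; decide)
    · exact hneg 1 (by decide) i hi h1
  have hs := frame_sum (act v (a 0))
  rw [Finset.sum_eq_single (0 : Fin 8) (fun k _ hk => by rw [hzero k hk, zero_smul]) (by simp)] at hs
  have hq := congrArg q hs
  rw [q_smul, q_smul, a_norm, act_q, a_norm] at hq
  have hb : bil (a 0) (act v (a 0)) = 2 ∨ bil (a 0) (act v (a 0)) = -2 := by
    have : bil (a 0) (act v (a 0)) * bil (a 0) (act v (a 0)) = 2 * 2 := by linarith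
    rwa [mul_self_eq_mul_self_iff] at this
  rcases hb with hb | hb
  · exact Or.inl ((root_bounds (a_norm 0) (by rw [act_q, a_norm])).2.2.1 hb).symm
  · exact Or.inr (neg_eq_iff_eq_neg.2 ((root_bounds (a_norm 0) (by rw [act_q, a_norm])).2.2.2 hb)).symm

end CfsgLib.OEightStd
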