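import Mathlib.GroupTheory.FiniteAbelian.Duality
import Mathlib.LinearAlgebra.Trace
import Mathlib.LinearAlgebra.Determinant
import Cfsg.Agent.Lib.OEightStd.Group

/-!
Elementary abelian groups of involutions in the lattice group and their eigenspaces.
-/

set_option autoImplicit false
set_option maxRecDepth 100000
set_option linter.unusedSectionVars false

namespace CfsgLib.OEightStd

open Matrix CfsgLib.E8

/-- the rational matrix of an element -/
def mat' : W →* Matrix Ix Ix ℚ where
  toFun u := ((u : GL Ix ℤ) : Matrix Ix Ix ℤ).map (Int.castRingHom ℚ)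
  map_one' := (Int.castRingHom ℚ).mapMatrix.map_one
  map_mul' u v := (Int.castRingHom ℚ).mapMatrix.map_mul _ _

theorem mat'_injective : Function.Injective mat' := fun u v h => by
  refine Subtype.ext (Units.ext (Matrix.ext fun i j => ?_))
  have := congrFun (congrFun h i) j
  exact Int.cast_injective (α := ℚ) this

/-- the trace -/
def tr' (u : W) : ℚ := (mat' u).trace

theorem tr'_conj (g u : W) : tr' (g * u * g⁻¹) = tr' u := by
  rw [tr', tr', map_mul, map_mul, Matrix.trace_mul_cycle, ← map_mul, inv_mul_cancel, map_one, one_mul]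

theorem tr'_one : tr' 1 = 8 := by
  rw [tr', map_one, Matrix.trace_one]
  norm_num

theorem tr'_negW : tr' negW = -8 := by
  rw [tr', show mat' negW = -1 by
    show ((negW : GL Ix ℤ) : Matrix Ix Ix ℤ).map (Int.castRingHom ℚ) = -1
    rw [show ((negW : GL Ix ℤ) : Matrix Ix Ix ℤ) = -1 from rfl]
    exact (map_neg (Int.castRingHom ℚ).mapMatrix 1).trans (by rw [map_one]), Matrix.trace_neg, Matrix.trace_one]
  norm_num

theorem trace_sgn_int : ∀ m : Fin 256,
    (∑ i, ((sgn (Finset.univ.filter fun k : Fin 8 => m.1.testBit k.1) : GL Ix ℤ) : Matrix Ix Ix ℤ) i i) =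
      8 - 2 * ((Finset.univ.filter fun k : Fin 8 => m.1.testBit k.1).card : ℤ) := by
  decide +kernel

/-- the mask of a set of places -/
def mask (T : Finset (Fin 8)) : Fin 256 :=
  ⟨Nat.ofBits fun k : Fin 8 => decide (k ∈ T), Nat.ofBits_lt_two_pow _⟩

theorem unmask (T : Finset (Fin 8)) : (Finset.univ.filter fun k : Fin 8 => (mask T).1.testBit k.1) = T := by
  ext k
  simp [mask, Nat.testBit_ofBits_lt _ _ k.2]

theorem tr'_sgn (T : Finset (Fin 8)) : tr' (sgn T) = 8 - 2 * (T.card : ℚ) := by
  have h := trace_sgn_int (mask T)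
  rw [unmask] at h
  have h2 := congrArg (fun z : ℤ => (z : ℚ)) h
  push_cast at h2
  rw [← h2]
  rfl

/-- an involution of trace six is a reflection -/
theorem refl_of_trace {u : W} (hu : u * u = 1) (h : tr' u = 6) : ∃ (x : Ix → ℤ) (hx : q x = 1), u = refl x hx := by
  obtain ⟨g, T, e⟩ := exists_conj_sgn hu
  have hc : (T.card : ℚ) = 1 := by rw [← tr'_conj g u, e, tr'_sgn] at h; linarith
  obtain ⟨k, rfl⟩ := Finset.card_eq_one.1 (by exact_mod_cast hc : T.card = 1)
  refine ⟨act g⁻¹ (a k), by rw [act_q, a_norm], ?_⟩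
  rw [← refl_conj, inv_inv]
  calc u = g⁻¹ * (g * u * g⁻¹) * g := by group
    _ = _ := by rw [e, sgn_single]; rfl

section Dual

variable (U : Subgroup W)

/-- the sign characters -/
abbrev Dual := ↥U →* ℤˣ

/-- the projection belonging to a sign character -/
noncomputable def proj [Fintype ↥U] (χ : Dual U) : Matrix Ix Ix ℚ :=
  (Fintype.card ↥U : ℚ)⁻¹ • ∑ u : ↥U, ((χ u : ℤ) : ℚ) • mat' (u : W)

variable {U} (hc : ∀ a ∈ U, ∀ b ∈ U, a * b = b * a) (h2 : ∀ a ∈ U, a * a = 1)
variable [Fintype ↥U]

theorem sign_mul_self (e : ℤˣ) : ((e : ℤ) : ℚ) * ((e : ℤ) : ℚ) = 1 := by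
  rcases Int.units_eq_one_or e with rfl | rfl <;> norm_num

theorem mat'_mul_proj (χ : Dual U) (v : ↥U) : mat' (v : W) * proj U χ = ((χ v : ℤ) : ℚ) • proj U χ := by
  rw [proj, Matrix.mul_smul, smul_comm, Finset.smul_sum]
  congr 1
  rw [Finset.mul_sum]
  refine Fintype.sum_equiv (Equiv.mulLeft v) _ _ fun u => ?_
  simp only [Equiv.coe_mulLeft, Subgroup.coe_mul, map_mul, Matrix.mul_smul, smul_smul, Units.val_mul,
    Int.cast_mul]
  congr 1
  rw [← mul_assoc, sign_mul_self, one_mul]

theorem proj_mul_proj (χ ψ : Dual U) : proj U χ * proj U ψ = if χ = ψ then proj U ψ else 0 := by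
  rw [proj, Matrix.smul_mul, Finset.sum_mul]
  simp only [Matrix.smul_mul, mat'_mul_proj, smul_smul]
  rw [← Finset.sum_smul]
  split_ifs with h
  · subst h
    rw [Finset.sum_congr rfl fun u _ => sign_mul_self (χ u), Finset.sum_const, nsmul_eq_mul, mul_one,
      smul_smul, Finset.card_univ, inv_mul_cancel₀ (by exact_mod_cast Fintype.card_ne_zero), one_smul]
  · obtain ⟨w, hw⟩ : ∃ w, χ w * ψ w ≠ 1 := by
      by_contra! hall
      exact h (MonoidHom.ext fun w => by
        rw [eq_inv_of_mul_eq_one_left (hall w), Int.units_inv_eq_self])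
    have hs : (∑ u : ↥U, ((χ u : ℤ) : ℚ) * ((ψ u : ℤ) : ℚ)) = 0 := by
      set s := ∑ u : ↥U, ((χ u : ℤ) : ℚ) * ((ψ u : ℤ) : ℚ) with hsdef
      have : s = -1 * s := by
        nth_rewrite 1 [hsdef]
        rw [hsdef, Finset.mul_sum]
        refine (Fintype.sum_equiv (Equiv.mulLeft w) _ _ fun u => ?_).symm
        simp only [Equiv.coe_mulLeft, map_mul, Units.val_mul, Int.cast_mul]
        have h' : ((χ w : ℤ) : ℚ) * ((ψ w : ℤ) : ℚ) = -1 := by
          rcases Int.units_eq_one_or (χ w * ψ w) with e | e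
          · exact absurd e hw
          · have := congrArg (fun z : ℤˣ => ((z : ℤ) : ℚ)) e
            simpa using this
        rw [← h']; ring
      linarith
    rw [hs, zero_smul, smul_zero]

include hc h2 in
theorem sum_proj [Fintype (Dual U)] : ∑ χ : Dual U, proj U χ = 1 := by
  letI : CommGroup ↥U := { (inferInstance : Group ↥U) with mul_comm := fun a b => Subtype.ext (hc a a.2 b b.2) }
  haveI : HasEnoughRootsOfUnity ℤ (Monoid.exponent ↥U) := by
    have hd : Monoid.exponent ↥U ∣ 2 := Monoid.exponent_dvd_of_forall_pow_eq_one fun a =>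
      Subtype.ext (by rw [Subgroup.coe_pow, pow_two]; exact h2 a a.2)
    rcases (Nat.dvd_prime Nat.prime_two).1 hd with e | e <;> rw [e]
    · exact ⟨⟨1, IsPrimitiveRoot.one⟩, inferInstance⟩
    · exact ⟨⟨-1, IsPrimitiveRoot.neg_one 0 (by norm_num)⟩, inferInstance⟩
  have hsum : ∀ u : ↥U, (∑ χ : Dual U, ((χ u : ℤ) : ℚ)) = if u = 1 then (Fintype.card ↥U : ℚ) else 0 := by
    intro u
    split_ifs with h
    · subst h
      have hn := CommGroup.card_monoidHom_of_hasEnoughRootsOfUnity ↥U ℤ
      simp only [Nat.card_eq_fintype_card] at hn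
      simp [hn]
    · obtain ⟨φ, hφ⟩ := CommGroup.exists_apply_ne_one_of_hasEnoughRootsOfUnity ↥U ℤ h
      set s := ∑ χ : Dual U, ((χ u : ℤ) : ℚ) with hsdef
      have : s = -1 * s := by
        nth_rewrite 1 [hsdef]
        rw [hsdef, Finset.mul_sum]
        refine (Fintype.sum_equiv (Equiv.mulLeft φ) _ _ fun χ => ?_).symm
        simp only [Equiv.coe_mulLeft, MonoidHom.mul_apply, Units.val_mul, Int.cast_mul]
        rcases Int.units_eq_one_or (φ u) with e | e
        · exact absurd e hφ
        · rw [e]; simp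
      linarith
  simp only [proj]
  rw [← Finset.smul_sum, Finset.sum_comm]
  simp only [← Finset.sum_smul, hsum, ite_smul, zero_smul, Finset.sum_ite_eq', Finset.mem_univ, if_true,
    OneMemClass.coe_one, map_one, smul_smul]
  rw [inv_mul_cancel₀ (by exact_mod_cast Fintype.card_ne_zero), one_smul]

/-- the dimension of the image of a projection -/
noncomputable def rk (χ : Dual U) : ℕ := Module.finrank ℚ (Matrix.toLin' (proj U χ)).range

theorem proj_idem (χ : Dual U) : proj U χ * proj U χ = proj U χ := by rw [proj_mul_proj, if_pos rfl]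

theorem trace_proj (χ : Dual U) : (proj U χ).trace = (rk χ : ℚ) := by
  have h : IsIdempotentElem (Matrix.toLin' (proj U χ)) := by
    show Matrix.toLin' (proj U χ) * Matrix.toLin' (proj U χ) = _
    rw [Module.End.mul_eq_comp, ← Matrix.toLin'_mul, proj_idem]
  rw [← Matrix.trace_toLin'_eq, ((LinearMap.isProj_range_iff_isIdempotentElem _).2 h).trace]
  rfl

theorem rk_eq_zero {χ : Dual U} (h : rk χ = 0) : proj U χ = 0 := by
  have := Submodule.finrank_eq_zero.1 h
  rw [LinearMap.range_eq_bot] at this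
  exact (Matrix.toLin').injective (this.trans (map_zero _).symm)

include hc in
theorem even_rk {J : W} (hJ : J * J = negW) (hJU : ∀ a ∈ U, a * J = J * a) (χ : Dual U) : Even (rk χ) := by
  have hJm : mat' J * mat' J = -1 := by
    rw [← map_mul, hJ]
    show ((negW : GL Ix ℤ) : Matrix Ix Ix ℤ).map (Int.castRingHom ℚ) = -1
    rw [show ((negW : GL Ix ℤ) : Matrix Ix Ix ℤ) = -1 from rfl]
    exact (map_neg (Int.castRingHom ℚ).mapMatrix 1).trans (by rw [map_one])
  have hcm : mat' J * proj U χ = proj U χ * mat' J := by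
    rw [proj, Matrix.mul_smul, Matrix.smul_mul, Finset.mul_sum, Finset.sum_mul]
    congr 1
    refine Finset.sum_congr rfl fun u _ => ?_
    rw [Matrix.mul_smul, Matrix.smul_mul, ← map_mul, ← map_mul, hJU u u.2]
  set p := (Matrix.toLin' (proj U χ)).range with hp
  have hmaps : ∀ v ∈ p, Matrix.toLin' (mat' J) v ∈ p := by
    rintro _ ⟨v, rfl⟩
    refine ⟨Matrix.toLin' (mat' J) v, ?_⟩
    rw [← LinearMap.comp_apply, ← Matrix.toLin'_mul, ← hcm, Matrix.toLin'_mul, LinearMap.comp_apply]
  set f := (Matrix.toLin' (mat' J)).restrict hmaps with hf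
  have hff : f ∘ₗ f = (-1 : ℚ) • LinearMap.id := by
    refine LinearMap.ext fun v => Subtype.ext ?_
    show Matrix.toLin' (mat' J) (Matrix.toLin' (mat' J) (v : Ix → ℚ)) = ((-1 : ℚ) • v : p).1
    rw [← LinearMap.comp_apply, ← Matrix.toLin'_mul, hJm]
    simp
  have hd := congrArg LinearMap.det hff
  rw [LinearMap.det_comp, LinearMap.det_smul, LinearMap.det_id, mul_one] at hd
  rcases Nat.even_or_odd (rk χ) with h | h
  · exact h
  · exfalso
    rw [rk] at h
    rw [h.neg_one_pow] at hd
    have := mul_self_nonneg (LinearMap.det f)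
    rw [hd] at this
    norm_num at this

theorem sum_rk [Fintype (Dual U)] (hs : ∑ χ : Dual U, proj U χ = 1) : ∑ χ : Dual U, rk χ = 8 := by
  have := congrArg Matrix.trace hs
  rw [Matrix.trace_sum, Matrix.trace_one] at this
  simp only [trace_proj] at this
  have h' : ((∑ χ : Dual U, rk χ : ℕ) : ℚ) = ((8 : ℕ) : ℚ) := by
    push_cast; rw [this]; norm_num
  exact_mod_cast h'

theorem mat'_eq [Fintype (Dual U)] (hs : ∑ χ : Dual U, proj U χ = 1) (u : ↥U) :
    mat' (u : W) = ∑ χ : Dual U, ((χ u : ℤ) : ℚ) • proj U χ := by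
  conv_lhs => rw [← mul_one (mat' (u : W)), ← hs, Finset.mul_sum]
  simp only [mat'_mul_proj]

theorem eq_of_chars [Fintype (Dual U)] (hs : ∑ χ : Dual U, proj U χ = 1) {u v : ↥U}
    (h : ∀ χ : Dual U, rk χ ≠ 0 → χ u = χ v) : u = v := by
  refine Subtype.ext (mat'_injective ?_)
  rw [mat'_eq hs, mat'_eq hs]
  refine Finset.sum_congr rfl fun χ _ => ?_
  by_cases hr : rk χ = 0
  · rw [rk_eq_zero hr, smul_zero, smul_zero]
  · rw [h χ hr]

theorem tr'_eq [Fintype (Dual U)] (hs : ∑ χ : Dual U, proj U χ = 1) (u : ↥U) :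
    tr' u = ∑ χ : Dual U, ((χ u : ℤ) : ℚ) * (rk χ : ℚ) := by
  rw [tr', mat'_eq hs, Matrix.trace_sum]
  simp only [Matrix.trace_smul, trace_proj, smul_eq_mul]

end Dual

/-- an elementary group of involutions commuting with an element of square the negation is small -/
theorem card_le_sixteen {U : Subgroup W} (hc : ∀ a ∈ U, ∀ b ∈ U, a * b = b * a) (h2 : ∀ a ∈ U, a * a = 1)
    {J : W} (hJ : J * J = negW) (hJU : ∀ a ∈ U, a * J = J * a) : Nat.card U ≤ 16 := by
  classical
  letI := Fintype.ofFinite ↥U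
  haveI : Finite (Dual U) := Finite.of_injective (fun f => (f : ↥U → ℤˣ)) DFunLike.coe_injective
  letI := Fintype.ofFinite (Dual U)
  have hs := sum_proj hc h2
  let S := Finset.univ.filter fun χ : Dual U => rk χ ≠ 0
  have hS : S.card ≤ 4 := by
    have h1 : ∑ χ ∈ S, 2 ≤ ∑ χ ∈ S, rk χ := Finset.sum_le_sum fun χ hχ => by
      obtain ⟨k, hk⟩ := even_rk hc hJ hJU χ
      have := (Finset.mem_filter.1 hχ).2
      omega
    have h2' : ∑ χ ∈ S, rk χ ≤ 8 := (Finset.sum_le_sum_of_subset (Finset.subset_univ _)).trans (sum_rk hs).le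
    simp at h1
    omega
  rw [Nat.card_eq_fintype_card]
  refine le_trans (Fintype.card_le_of_injective (fun u : ↥U => fun χ : ↥S => (χ : Dual U) u) ?_) ?_
  · intro u v h
    exact eq_of_chars hs fun χ hχ => congrFun h ⟨χ, Finset.mem_filter.2 ⟨Finset.mem_univ _, hχ⟩⟩
  · rw [Fintype.card_fun, Fintype.card_coe, Fintype.card_units_int]
    exact le_trans (Nat.pow_le_pow_right (by norm_num) hS) (by norm_num)

/-- the labelling of a full elementary group -/
theorem exists_label {U : Subgroup W} (hc : ∀ a ∈ U, ∀ b ∈ U, a * b = b * a) (h2 : ∀ a ∈ U, a * a = 1)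
    (hcard : Nat.card U = 256 ∨ Nat.card U = 128 ∧ U ≤ Wp) :
    ∃ φ : Finset (Fin 8) → W, (∀ u, u ∈ U ↔ ∃ T : Finset (Fin 8), (Nat.card U = 128 → Even T.card) ∧ φ T = u) ∧
      (∀ S T : Finset (Fin 8), (Nat.card U = 128 → Even S.card) → (Nat.card U = 128 → Even T.card) →
        φ (symmDiff S T) = φ S * φ T) ∧
      (∀ T : Finset (Fin 8), (Nat.card U = 128 → Even T.card) → tr' (φ T) = 8 - 2 * (T.card : ℚ)) := by
  classical
  letI := Fintype.ofFinite ↥U
  haveI : Finite (Dual U) := Finite.of_injective (fun f => (f : ↥U → ℤˣ)) DFunLike.coe_injective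
  letI := Fintype.ofFinite (Dual U)
  have hs := sum_proj hc h2
  let S := Finset.univ.filter fun χ : Dual U => rk χ ≠ 0
  let F : ↥U → (↥S → ℤˣ) := fun u χ => (χ : Dual U) u
  have hFi : Function.Injective F := fun u v h =>
    eq_of_chars hs fun χ hχ => congrFun h ⟨χ, Finset.mem_filter.2 ⟨Finset.mem_univ _, hχ⟩⟩
  have hFm : ∀ u v, F (u * v) = F u * F v := fun u v => funext fun χ => map_mul _ _ _
  have hsum : ∑ χ : ↥S, rk (χ : Dual U) = 8 := by
    rw [Finset.sum_coe_sort S fun χ => rk χ, ← sum_rk hs]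
    exact (Finset.sum_filter_ne_zero _)
  have hpos : ∀ χ : ↥S, 1 ≤ rk (χ : Dual U) := fun χ => Nat.one_le_iff_ne_zero.2 (Finset.mem_filter.1 χ.2).2
  have htr : ∀ u : ↥U, tr' u = ∑ χ : ↥S, ((F u χ : ℤ) : ℚ) * (rk (χ : Dual U) : ℚ) := by
    intro u
    rw [tr'_eq hs, Finset.sum_coe_sort S fun χ => ((χ u : ℤ) : ℚ) * (rk χ : ℚ)]
    refine (Finset.sum_subset (Finset.subset_univ _) fun χ _ hχ => ?_).symm
    have : rk χ = 0 := by simpa [S] using hχ
    rw [this]; simp
  have hcS : Fintype.card ↥S ≤ 8 := by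
    have : ∑ χ : ↥S, 1 ≤ ∑ χ : ↥S, rk (χ : Dual U) := Finset.sum_le_sum fun χ _ => hpos χ
    rw [hsum] at this
    simpa using this
  have hcU : Fintype.card ↥U ≤ 2 ^ Fintype.card ↥S := by
    refine (Fintype.card_le_of_injective F hFi).trans (le_of_eq ?_)
    rw [Fintype.card_fun, Fintype.card_units_int]
  rw [Nat.card_eq_fintype_card] at hcard ⊢
  -- all eight characters occur
  have hone : ∀ (χ : ↥S), rk (χ : Dual U) = 1 → ∀ u : ↥U, F u = Pi.mulSingle χ (-1) → tr' u = 6 := by
    intro χ hχ u hu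
    have e : ∀ ψ : ↥S, ((F u ψ : ℤ) : ℚ) * (rk (ψ : Dual U) : ℚ) =
        (rk (ψ : Dual U) : ℚ) - if ψ = χ then 2 else 0 := by
      intro ψ
      by_cases h : ψ = χ
      · subst h; rw [hu, Pi.mulSingle_eq_same, if_pos rfl, hχ]; norm_num
      · rw [hu, Pi.mulSingle_eq_of_ne h, if_neg h]; norm_num
    rw [htr, Finset.sum_congr rfl fun ψ _ => e ψ, Finset.sum_sub_distrib, Finset.sum_ite_eq',
      if_pos (Finset.mem_univ _)]
    have : ((∑ ψ : ↥S, rk (ψ : Dual U) : ℕ) : ℚ) = 8 := by rw [hsum]; norm_num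
    push_cast at this
    rw [this]; norm_num
  have hnotWp : ∀ u : ↥U, tr' u = 6 → U ≤ Wp → False := by
    intro u hu hle
    obtain ⟨x, hx, e⟩ := refl_of_trace (h2 u u.2) hu
    have := mem_Wp_iff.1 (hle u.2)
    rw [e, parity_refl] at this
    exact absurd this (by decide)
  have hS8 : Fintype.card ↥S = 8 := by
    by_contra hne
    have h7 : Fintype.card ↥S ≤ 7 := by omega
    have h128 : Fintype.card ↥U = 128 ∧ U ≤ Wp := hcard.resolve_left fun h => by
      have := Nat.pow_le_pow_right (show 2 > 0 by norm_num) h7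
      omega
    have h7' : Fintype.card ↥S = 7 := by
      by_contra h
      have := Nat.pow_le_pow_right (show 2 > 0 by norm_num) (show Fintype.card ↥S ≤ 6 by omega)
      omega
    obtain ⟨χ, hχ⟩ : ∃ χ : ↥S, rk (χ : Dual U) = 1 := by
      by_contra! hall
      have : ∑ χ : ↥S, 2 ≤ ∑ χ : ↥S, rk (χ : Dual U) :=
        Finset.sum_le_sum fun χ _ => by have := hpos χ; have := hall χ; omega
      rw [hsum] at this
      simp at this
      rw [← Fintype.card_coe S] at this
      omega
    obtain ⟨u, hu⟩ := ((Fintype.bijective_iff_injective_and_card F).2 ⟨hFi, by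
      rw [Fintype.card_fun, Fintype.card_units_int, h7', h128.1]; norm_num⟩).2 (Pi.mulSingle χ (-1))
    exact hnotWp u (hone χ hχ u hu) h128.2
  have hrk : ∀ χ : ↥S, rk (χ : Dual U) = 1 := by
    intro χ
    by_contra hne
    have h := Finset.sum_lt_sum (s := Finset.univ) (f := fun _ : ↥S => 1) (g := fun χ : ↥S => rk (χ : Dual U))
      (fun ψ _ => hpos ψ) ⟨χ, Finset.mem_univ _, by have := hpos χ; omega⟩
    rw [hsum] at h
    simp at h
    rw [← Fintype.card_coe S] at h
    omega
  let ι : ↥S ≃ Fin 8 := Fintype.equivFinOfCardEq hS8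
  let sv : Finset (Fin 8) → (↥S → ℤˣ) := fun T χ => if ι χ ∈ T then -1 else 1
  have hsv : ∀ T T', sv (symmDiff T T') = sv T * sv T' := fun T T' => funext fun χ => by
    by_cases h : ι χ ∈ T <;> by_cases h' : ι χ ∈ T' <;> simp [sv, Finset.mem_symmDiff, h, h']
  have hsv' : ∀ f : ↥S → ℤˣ, ∃ T, sv T = f := fun f => ⟨(Finset.univ.filter fun χ => f χ = -1).map ι.toEmbedding,
    funext fun χ => by
      by_cases e : f χ = -1
      · simp [sv, e]
      · rcases Int.units_eq_one_or (f χ) with e' | e'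
        · simp [sv, e']
        · exact absurd e' e⟩
  have htv : ∀ (u : ↥U) T, F u = sv T → tr' u = 8 - 2 * (T.card : ℚ) := by
    intro u T hu
    have e : ∀ ψ : ↥S, ((F u ψ : ℤ) : ℚ) * (rk (ψ : Dual U) : ℚ) = 1 - if ι ψ ∈ T then 2 else 0 := fun ψ => by
      rw [hu, hrk]; by_cases h : ι ψ ∈ T <;> simp [sv, h]; norm_num
    rw [htr, Finset.sum_congr rfl fun ψ _ => e ψ, Finset.sum_sub_distrib,
      Equiv.sum_comp ι fun k : Fin 8 => if k ∈ T then (2 : ℚ) else 0]
    have hS8' : S.card = 8 := by rw [← Fintype.card_coe S]; exact hS8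
    simp [Finset.sum_ite_mem, mul_comm, hS8']
  -- which sign vectors occur
  have hocc : ∀ T : Finset (Fin 8), (Fintype.card ↥U = 128 → Even T.card) → ∃ u, F u = sv T := by
    intro T hT
    rcases hcard with h | ⟨h, hle⟩
    · exact ((Fintype.bijective_iff_injective_and_card F).2 ⟨hFi, by
        rw [Fintype.card_fun, Fintype.card_units_int, hS8, h]; norm_num⟩).2 _
    · let F' : ↥U →* (↥S → ℤˣ) := MonoidHom.mk' F hFm
      have hidx : F'.range.index = 2 := by
        have h1 := F'.range.card_mul_index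
        rw [← Nat.card_congr (MonoidHom.ofInjective (f := F') hFi).toEquiv, Nat.card_eq_fintype_card, h,
          Nat.card_eq_fintype_card, Fintype.card_fun, Fintype.card_units_int, hS8] at h1
        omega
      have hsingle : ∀ k, sv {k} ∉ F'.range := by
        rintro k ⟨u, hu⟩
        exact hnotWp u (by rw [htv u {k} hu]; norm_num) hle
      suffices ∀ n, ∀ T : Finset (Fin 8), T.card = n → Even n → sv T ∈ F'.range from this _ T rfl (hT h)
      intro n
      induction n using Nat.strong_induction_on with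
      | _ n ih =>
        intro T hTn hev
        rcases Nat.eq_zero_or_pos n with h0 | h0
        · subst h0
          rw [Finset.card_eq_zero.1 hTn]
          have : sv ∅ = 1 := funext fun χ => by simp [sv]
          rw [this]; exact one_mem _
        · have h2' : 2 ≤ T.card := by obtain ⟨m, hm⟩ := hev; omega
          obtain ⟨i, hi, j, hj, hij⟩ := Finset.one_lt_card.1 (show 1 < T.card by omega)
          have hsub : {i, j} ⊆ T := by intro x hx; simp at hx; rcases hx with rfl | rfl <;> assumption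
          have e : T = symmDiff (T \ {i, j}) (symmDiff {i} {j}) := by
            ext x
            simp only [Finset.mem_symmDiff, Finset.mem_sdiff, Finset.mem_insert, Finset.mem_singleton]
            by_cases hxi : x = i
            · subst hxi; simp [hi, hij]
            · by_cases hxj : x = j
              · subst hxj; simp [hj, Ne.symm hij]
              · simp [hxi, hxj]
          have hc2 : (T \ {i, j}).card = n - 2 := by
            rw [Finset.card_sdiff_of_subset hsub, Finset.card_pair hij, hTn]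
          rw [e, hsv, hsv]
          refine mul_mem (ih (n - 2) (by omega) _ hc2 (by obtain ⟨m, hm⟩ := hev; exact ⟨m - 1, by omega⟩)) ?_
          rw [Subgroup.mul_mem_iff_of_index_two hidx]
          exact iff_of_false (hsingle i) (hsingle j)
  refine ⟨fun T => if h : ∃ u, F u = sv T then (h.choose : W) else 1, ?_, ?_, ?_⟩
  · intro w
    constructor
    · intro hw
      obtain ⟨T, hT⟩ := hsv' (F ⟨w, hw⟩)
      refine ⟨T, fun h128 => ?_, ?_⟩
      · obtain ⟨g, T', e⟩ := exists_conj_sgn (h2 w hw)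
        have ht := htv ⟨w, hw⟩ T hT.symm
        rw [← tr'_conj g, e, tr'_sgn] at ht
        have hcc : T'.card = T.card := by
          have : (T'.card : ℚ) = T.card := by linarith
          exact_mod_cast this
        have hle : U ≤ Wp := by
          rcases hcard with h | h
          · omega
          · exact h.2
        rw [← hcc, ← sgn_mem_Wp, ← e]
        exact (inferInstance : Wp.Normal).conj_mem _ (hle hw) g
      · have hex : ∃ u, F u = sv T := ⟨_, hT.symm⟩
        show (if h : ∃ u, F u = sv T then (h.choose : W) else 1) = w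
        rw [dif_pos hex]
        exact congrArg Subtype.val (hFi (hex.choose_spec.trans hT))
    · rintro ⟨T, hT, rfl⟩
      show (if h : ∃ u, F u = sv T then (h.choose : W) else 1) ∈ U
      rw [dif_pos (hocc T hT)]
      exact (hocc T hT).choose.2
  · intro T T' hT hT'
    have hU : Fintype.card ↥U = 128 → Even (symmDiff T T').card := fun h => by
      have e : (symmDiff T T').card + 2 * (T ∩ T').card = T.card + T'.card := by
        rw [← Finset.card_union_add_card_inter T T', show T ∪ T' = symmDiff T T' ∪ (T ∩ T') from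
          (by ext x; simp [Finset.mem_symmDiff]; tauto),
          Finset.card_union_of_disjoint (by rw [Finset.disjoint_left]; intro x; simp [Finset.mem_symmDiff]; tauto)]
        ring
      obtain ⟨a, ha⟩ := hT h
      obtain ⟨b, hb⟩ := hT' h
      exact ⟨a + b - (T ∩ T').card, by omega⟩
    simp only [dif_pos (hocc _ hT), dif_pos (hocc _ hT'), dif_pos (hocc _ hU), ← Subgroup.coe_mul]
    refine congrArg Subtype.val (hFi ?_)
    rw [hFm, (hocc _ hU).choose_spec, (hocc _ hT).choose_spec, (hocc _ hT').choose_spec, hsv]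
  · intro T hT
    show tr' (if h : ∃ u, F u = sv T then (h.choose : W) else 1) = _
    rw [dif_pos (hocc T hT)]
    exact htv _ T (hocc T hT).choose_spec

end CfsgLib.OEightStd
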