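import Cfsg.Agent.Lib.OEightStd.Bits
import Cfsg.Agent.Lib.E8.Reduction

/-!
Orthogonal roots of the lattice are carried into the frame by isometries.
-/

set_option autoImplicit false
set_option maxRecDepth 100000
set_option linter.unusedSectionVars false

namespace CfsgLib.OEightStd

open Matrix CfsgLib.E8

/-- coordinates of a position -/
def pos (i : Fin 8) : Ix := if h : i.1 < 4 then .inl ⟨i.1, h⟩ else .inr ⟨i.1 - 4, by omega⟩

/-- parity of an integer -/
def odd (c : ℤ) : Bool := decide (c % 2 = 1)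

theorem odd_add (a b : ℤ) : odd (a + b) = (odd a ^^ odd b) := by
  rcases Int.emod_two_eq_zero_or_one a with h | h <;> rcases Int.emod_two_eq_zero_or_one b with h' | h' <;>
    simp [odd, Int.add_emod, h, h']

theorem odd_mul (a b : ℤ) : odd (a * b) = (odd a && odd b) := by
  rcases Int.emod_two_eq_zero_or_one a with h | h <;> rcases Int.emod_two_eq_zero_or_one b with h' | h' <;>
    simp [odd, Int.mul_emod, h, h']

theorem odd_neg (a : ℤ) : odd (-a) = odd a := by
  simp only [odd, decide_eq_decide]; omega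

theorem odd_congr {a b : ℤ} (h : (2 : ℤ) ∣ a - b) : odd a = odd b := by
  simp only [odd, decide_eq_decide]; omega

/-- the reduction of a vector as a bit string -/
def bv (x : Ix → ℤ) : ℕ := Nat.ofBits fun i : Fin 8 => odd (x (pos i))

theorem bv_lt (x : Ix → ℤ) : bv x < 256 := Nat.ofBits_lt_two_pow _

theorem testBit_bv (x : Ix → ℤ) (i : Fin 8) : (bv x).testBit i.1 = odd (x (pos i)) :=
  Nat.testBit_ofBits_lt _ _ i.2

theorem bv_add (x y : Ix → ℤ) : bv (x + y) = bv x ^^^ bv y := by
  refine Nat.eq_of_testBit_eq fun j => ?_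
  rw [Nat.testBit_xor]
  by_cases hj : j < 8
  · rw [testBit_bv _ ⟨j, hj⟩, testBit_bv _ ⟨j, hj⟩, testBit_bv _ ⟨j, hj⟩, Pi.add_apply, odd_add]
  · have h : ∀ x, (bv x).testBit j = false := fun x => Nat.testBit_ofBits_ge _ _ (by omega)
    rw [h, h, h]; rfl

theorem bv_smul (c : ℤ) (x : Ix → ℤ) : bv (c • x) = if odd c then bv x else 0 := by
  refine Nat.eq_of_testBit_eq fun j => ?_
  by_cases hj : j < 8
  · rw [testBit_bv _ ⟨j, hj⟩, Pi.smul_apply, smul_eq_mul, odd_mul]
    cases h : odd c <;> simp [testBit_bv _ ⟨j, hj⟩]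
  · have h : ∀ x, (bv x).testBit j = false := fun x => Nat.testBit_ofBits_ge _ _ (by omega)
    split_ifs <;> simp [h]

theorem bv_neg (x : Ix → ℤ) : bv (-x) = bv x := by
  rw [← neg_one_smul ℤ x, bv_smul]; rfl

theorem bv_sub (x y : Ix → ℤ) : bv (x - y) = bv x ^^^ bv y := by
  rw [sub_eq_add_neg, bv_add, bv_neg]

theorem qb_bv (x : Ix → ℤ) : qb (bv x) = odd (q x) := by
  have hsum : ∀ {κ : Type} (s : Finset κ) (f g : κ → ℤ), (∀ k ∈ s, (2 : ℤ) ∣ f k - g k) →
      (2 : ℤ) ∣ ∑ k ∈ s, f k - ∑ k ∈ s, g k := fun s f g h => by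
    rw [← Finset.sum_sub_distrib]; exact Finset.dvd_sum h
  have h : (2 : ℤ) ∣ q x - ∑ a : Fin 4, x (.inl a) * x (.inr a) := by
    have h1 : (2 : ℤ) ∣ q x - ∑ i, ∑ j, (match i, j with
        | Sum.inl a, Sum.inr b => if a = b then (1 : ℤ) else 0
        | _, _ => 0) * (x i * x j) := by
      refine hsum _ _ _ fun i _ => hsum _ _ _ fun j _ => ?_
      obtain ⟨k, hk⟩ := congr_six i j
      exact ⟨3 * k * (x i * x j), by linear_combination (x i * x j) * hk⟩
    convert h1 using 2
    simp [Fintype.sum_sum_type]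
  rw [odd_congr h, Fin.sum_univ_four, odd_add, odd_add, odd_add, odd_mul, odd_mul, odd_mul, odd_mul, qb]
  rw [show (bv x).testBit 0 = _ from testBit_bv x 0, show (bv x).testBit 1 = _ from testBit_bv x 1,
    show (bv x).testBit 2 = _ from testBit_bv x 2, show (bv x).testBit 3 = _ from testBit_bv x 3,
    show (bv x).testBit 4 = _ from testBit_bv x 4, show (bv x).testBit 5 = _ from testBit_bv x 5,
    show (bv x).testBit 6 = _ from testBit_bv x 6, show (bv x).testBit 7 = _ from testBit_bv x 7]
  rfl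

theorem bb_bv (x y : Ix → ℤ) : bb (bv x) (bv y) = odd (bil x y) := by
  rw [bb, ← bv_add, qb_bv, qb_bv, qb_bv, q_add, odd_add, odd_add]
  cases odd (q x) <;> cases odd (q y) <;> cases odd (bil x y) <;> rfl

theorem bv_refl {r : Ix → ℤ} (hr : q r = 1) (x : Ix → ℤ) :
    bv (act (refl r hr) x) = tr (bv r) (bv x) := by
  rw [act_refl, bv_sub, bv_smul, tr, bb_bv, bil_comm]
  split_ifs <;> simp

/-! ### Roots -/

theorem qb_root {x : Ix → ℤ} (hx : q x = 1) : qb (bv x) = true := by rw [qb_bv, hx]; rfl

theorem root_cases {x y : Ix → ℤ} (hx : q x = 1) (hy : q y = 1) (h : bv x = bv y) : x = y ∨ x = -y := by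
  have hd : ∀ i : Ix, (2 : ℤ) ∣ x i - y i := by
    intro i
    obtain ⟨k, rfl⟩ : ∃ k, pos k = i := by revert i; decide
    have := congrArg (fun n => n.testBit k.1) h
    simp only [testBit_bv, odd, decide_eq_decide] at this
    omega
  choose z hz using hd
  exact eq_or_neg_of_two (z := z) hx hy (funext fun i => by
    simp only [Pi.add_apply, Pi.smul_apply, smul_eq_mul]; linarith [hz i])

theorem root_bounds {x y : Ix → ℤ} (hx : q x = 1) (hy : q y = 1) :
    -2 ≤ bil x y ∧ bil x y ≤ 2 ∧ (bil x y = 2 → x = y) ∧ (bil x y = -2 → x = -y) := by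
  have h0 : ∀ v, 0 ≤ q v := fun v => by
    by_contra h
    have := eq_zero_of_q_nonpos (x := v) (by omega)
    subst this
    simp [q] at h
  have e1 : q (x + y) = 2 + bil x y := by rw [q_add, hx, hy]; ring
  have e2 : q (x - y) = 2 - bil x y := by
    rw [sub_eq_add_neg, q_add, ← neg_one_smul ℤ y, q_smul, bil_smul_right, hx, hy]; ring
  refine ⟨by linarith [h0 (x + y)], by linarith [h0 (x - y)], fun h => ?_, fun h => ?_⟩
  · exact sub_eq_zero.1 (eq_zero_of_q_nonpos (by omega))
  · exact eq_neg_of_add_eq_zero_left (eq_zero_of_q_nonpos (by omega))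

theorem bil_neg_right (x y : Ix → ℤ) : bil x (-y) = -bil x y := by
  rw [← neg_one_smul ℤ y, bil_smul_right]; ring

/-- roots with different reductions are orthogonal exactly when the reductions are -/
theorem bil_eq_zero_iff {x y : Ix → ℤ} (hx : q x = 1) (hy : q y = 1) :
    bil x y = 0 ↔ bb (bv x) (bv y) = false ∧ bv x ≠ bv y := by
  rw [bb_bv]
  constructor
  · intro h
    refine ⟨by rw [h]; rfl, fun e => ?_⟩
    rcases root_cases hx hy e with rfl | rfl
    · rw [bil_self, hx] at h; norm_num at h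
    · rw [bil_comm, bil_neg_right, bil_self, hy] at h; norm_num at h
  · rintro ⟨h1, h2⟩
    obtain ⟨l, u, e1, e2⟩ := root_bounds hx hy
    simp only [odd, decide_eq_false_iff_not] at h1
    rcases (show bil x y = -2 ∨ bil x y = 0 ∨ bil x y = 2 by omega) with h | h | h
    · exact absurd (by rw [e2 h, bv_neg]) h2
    · exact h
    · exact absurd (by rw [e1 h]) h2

theorem roots_bits : ∀ v : Fin 256, qb v.1 = true →
    rootList.any (fun L => decide (bv (vec L) = v.1)) = true := by decide +kernel

theorem exists_root {v : ℕ} (hv : qb v = true) (h : v < 256) : ∃ x, q x = 1 ∧ bv x = v := by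
  obtain ⟨L, hL, e⟩ := List.any_eq_true.1 (roots_bits ⟨v, h⟩ hv)
  exact ⟨vec L, by simpa using List.all_eq_true.1 roots_norm L hL, by simpa using e⟩

theorem bv_a (k : Fin 8) : bv (a k) = fb k := by
  revert k; decide +kernel

/-- a word of transvections lifts -/
theorem exists_lift : ∀ w : List ℕ, (∀ v ∈ w, qb v = true ∧ v < 256) →
    ∃ g : W, ∀ x, bv (act g x) = app w (bv x)
  | [], _ => ⟨1, fun x => by rw [act_one]; rfl⟩
  | v :: vs, h => by
    obtain ⟨r, hr, rfl⟩ := exists_root (h v List.mem_cons_self).1 (h v List.mem_cons_self).2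
    obtain ⟨g, hg⟩ := exists_lift vs fun u hu => h u (List.mem_cons_of_mem _ hu)
    exact ⟨refl r hr * g, fun x => by rw [act_mul, bv_refl, hg]; rfl⟩

theorem exists_lift_level {n : ℕ} {t : List (ℕ × List ℕ)} (ht : tabOK n t = true) {x : Ix → ℤ}
    (hx : q x = 1) (h : ∀ u ∈ fv.take n, bb (bv x) u = false ∧ bv x ≠ u) :
    ∃ g : W, bv (act g x) = fv.getD n 0 ∧ ∀ y, bv y ∈ fv.take n → bv (act g y) = bv y := by
  simp only [tabOK, Bool.and_eq_true, beq_iff_eq, List.all_eq_true, wordOK] at ht
  obtain ⟨h1, h2⟩ := ht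
  have hm : bv x ∈ perp n := by
    refine List.mem_filter.2 ⟨List.mem_filter.2 ⟨List.mem_range.2 (bv_lt x), qb_root hx⟩, ?_⟩
    simpa [List.all_eq_true] using h
  rw [← h1, List.mem_map] at hm
  obtain ⟨e, he, hev⟩ := hm
  obtain ⟨⟨hw, hfix⟩, hto⟩ := h2 e he
  obtain ⟨g, hg⟩ := exists_lift e.2 fun v hv => ⟨(hw v hv).1, by simpa using (hw v hv).2⟩
  exact ⟨g, by rw [hg, ← hev, hto], fun y hy => by rw [hg]; exact hfix _ hy⟩

theorem grow_sound : ∀ (vs acc S : List ℕ), grow acc vs = true → S.Sublist vs →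
    acc.Pairwise (fun u v => bb u v = false) →
    (∀ v ∈ S, ∀ u ∈ acc, bb u v = false) → S.Pairwise (fun u v => bb v u = false) →
    ∃ e ∈ level3, ∀ v, v ∈ acc ∨ v ∈ S → v ∈ e.1
  | [], acc, S, h, hS, _, _, _ => by
    rw [List.sublist_nil] at hS
    subst hS
    simp only [grow, List.any_eq_true, List.all_eq_true, List.contains_iff_mem] at h
    obtain ⟨e, he, h⟩ := h
    exact ⟨e, he, fun v hv => h v (by simpa using hv)⟩
  | v :: vs, acc, S, h, hS, hacc, hcross, hp => by
    simp only [grow, Bool.and_eq_true, Bool.or_eq_true] at h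
    cases hS with
    | cons _ hS => exact grow_sound vs acc S h.1 hS hacc hcross hp
    | cons_cons _ hS =>
      rename_i S'
      rw [List.pairwise_cons] at hp
      have hv : ∀ u ∈ acc, bb u v = false := hcross v List.mem_cons_self
      have hok : (!(acc.all fun u => !(bb u v))) = false := by
        simpa [List.all_eq_true] using hv
      obtain ⟨e, he, hm⟩ := grow_sound vs (v :: acc) S' (h.2.resolve_left (by simp [hok])) hS
        (List.pairwise_cons.2 ⟨fun u hu => by rw [bb, Nat.xor_comm, Bool.xor_right_comm]; exact hv u hu, hacc⟩)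
        (fun s hs u hu => by
          rcases List.mem_cons.1 hu with rfl | hu
          · rw [bb, Nat.xor_comm, Bool.xor_right_comm]; exact hp.1 s hs
          · exact hcross s (List.mem_cons_of_mem _ hs) u hu) hp.2
      refine ⟨e, he, fun w hw => hm w ?_⟩
      rcases hw with hw | hw
      · exact Or.inl (List.mem_cons_of_mem _ hw)
      · rcases List.mem_cons.1 hw with rfl | hw
        · exact Or.inl List.mem_cons_self
        · exact Or.inr hw

/-- mutual orthogonality -/
def Orth (l : List (Ix → ℤ)) : Prop := (∀ x ∈ l, q x = 1) ∧ l.Pairwise fun x y => bil x y = 0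

theorem Orth.map {l : List (Ix → ℤ)} (h : Orth l) (g : W) : Orth (l.map (act g)) :=
  ⟨fun x hx => by obtain ⟨y, hy, rfl⟩ := List.mem_map.1 hx; rw [act_q]; exact h.1 y hy,
    List.pairwise_map.2 (h.2.imp fun {x y} e => by rw [act_bil]; exact e)⟩

theorem Orth.bb {x : Ix → ℤ} {l : List (Ix → ℤ)} (h : Orth (x :: l)) {y : Ix → ℤ} (hy : y ∈ l) :
    OEightStd.bb (bv y) (bv x) = false ∧ bv y ≠ bv x :=
  (bil_eq_zero_iff (h.1 y (List.mem_cons_of_mem _ hy)) (h.1 x List.mem_cons_self)).1
    (by rw [bil_comm]; exact (List.pairwise_cons.1 h.2).1 y hy)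

theorem mem_fv {v : ℕ} (h : v ∈ fv) : ∃ k : Fin 8, fb k = v := by
  revert h; simp only [fv, List.mem_cons, List.not_mem_nil, or_false]
  rintro (rfl | rfl | rfl | rfl | rfl | rfl | rfl | rfl) <;> decide

theorem eq_frame_of_bv {x : Ix → ℤ} (hx : q x = 1) {k : Fin 8} (h : bv x = fb k) :
    x = a k ∨ x = -a k :=
  root_cases hx (a_norm k) (by rw [h, bv_a])

/-- the first three roots of an orthogonal list are carried to the first three of the frame -/
theorem exists_prefix {l : List (Ix → ℤ)} (h : Orth l) :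
    ∃ g : W, ∀ i (hi : i < l.length), i < 3 → bv (act g l[i]) = fv.getD i 0 := by
  cases l with
  | nil => exact ⟨1, fun i hi => absurd hi (by simp)⟩
  | cons x l =>
    obtain ⟨g₀, hg₀, -⟩ := exists_lift_level level0_ok (h.1 x List.mem_cons_self) (by simp)
    cases l with
    | nil => exact ⟨g₀, fun i hi _ => by simp only [List.length_singleton] at hi; interval_cases i; exact hg₀⟩
    | cons y l =>
      have h1 := (h.map g₀).bb (x := act g₀ x) (l := (y :: l).map (act g₀)) (y := act g₀ y) List.mem_cons_self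
      rw [hg₀] at h1
      obtain ⟨g₁, hg₁, hf₁⟩ := exists_lift_level level1_ok (x := act g₀ y)
        (by rw [act_q]; exact h.1 y (by simp)) (by
          intro u hu
          simp only [fv, List.take_succ_cons, List.take_zero, List.mem_cons, List.not_mem_nil, or_false] at hu
          subst hu; exact h1)
      have e0 : bv (act (g₁ * g₀) x) = fv.getD 0 0 := by
        rw [act_mul, hf₁ _ (by rw [hg₀]; decide), hg₀]
      have e1 : bv (act (g₁ * g₀) y) = fv.getD 1 0 := by rw [act_mul, hg₁]
      cases l with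
      | nil =>
        refine ⟨g₁ * g₀, fun i hi _ => ?_⟩
        simp only [List.length_cons, List.length_nil] at hi
        interval_cases i
        exacts [e0, e1]
      | cons z l =>
        have h' : Orth (y :: z :: l) :=
          ⟨fun v hv => h.1 v (List.mem_cons_of_mem _ hv), (List.pairwise_cons.1 h.2).2⟩
        have a0 := (h.map (g₁ * g₀)).bb (x := act (g₁ * g₀) x) (l := (y :: z :: l).map (act (g₁ * g₀)))
          (y := act (g₁ * g₀) z) (by simp)
        have a1 := (h'.map (g₁ * g₀)).bb (x := act (g₁ * g₀) y) (l := (z :: l).map (act (g₁ * g₀)))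
          (y := act (g₁ * g₀) z) (by simp)
        rw [e0] at a0; rw [e1] at a1
        obtain ⟨g₂, hg₂, hf₂⟩ := exists_lift_level level2_ok (x := act (g₁ * g₀) z)
          (by rw [act_q]; exact h.1 z (by simp)) (by
            intro u hu
            simp only [fv, List.take_succ_cons, List.take_zero, List.mem_cons, List.not_mem_nil, or_false] at hu
            rcases hu with rfl | rfl
            exacts [a0, a1])
        refine ⟨g₂ * (g₁ * g₀), fun i _ hi3 => ?_⟩
        interval_cases i
        · show bv (act _ x) = _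
          rw [act_mul, hf₂ _ (by rw [e0]; decide), e0]
        · show bv (act _ y) = _
          rw [act_mul, hf₂ _ (by rw [e1]; decide), e1]
        · show bv (act _ z) = _
          rw [act_mul, hg₂]

/-- every orthogonal set of roots is carried into the frame -/
theorem exists_frame {l : List (Ix → ℤ)} (h : Orth l) :
    ∃ g : W, ∀ x ∈ l, ∃ k, act g x = a k ∨ act g x = -a k := by
  obtain ⟨g, hg⟩ := exists_prefix h
  suffices h' : ∃ g' : W, ∀ x ∈ l, bv (act g' x) ∈ fv by
    obtain ⟨g', hg'⟩ := h'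
    exact ⟨g', fun x hx => by
      obtain ⟨k, hk⟩ := mem_fv (hg' x hx)
      exact ⟨k, eq_frame_of_bv (by rw [act_q]; exact h.1 x hx) hk.symm⟩⟩
  by_cases hlen : l.length ≤ 3
  · refine ⟨g, fun x hx => ?_⟩
    obtain ⟨i, hi, rfl⟩ := List.getElem_of_mem hx
    rw [hg i hi (by omega), List.getD_eq_getElem _ _ (by simp [fv]; omega)]
    exact List.getElem_mem _
  obtain ⟨x, y, z, r, rfl⟩ : ∃ x y z r, l = x :: y :: z :: r := by
    rcases l with _ | ⟨x, _ | ⟨y, _ | ⟨z, r⟩⟩⟩
    all_goals first
      | exact ⟨x, y, z, r, rfl⟩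
      | simp at hlen
  have e : [bv (act g x), bv (act g y), bv (act g z)] = fv.take 3 := by
    have h0 := hg 0 (by simp) (by omega); have h1 := hg 1 (by simp) (by omega)
    have h2 := hg 2 (by simp) (by omega)
    simp only [List.getElem_cons_zero, List.getElem_cons_succ] at h0 h1 h2
    rw [h0, h1, h2]; rfl
  have hO := h.map g
  have hp : (r.map fun v => bv (act g v)).Pairwise fun u v => bb u v = false ∧ u ≠ v := by
    rw [List.pairwise_map]
    have := ((List.pairwise_cons.1 ((List.pairwise_cons.1 (List.pairwise_cons.1 h.2).2).2)).2)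
    refine this.imp_of_mem fun {u v} hu hv huv => ?_
    exact (bil_eq_zero_iff (by rw [act_q]; exact h.1 u (by simp [hu]))
      (by rw [act_q]; exact h.1 v (by simp [hv]))).1 (by rw [act_bil]; exact huv)
  have hmem : ∀ v ∈ r.map (fun v => bv (act g v)), v ∈ perp 3 := by
    intro v hv
    obtain ⟨u, hu, rfl⟩ := List.mem_map.1 hv
    refine List.mem_filter.2 ⟨List.mem_filter.2 ⟨List.mem_range.2 (bv_lt _),
      qb_root (by rw [act_q]; exact h.1 u (by simp [hu]))⟩, ?_⟩
    rw [← e]
    simp only [List.all_eq_true, List.mem_cons, List.not_mem_nil, or_false, Bool.and_eq_true,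
      Bool.not_eq_eq_eq_not, Bool.not_true, bne_iff_ne]
    have h2 : ∀ w, w = x ∨ w = y ∨ w = z → bil u w = 0 := by
      have p1 := List.pairwise_cons.1 h.2
      have p2 := List.pairwise_cons.1 p1.2
      have p3 := List.pairwise_cons.1 p2.2
      rintro w (rfl | rfl | rfl) <;> rw [bil_comm]
      · exact p1.1 u (by simp [hu])
      · exact p2.1 u (by simp [hu])
      · exact p3.1 u hu
    rintro w (rfl | rfl | rfl)
    all_goals exact (bil_eq_zero_iff (by rw [act_q]; exact h.1 u (by simp [hu]))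
      (by rw [act_q]; exact h.1 _ (by simp))).1 (by rw [act_bil]; exact h2 _ (by simp))
  obtain ⟨hgrow, hok⟩ := Bool.and_eq_true_iff.1 level3_ok
  set R := (perp 3).filter fun v => (r.map fun v => bv (act g v)).contains v with hR
  obtain ⟨p, hpl, hpm⟩ := grow_sound (perp 3) [] R hgrow List.filter_sublist List.Pairwise.nil
    (by simp) (by
      have hnd : R.Nodup := (List.nodup_range.filter _).filter _ |>.filter _
      refine hnd.pairwise_of_forall_ne fun u hu v hv huv => ?_
      simp only [hR, List.mem_filter, List.contains_iff_mem] at hu hv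
      haveI : Std.Symm fun u v : ℕ => bb u v = false ∧ u ≠ v :=
        ⟨fun a b hab => ⟨by rw [bb, Nat.xor_comm, Bool.xor_right_comm]; exact hab.1, hab.2.symm⟩⟩
      exact (hp.forall hv.2 hu.2 huv.symm).1)
  simp only [List.all_eq_true, Bool.and_eq_true, wordOK, List.contains_iff_mem, beq_iff_eq] at hok
  obtain ⟨⟨hw, hfix⟩, hto⟩ := hok p hpl
  obtain ⟨g₃, hg₃⟩ := exists_lift p.2 fun v hv => ⟨(hw v hv).1, by simpa using (hw v hv).2⟩
  refine ⟨g₃ * g, fun w hw' => ?_⟩
  rw [act_mul, hg₃]
  rcases List.mem_cons.1 hw' with rfl | hw'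
  · have hm : bv (act g w) ∈ fv.take 3 := by rw [← e]; simp
    rw [hfix _ hm]; exact List.take_subset _ _ hm
  rcases List.mem_cons.1 hw' with rfl | hw'
  · have hm : bv (act g w) ∈ fv.take 3 := by rw [← e]; simp
    rw [hfix _ hm]; exact List.take_subset _ _ hm
  rcases List.mem_cons.1 hw' with rfl | hw'
  · have hm : bv (act g w) ∈ fv.take 3 := by rw [← e]; simp
    rw [hfix _ hm]; exact List.take_subset _ _ hm
  refine hto _ (hpm _ (Or.inr ?_))
  simp only [hR, List.mem_filter, List.contains_iff_mem]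
  exact ⟨hmem _ (List.mem_map_of_mem hw'), List.mem_map_of_mem hw'⟩

end CfsgLib.OEightStd
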