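import Cfsg.Agent.Lib.OEightStd.Ctx

/-!
The normalizer of an elementary group of shape frame, or of the second even shape, fixes the central
involution.
-/

set_option autoImplicit false
set_option maxRecDepth 100000
set_option linter.unusedSectionVars false

namespace CfsgLib.OEightStd

open Matrix CfsgLib.E8
open Kills (inS isAuto pm pl xr top wt shift pm_bit pm_wt isAuto_inj)

theorem supp_top : supp top = Finset.univ := by decide +kernel

theorem supp_one : supp 1 = {0} := by decide +kernel

theorem sgn_supp_mul (x y : Fin 256) : sgn (supp x) * sgn (supp y) = sgn (supp (xr x y)) := by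
  rw [sgn_mul, supp_xr]

theorem sgn_supp_mem {x : Fin 256} : sgn (supp x) ∈ Wp ↔ wt x % 2 = 0 := by
  rw [sgn_mem_Wp, wt_supp, Nat.even_iff]

theorem mod_two_of_units {m n : ℕ} (h : (-1 : ℤˣ) ^ m = (-1) ^ n) : m % 2 = n % 2 := by
  rcases Nat.even_or_odd m with hm | hm <;> rcases Nat.even_or_odd n with hn | hn <;>
    rw [hm.neg_one_pow, hn.neg_one_pow] at h <;>
    first
      | exact absurd h (by decide)
      | (rw [Nat.even_iff] at hm hn; omega)
      | (rw [Nat.odd_iff] at hm hn; omega)

theorem wt_xr (x y : Fin 256) : wt (xr x y) % 2 = (wt x + wt y) % 2 := by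
  have h : parity (sgn (supp (xr x y))) = parity (sgn (supp x)) * parity (sgn (supp y)) := by
    rw [← map_mul, sgn_supp_mul]
  rw [parity_sgn, parity_sgn, parity_sgn, wt_supp, wt_supp, wt_supp, ← pow_add] at h
  exact mod_two_of_units h

theorem tr'_mul_negW {T : Finset (Fin 8)} : tr' (sgn T * negW) = 2 * (T.card : ℚ) - 8 := by
  rw [← sgn_univ, sgn_mul, tr'_sgn]
  have e : symmDiff T Finset.univ = Tᶜ := by
    ext x; simp [Finset.mem_symmDiff]
  rw [e, Finset.card_compl, Fintype.card_fin, Nat.cast_sub (by simpa using Finset.card_le_univ T)]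
  push_cast
  ring

/-- an isometry carrying each pair of frame roots to such a pair permutes the frame -/
theorem exists_perm {u : W} (h : ∀ i j : Fin 8, i ≠ j → ∃ T : Finset (Fin 8), u * sgn {i, j} * u⁻¹ = sgn T) :
    ∃ p : Fin 8 → Fin 8, Function.Injective p ∧ ∀ k, act u (a k) = a (p k) ∨ act u (a k) = -a (p k) := by
  have hk : ∀ k, ∃ l, act u (a k) = a l ∨ act u (a k) = -a l := by
    intro k
    obtain ⟨j, hj⟩ : ∃ j : Fin 8, k ≠ j := ⟨if k = 0 then 1 else 0, by split_ifs with h <;> simp [h]⟩
    obtain ⟨T, hT⟩ := h k j hj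
    have hc : T.card = 2 := by
      have h1 := tr'_conj u (sgn {k, j})
      rw [hT, tr'_sgn, tr'_sgn, Finset.card_pair hj] at h1
      push_cast at h1
      have : (T.card : ℚ) = 2 := by linarith
      exact_mod_cast this
    obtain ⟨l, m, hlm, rfl⟩ := Finset.card_eq_two.1 hc
    have hneg : act (sgn {l, m}) (act u (a k)) = -act u (a k) := by
      rw [← hT, act_mul, act_inv_act, act_mul, act_sgn, if_pos (by simp), act_neg]
    rcases frame_two hlm (by rw [act_q, a_norm]) hneg with e | e
    exacts [⟨l, e⟩, ⟨m, e⟩]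
  choose p hp using hk
  refine ⟨p, fun i j e => ?_, hp⟩
  by_contra hne
  have h0 : bil (act u (a i)) (act u (a j)) = 0 := by rw [act_bil]; exact orth' i j hne
  rcases hp i with h1 | h1 <;> rcases hp j with h2 | h2 <;> rw [h1, h2, e] at h0 <;>
    simp only [bil_neg_left, bil_neg_right, bil_self, q_neg, a_norm] at h0 <;> norm_num at h0

theorem supp_pair {i j : Fin 8} (h : i ≠ j) : ∃ x : Fin 256, supp x = {i, j} ∧ wt x % 2 = 0 := by
  obtain ⟨x, hx⟩ := supp_surjective {i, j}
  exact ⟨x, hx, by rw [← wt_supp, hx, Finset.card_pair h]⟩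

namespace Ctx

variable {G : Type*} [Group G] [Finite G] (C : Ctx G)

/-- coordinates on an elementary group containing the central involution -/
structure Coord (ev : Bool) (F : Fin 256 → G) : Prop where
  top_eq : F top = C.z
  hom : ∀ x y, inS ev x = true → inS ev y = true → F (xr x y) = F x * F y
  inj : ∀ x y, inS ev x = true → inS ev y = true → F x = F y → x = y

/-- the permutations induced on the coordinates -/
def Moves (ev : Bool) (F : Fin 256 → G) (π : Equiv.Perm (Fin 256)) : Prop :=
  (∀ x, inS ev x = true → inS ev (π x) = true) ∧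
    ∃ g : G, ∀ x, inS ev x = true → g * F x * g⁻¹ = F (π x)

theorem moves_inv {ev : Bool} {F : Fin 256 → G} {π : Equiv.Perm (Fin 256)} (h : Moves ev F π) :
    Moves ev F π⁻¹ := by
  obtain ⟨hp, g, hg⟩ := h
  have hbij : ∀ y, inS ev y = true → inS ev (π.symm y) = true := by
    intro y hy
    have hi : Function.Injective (fun x : {x // inS ev x = true} => (⟨π x.1, hp _ x.2⟩ : {x // inS ev x = true})) :=
      fun a b e => Subtype.ext (π.injective (congrArg Subtype.val e))
    obtain ⟨x, hx⟩ := (Finite.injective_iff_surjective.1 hi) ⟨y, hy⟩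
    have e : π x.1 = y := congrArg Subtype.val hx
    rw [← e, Equiv.symm_apply_apply]
    exact x.2
  refine ⟨hbij, g⁻¹, fun y hy => ?_⟩
  have h1 := hg _ (hbij y hy)
  rw [Equiv.apply_symm_apply] at h1
  show g⁻¹ * F y * g⁻¹⁻¹ = F (π.symm y)
  rw [← h1]; group

/-- the group of induced permutations -/
def movesGroup (ev : Bool) (F : Fin 256 → G) : Subgroup (Equiv.Perm (Fin 256)) where
  carrier := {π | Moves ev F π}
  one_mem' := ⟨fun _ h => h, 1, fun x _ => by simp⟩
  mul_mem' := fun {π σ} ⟨hp, g, hg⟩ ⟨hs, h, hh⟩ => ⟨fun x hx => hp _ (hs x hx), g * h, fun x hx => by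
    rw [Equiv.Perm.mul_apply, ← hg _ (hs x hx), ← hh x hx]; group⟩
  inv_mem' := fun h => moves_inv h

variable {C}

theorem Coord.sys {ev : Bool} {F : Fin 256 → G} (hF : C.Coord ev F) : Kills.Sys ev (movesGroup ev F) := by
  refine ⟨fun h hh => hh.1, fun h hh x y hx hy => ?_⟩
  obtain ⟨hp, g, hg⟩ := hh
  refine hF.inj _ _ (hp _ (Kills.inS_xr ev x y hx hy)) (Kills.inS_xr ev _ _ (hp x hx) (hp y hy)) ?_
  rw [← hg _ (Kills.inS_xr ev x y hx hy), hF.hom x y hx hy, hF.hom _ _ (hp x hx) (hp y hy), ← hg x hx, ← hg y hy]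
  group

theorem inS_even {ev : Bool} {x : Fin 256} (h : wt x % 2 = 0) : inS ev x = true := by simp [inS, h]

theorem even_of_inS {x : Fin 256} (h : inS true x = true) : wt x % 2 = 0 := by simpa [inS] using h

variable (C) in
/-- the frame coordinates -/
noncomputable def frameF (e1 : G) (x : Fin 256) : G :=
  if wt x % 2 = 0 then C.emb (sgn (supp x)) else C.emb (sgn (supp (xr x 1))) * e1

variable (C) in
/-- an involution outside inducing the first reflection, when needed -/
def Outer (ev : Bool) (e1 : G) : Prop := ev = false → e1 * e1 = 1 ∧ C.Ind e1 (fr 0)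

theorem even_xr_one {x : Fin 256} (h : ¬ wt x % 2 = 0) : wt (xr x 1) % 2 = 0 := by
  have h1 := wt_xr x 1
  have h2 : wt (1 : Fin 256) = 1 := by decide +kernel
  omega

theorem frameF_ind {ev : Bool} {e1 : G} (he : C.Outer ev e1) {x : Fin 256} (hx : inS ev x = true) :
    C.Ind (C.frameF e1 x) (sgn (supp x)) := by
  unfold frameF
  split_ifs with h
  · exact C.ind_emb (sgn_supp_mem.2 h)
  · cases ev with
    | true => exact absurd (even_of_inS hx) h
    | false =>
      have h1 := C.ind_mul (C.ind_emb (sgn_supp_mem.2 (even_xr_one h))) (he rfl).2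
      rw [← sgn_single, ← supp_one, sgn_supp_mul, Kills.xr_assoc, Kills.xr_self, Kills.xr_zero] at h1
      exact h1

theorem frameF_coord {ev : Bool} {e1 : G} (he : C.Outer ev e1) : C.Coord ev (C.frameF e1) := by
  have hem : ∀ x y : Fin 256, wt x % 2 = 0 → wt y % 2 = 0 →
      C.emb (sgn (supp (xr x y))) = C.emb (sgn (supp x)) * C.emb (sgn (supp y)) := fun x y hx hy => by
    rw [← sgn_supp_mul, C.emb_mul (sgn_supp_mem.2 hx) (sgn_supp_mem.2 hy)]
  refine ⟨?_, fun x y hx hy => ?_, fun x y hx hy e => ?_⟩
  · rw [frameF, if_pos (by decide +kernel), supp_top, sgn_univ]; rfl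
  · have hw := wt_xr x y
    cases ev with
    | true =>
      have h1 := even_of_inS hx; have h2 := even_of_inS hy
      rw [frameF, frameF, frameF, if_pos (by omega), if_pos h1, if_pos h2, hem x y h1 h2]
    | false =>
      obtain ⟨hsq, hind⟩ := he rfl
      have hc : ∀ b : Fin 256, wt b % 2 = 0 → e1 * C.emb (sgn (supp b)) = C.emb (sgn (supp b)) * e1 := by
        intro b hb
        have := hind _ (sgn_supp_mem.2 hb)
        rw [← sgn_single, sgn_mul, symmDiff_comm, ← sgn_mul, mul_inv_cancel_right] at this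
        exact mul_inv_eq_iff_eq_mul.1 this
      have e11 : xr (1 : Fin 256) 1 = 0 := Kills.xr_self 1
      unfold frameF
      by_cases h1 : wt x % 2 = 0 <;> by_cases h2 : wt y % 2 = 0
      · rw [if_pos (by omega), if_pos h1, if_pos h2, hem x y h1 h2]
      · rw [if_neg (by omega), if_pos h1, if_neg h2, Kills.xr_assoc, hem x _ h1 (even_xr_one h2), mul_assoc]
      · rw [if_neg (by omega), if_neg h1, if_pos h2, mul_assoc, hc y h2, ← mul_assoc,
          ← hem _ y (even_xr_one h1) h2]
        congr 4
        rw [Kills.xr_assoc, Kills.xr_comm y 1, Kills.xr_assoc]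
      · rw [if_pos (by omega), if_neg h1, if_neg h2, mul_assoc, ← mul_assoc e1, hc _ (even_xr_one h2),
          mul_assoc (C.emb _) e1 e1, hsq, mul_one, ← hem _ _ (even_xr_one h1) (even_xr_one h2)]
        congr 3
        rw [Kills.xr_assoc x 1, Kills.xr_comm y 1, ← Kills.xr_assoc 1 1, e11, Kills.zero_xr]
  · have hix := frameF_ind he hx
    rw [e] at hix
    rcases C.ind_unique hix (frameF_ind he hy) with h | h
    · exact (supp_injective (sgn_injective h)).symm
    · exfalso
      rw [← sgn_univ, ← supp_top, sgn_supp_mul] at h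
      have hxy : y = xr x top := supp_injective (sgn_injective h)
      have hwt : wt y % 2 = wt x % 2 := by
        have h1 := wt_xr x top
        have h2 : wt top = 8 := by decide +kernel
        rw [hxy]; omega
      subst hxy
      have hne : C.emb negW ≠ 1 := C.z_ne
      unfold frameF at e
      have ev2 : ∀ b : Fin 256, wt b % 2 = 0 → C.emb (sgn (supp (xr b top))) = C.emb (sgn (supp b)) * C.emb negW :=
        fun b hb => by rw [hem b top hb (by decide +kernel), supp_top, sgn_univ]
      by_cases h1 : wt x % 2 = 0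
      · rw [if_pos h1, if_pos (by omega), ev2 x h1] at e
        exact hne (left_eq_mul.1 e)
      · rw [if_neg h1, if_neg (by omega), mul_right_cancel_iff,
          show xr (xr x top) 1 = xr (xr x 1) top by rw [Kills.xr_assoc, Kills.xr_comm top 1, Kills.xr_assoc],
          ev2 _ (even_xr_one h1)] at e
        exact hne (left_eq_mul.1 e)

/-- a permutation of places is induced by an element of the component -/
theorem frameF_lower {ev : Bool} {e1 : G} (he : C.Outer ev e1) {p : Fin 8 → Fin 8} (hp : isAuto p = true) :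
    ∃ n ∈ Wp, ∀ x, inS ev x = true → C.emb n * C.frameF e1 x * (C.emb n)⁻¹ = C.frameF e1 (pm p x) := by
  have hinj := isAuto_inj hp
  obtain ⟨n₀, hn₀⟩ := real_of_auto hp
  have adj : ∃ n ∈ Wp, ∀ k, act n (a k) = a (p k) ∨ act n (a k) = -a (p k) := by
    rcases Int.units_eq_one_or (parity n₀) with h | h
    · exact ⟨n₀, mem_Wp_iff.2 h, hn₀⟩
    · refine ⟨n₀ * fr 0, mem_Wp_iff.2 (by rw [map_mul, h, fr, parity_refl]; rfl), fun k => ?_⟩
      rw [act_mul, ← sgn_single, act_sgn]
      split_ifs
      · rcases hn₀ k with e | e <;> rw [act_neg, e] <;> simp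
      · exact hn₀ k
  obtain ⟨n, hn, hact⟩ := adj
  refine ⟨n, hn, fun x hx => ?_⟩
  have hconj : ∀ b, n * sgn (supp b) * n⁻¹ = sgn (supp (pm p b)) := fun b => by
    rw [mono_conj hinj hact, supp_pm hinj]
  unfold frameF
  have hw : wt (pm p x) = wt x := pm_wt hinj x
  by_cases h : wt x % 2 = 0
  · rw [if_pos h, if_pos (by omega), C.emb_conj hn (sgn_supp_mem.2 h), hconj]
  · rw [if_neg h, if_neg (by omega)]
    cases ev with
    | true => exact absurd (even_of_inS hx) h
    | false =>
      obtain ⟨hsq, hind⟩ := he rfl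
      have hfsq : fr 0 * fr 0 = (1 : W) := refl_sq _
      have hfinv : (fr 0 : W)⁻¹ = fr 0 := inv_eq_of_mul_eq_one_right hfsq
      have hm1 : fr 0 * n * fr 0 ∈ Wp := by
        have := conj_mem (u := fr 0) hn
        rwa [hfinv] at this
      have h1 : e1 * C.emb n * e1 = C.emb (fr 0 * n * fr 0) := by
        have := hind n hn
        rwa [hfinv, inv_eq_of_mul_eq_one_right hsq] at this
      have h2 : C.emb n * (C.emb (sgn (supp (xr x 1))) * e1) * (C.emb n)⁻¹ =
          C.emb (n * sgn (supp (xr x 1)) * n⁻¹) * (C.emb n * e1 * (C.emb n)⁻¹) := by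
        rw [← C.emb_conj hn (sgn_supp_mem.2 (even_xr_one h))]; group
      have hm2 : n * fr 0 * n⁻¹ * fr 0 ∈ Wp := by
        have := mul_mem hn (conj_mem (u := fr 0) (inv_mem hn))
        rw [hfinv] at this
        convert this using 1
        group
      have h3 : C.emb n * e1 * (C.emb n)⁻¹ = C.emb (n * fr 0 * n⁻¹ * fr 0) * e1 := by
        have h4 : e1 * (C.emb n)⁻¹ * e1 = C.emb (fr 0 * n⁻¹ * fr 0) := by
          have := hind _ (inv_mem hn)
          rwa [hfinv, inv_eq_of_mul_eq_one_right hsq, C.emb_inv hn] at this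
        rw [show n * fr 0 * n⁻¹ * fr 0 = n * (fr 0 * n⁻¹ * fr 0) by group, C.emb_mul hn (by
          have := conj_mem (u := fr 0) (inv_mem hn); rwa [hfinv] at this), ← h4]
        rw [show C.emb n * (e1 * (C.emb n)⁻¹ * e1) * e1 = C.emb n * e1 * (C.emb n)⁻¹ * (e1 * e1) by group, hsq,
          mul_one]
      rw [h2, h3, ← mul_assoc, ← C.emb_mul (conj_mem (sgn_supp_mem.2 (even_xr_one h))) hm2]
      congr 2
      rw [hconj, ← sgn_single, ← supp_one,
        show n * sgn (supp 1) * n⁻¹ * sgn (supp 1) = n * sgn (supp 1) * n⁻¹ * sgn (supp 1) from rfl, hconj,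
        sgn_supp_mul, sgn_supp_mul]
      congr 2
      simp only [← Kills.xr_assoc, pm, Kills.lmap_xr]
      rw [Kills.xr_assoc (Kills.lmap _ x), Kills.xr_self, Kills.xr_zero]

theorem frameF_frame (hG : C.Good) {ev : Bool} {e1 : G} (he : C.Outer ev e1) :
    Kills.Frame ev (movesGroup ev (C.frameF e1)) := by
  have hF := frameF_coord he
  refine { toSys := hF.sys, lower := fun p hp => ?_, upper := fun π hπ ht => ?_ }
  · have hinj := isAuto_inj hp
    obtain ⟨n, -, hn⟩ := frameF_lower he hp
    refine ⟨Equiv.ofBijective (pm p) (Finite.injective_iff_bijective.1 (Kills.pm_injective hinj)),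
      ⟨fun x hx => ?_, C.emb n, hn⟩, fun x _ => rfl⟩
    exact Kills.inS_parity (congrArg (· % 2) (pm_wt hinj x)) hx
  · obtain ⟨hpS, g, hg⟩ := hπ
    have hgz : g * C.z = C.z * g := by
      have := hg top (Kills.inS_top ev)
      rw [ht, hF.top_eq] at this
      exact mul_inv_eq_iff_eq_mul.1 this
    obtain ⟨u, hu⟩ := hG.dec g hgz
    have hind : ∀ x, inS ev x = true →
        u * sgn (supp x) * u⁻¹ = sgn (supp (π x)) ∨ u * sgn (supp x) * u⁻¹ = sgn (supp (π x)) * negW := by
      intro x hx
      have h1 := C.ind_mul (C.ind_mul hu (frameF_ind he hx)) (C.ind_inv hu)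
      rw [hg x hx] at h1
      exact C.ind_unique (frameF_ind he (hpS x hx)) h1
    have heven : ∀ x, inS ev x = true → wt (π x) % 2 = wt x % 2 := by
      intro x hx
      have hp : parity (sgn (supp (π x))) = parity (sgn (supp x)) := by
        rcases hind x hx with e | e
        · rw [← e, map_mul, map_mul, map_inv, mul_inv_cancel_comm]
        · have e' := congrArg parity e
          rw [map_mul, map_mul, map_inv, mul_inv_cancel_comm, map_mul, parity_negW, mul_one] at e'
          exact e'.symm
      rw [parity_sgn, parity_sgn, wt_supp, wt_supp] at hp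
      exact mod_two_of_units hp
    have hev : ∀ x, wt x % 2 = 0 → u * sgn (supp x) * u⁻¹ = sgn (supp (π x)) := by
      intro x hx
      have h2 := hg x (inS_even hx)
      have h3 : wt (π x) % 2 = 0 := by rw [heven x (inS_even hx)]; exact hx
      rw [frameF, if_pos hx, frameF, if_pos h3, hu _ (sgn_supp_mem.2 hx)] at h2
      exact C.emb_inj (conj_mem (sgn_supp_mem.2 hx)) (sgn_supp_mem.2 h3) h2
    obtain ⟨p, hinj, hp⟩ := exists_perm (u := u) fun i j hij => by
      obtain ⟨x, hx, hw⟩ := supp_pair hij
      exact ⟨_, hx ▸ hev x hw⟩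
    have hauto := auto_of_mono hinj hp
    have hmono : ∀ x, u * sgn (supp x) * u⁻¹ = sgn (supp (pm p x)) := fun x => by
      rw [mono_conj hinj hp, supp_pm hinj]
    have he0 : ∀ x, wt x % 2 = 0 → π x = pm p x := fun x hx =>
      supp_injective (sgn_injective ((hev x hx).symm.trans (hmono x)))
    cases ev with
    | true =>
      refine ⟨p, false, hauto, fun x hx => ?_⟩
      rw [he0 x (even_of_inS hx)]
      rfl
    | false =>
      have hw1 : wt (1 : Fin 256) % 2 = 1 := by decide +kernel
      have hcase : π 1 = pm p 1 ∨ π 1 = xr (pm p 1) top := by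
        rcases hind 1 rfl with e | e
        · exact Or.inl (supp_injective (sgn_injective (e.symm.trans (hmono 1))))
        · right
          rw [hmono, ← sgn_univ, ← supp_top, sgn_supp_mul] at e
          rw [supp_injective (sgn_injective e), Kills.xr_assoc, Kills.xr_self, Kills.xr_zero]
      have hlin : ∀ x, ¬ wt x % 2 = 0 → π x = xr (pm p (xr x 1)) (π 1) := by
        intro x hx
        rw [← he0 _ (even_xr_one hx), ← (hF.sys).lin π ⟨hpS, g, hg⟩ _ _ rfl rfl, Kills.xr_assoc, Kills.xr_self,
          Kills.xr_zero]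
      have hpm : ∀ x, xr (pm p (xr x 1)) (pm p 1) = pm p x := fun x => by
        simp only [pm, ← Kills.lmap_xr, Kills.xr_assoc, Kills.xr_self, Kills.xr_zero]
      rcases hcase with e | e
      · refine ⟨p, false, hauto, fun x _ => ?_⟩
        by_cases hx : wt x % 2 = 0
        · rw [he0 x hx]; rfl
        · rw [hlin x hx, e, hpm]; rfl
      · refine ⟨p, true, hauto, fun x _ => ?_⟩
        have hwp : wt (pm p x) = wt x := pm_wt hinj x
        by_cases hx : wt x % 2 = 0
        · rw [he0 x hx]; simp [shift, hwp, hx]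
        · rw [hlin x hx, e, ← Kills.xr_assoc, hpm]
          simp [shift, hwp, (Nat.mod_two_eq_zero_or_one (wt x)).resolve_left hx]

/-- normalizing the coordinates -/
def NormF (ev : Bool) (F : Fin 256 → G) (g : G) : Prop :=
  ∀ x, inS ev x = true → ∃ y, inS ev y = true ∧ g * F x * g⁻¹ = F y

theorem Coord.exists_move {ev : Bool} {F : Fin 256 → G} (hF : C.Coord ev F) {g : G} (h : NormF ev F g) :
    ∃ π ∈ movesGroup ev F, g * C.z * g⁻¹ = F (π top) := by
  choose f hf hg using h
  let m : Fin 256 → Fin 256 := fun x => if hx : inS ev x = true then f x hx else x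
  have hm : Function.Injective m := by
    intro a b e
    simp only [m] at e
    by_cases ha : inS ev a = true <;> by_cases hb : inS ev b = true
    · rw [dif_pos ha, dif_pos hb] at e
      refine hF.inj a b ha hb ?_
      have h1 := hg a ha
      rw [e, ← hg b hb] at h1
      exact mul_left_cancel (mul_right_cancel h1)
    · rw [dif_pos ha, dif_neg hb] at e
      exact absurd (e ▸ hf a ha) hb
    · rw [dif_neg ha, dif_pos hb] at e
      exact absurd (e.symm ▸ hf b hb) ha
    · rwa [dif_neg ha, dif_neg hb] at e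
  refine ⟨Equiv.ofBijective m (Finite.injective_iff_bijective.1 hm),
    ⟨fun x hx => ?_, g, fun x hx => ?_⟩, ?_⟩
  · show inS ev (m x) = true
    simp only [m, hx, dite_true]; exact hf x hx
  · show g * F x * g⁻¹ = F (m x)
    simp only [m, hx, dite_true]; exact hg x hx
  · show g * C.z * g⁻¹ = F (m top)
    simp only [m, Kills.inS_top ev, dite_true]
    rw [← hF.top_eq]; exact hg _ (Kills.inS_top ev)

theorem frameF_fix (hG : C.Good) {ev : Bool} {e1 : G} (he : C.Outer ev e1) {g : G}
    (h : NormF ev (C.frameF e1) g) : g * C.z = C.z * g := by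
  obtain ⟨π, hπ, e⟩ := (frameF_coord he).exists_move h
  rw [Kills.fixes_top (frameF_frame hG he) π hπ, (frameF_coord he).top_eq] at e
  exact mul_inv_eq_iff_eq_mul.1 e

end Ctx

end CfsgLib.OEightStd
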