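import Cfsg.Agent.Lib.OEightStd.Frame

/-!
Involutions of the lattice group are sign changes on a frame.
-/

set_option autoImplicit false
set_option maxRecDepth 100000
set_option linter.unusedSectionVars false

namespace CfsgLib.OEightStd

open Matrix CfsgLib.E8

theorem act_add (g : W) (x y : Ix → ℤ) : act g (x + y) = act g x + act g y := mulVec_add _ _ _

theorem act_smul (g : W) (c : ℤ) (x : Ix → ℤ) : act g (c • x) = c • act g x := mulVec_smul _ _ _

theorem act_neg (g : W) (x : Ix → ℤ) : act g (-x) = -act g x := mulVec_neg _ _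

theorem act_sub (g : W) (x y : Ix → ℤ) : act g (x - y) = act g x - act g y := mulVec_sub _ _ _

theorem act_inv_act (g : W) (x : Ix → ℤ) : act g⁻¹ (act g x) = x := by
  rw [← act_mul, inv_mul_cancel, act_one]

theorem act_act_inv (g : W) (x : Ix → ℤ) : act g (act g⁻¹ x) = x := by
  rw [← act_mul, mul_inv_cancel, act_one]

theorem bil_add_left (x y z : Ix → ℤ) : bil (x + y) z = bil x z + bil y z := by
  rw [bil_comm, bil_add_right, bil_comm z x, bil_comm z y]

theorem bil_sub_left (x y z : Ix → ℤ) : bil (x - y) z = bil x z - bil y z := by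
  rw [bil_comm, bil_sub_right, bil_comm z x, bil_comm z y]

theorem bil_neg_left (x y : Ix → ℤ) : bil (-x) y = -bil x y := by
  rw [bil_comm, bil_neg_right, bil_comm]

theorem q_neg (x : Ix → ℤ) : q (-x) = q x := by rw [← neg_one_smul ℤ x, q_smul]; norm_num

theorem q_sub (x y : Ix → ℤ) : q (x - y) = q x + q y - bil x y := by
  rw [sub_eq_add_neg, q_add, q_neg, bil_neg_right]; ring

theorem q_zero : q (0 : Ix → ℤ) = 0 := by simp [q]

theorem refl_apply_self {x : Ix → ℤ} (hx : q x = 1) : act (refl x hx) x = -x := by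
  rw [act_refl, bil_self, hx]; module

theorem refl_apply_orth {x y : Ix → ℤ} (hx : q x = 1) (h : bil x y = 0) : act (refl x hx) y = y := by
  rw [act_refl, h]; module

theorem a_ne_neg (k : Fin 8) : a k ≠ -a k := by
  intro h
  have := congrArg (bil (a k)) h
  rw [bil_neg_right, bil_self, a_norm] at this
  norm_num at this

theorem ext_frame {g h : W} (e : ∀ k, act g (a k) = act h (a k)) : g = h := by
  refine ext_act fun y => ?_
  have hl : ∀ g : W, (2 : ℤ) • act g y = ∑ k, bil (a k) y • act g (a k) := fun g => by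
    rw [← act_smul, ← frame_sum y, act, mulVec_sum]
    exact Finset.sum_congr rfl fun k _ => mulVec_smul _ _ _
  refine (smul_right_injective _ (two_ne_zero : (2 : ℤ) ≠ 0)) ?_
  show (2 : ℤ) • _ = (2 : ℤ) • _
  rw [hl, hl]
  exact Finset.sum_congr rfl fun k _ => by rw [e]

/-- the product of the reflections in the frame roots of a list -/
def prodFr (l : List (Fin 8)) : W := (l.map fr).prod

theorem act_prodFr : ∀ (l : List (Fin 8)), l.Nodup → ∀ j,
    act (prodFr l) (a j) = if j ∈ l then -a j else a j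
  | [], _, j => by simp [prodFr, act_one]
  | k :: l, h, j => by
    rw [List.nodup_cons] at h
    rw [prodFr, List.map_cons, List.prod_cons, act_mul, ← prodFr, act_prodFr l h.2 j]
    by_cases hjk : j = k
    · subst hjk
      rw [if_neg h.1, if_pos List.mem_cons_self, fr, refl_apply_self]
    · have e : act (fr k) (a j) = a j := refl_apply_orth _ (orth' k j (Ne.symm hjk))
      simp only [List.mem_cons, hjk, false_or]
      split_ifs <;> simp [act_neg, e]

/-- the sign change on a set of places of the frame -/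
def sgn (T : Finset (Fin 8)) : W := prodFr ((List.finRange 8).filter fun k => decide (k ∈ T))

theorem act_sgn (T : Finset (Fin 8)) (j : Fin 8) :
    act (sgn T) (a j) = if j ∈ T then -a j else a j := by
  rw [sgn, act_prodFr _ ((List.nodup_finRange 8).filter _)]
  simp

theorem sgn_mul (S T : Finset (Fin 8)) : sgn S * sgn T = sgn (symmDiff S T) := by
  refine ext_frame fun j => ?_
  rw [act_mul, act_sgn, act_sgn]
  by_cases hS : j ∈ S <;> by_cases hT : j ∈ T <;> simp [hS, hT, act_neg, act_sgn, Finset.mem_symmDiff]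

theorem sgn_empty : sgn ∅ = 1 := ext_frame fun j => by rw [act_sgn, act_one]; simp

theorem sgn_sq (T : Finset (Fin 8)) : sgn T * sgn T = 1 := by rw [sgn_mul, symmDiff_self]; exact sgn_empty

theorem sgn_single (k : Fin 8) : sgn {k} = fr k := ext_frame fun j => by
  rw [act_sgn]
  by_cases h : j = k
  · subst h; rw [if_pos (Finset.mem_singleton_self _), fr, refl_apply_self]
  · rw [if_neg (by simpa using h), fr, refl_apply_orth _ (orth' k j (Ne.symm h))]

theorem sgn_injective : Function.Injective sgn := by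
  intro S T h
  ext j
  have := congrArg (fun g => act g (a j)) h
  simp only [act_sgn] at this
  by_cases hS : j ∈ S <;> by_cases hT : j ∈ T <;> simp [hS, hT] at this ⊢
  · exact a_ne_neg j this.symm
  · exact a_ne_neg j this

theorem sgn_univ : sgn Finset.univ = negW := ext_frame fun j => by rw [act_sgn, act_negW]; simp

theorem act_sgn_orth {T : Finset (Fin 8)} {x : Ix → ℤ} (h : ∀ k ∈ T, bil (a k) x = 0) :
    act (sgn T) x = x := by
  suffices ∀ l : List (Fin 8), (∀ k ∈ l, k ∈ T) → act (prodFr l) x = x from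
    this _ fun k hk => by simpa using (List.mem_filter.1 hk).2
  intro l hl
  induction l with
  | nil => simp [prodFr, act_one]
  | cons k l ih =>
    rw [prodFr, List.map_cons, List.prod_cons, act_mul, ← prodFr,
      ih fun j hj => hl j (List.mem_cons_of_mem _ hj), fr,
      refl_apply_orth _ (h k (hl k List.mem_cons_self))]

/-! ### The roots negated by an involution -/

/-- some root is negated -/
def HasAnti (u : W) : Prop := ∃ x, q x = 1 ∧ act u x = -x

theorem HasAnti.of_conj {u g : W} (h : HasAnti (g * u * g⁻¹)) : HasAnti u := by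
  obtain ⟨x, hx, e⟩ := h
  refine ⟨act g⁻¹ x, by rw [act_q, hx], ?_⟩
  rw [← act_neg, ← e, act_mul, act_mul, act_inv_act]

/-- roots used below -/
def pairCert : List (Ix → ℤ) := [2, 4, 6, 8, 10, 12].map fun i => vec (rootList.getD i [])

theorem pairCert_ok : (pairCert.all fun c => decide (q c = 1 ∧ bil c (a 0) = 1 ∧ bil c (a 1) = 1)) = true := by
  decide +kernel

theorem pairCert_sum : (2 : ℤ) • (Pi.single (.inl 0) 1 : Ix → ℤ) =
    a 1 + pairCert.getD 0 0 + pairCert.getD 1 0 + (7 : ℤ) • pairCert.getD 2 0 + pairCert.getD 3 0 +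
      (-9 : ℤ) • pairCert.getD 4 0 + (-3 : ℤ) • pairCert.getD 5 0 := by
  decide +kernel

theorem pairCert_odd : odd ((a 0 + pairCert.getD 0 0 + pairCert.getD 1 0 + (7 : ℤ) • pairCert.getD 2 0 +
    pairCert.getD 3 0 + (-9 : ℤ) • pairCert.getD 4 0 + (-3 : ℤ) • pairCert.getD 5 0 : Ix → ℤ) (.inl 1)) = true := by
  decide +kernel

theorem not_swap {v : W} (h0 : act v (a 0) = a 1) (h1 : act v (a 1) = a 0) (hv : v * v = 1) : HasAnti v := by
  by_contra hno
  have hfix : ∀ c, q c = 1 → bil c (a 0) = 1 → bil c (a 1) = 1 → act v c = c := by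
    intro c hc c0 c1
    have hinv : ∀ x, act v (act v x) = x := fun x => by rw [← act_mul, hv, act_one]
    have d0 : bil (act v c) (a 0) = 1 := by rw [← h1, act_bil, c1]
    have d1 : bil (act v c) (a 1) = 1 := by rw [← h0, act_bil, c0]
    obtain ⟨hl, hu, he, he'⟩ := root_bounds hc (by rw [act_q, hc] : q (act v c) = 1)
    have hcases : bil c (act v c) = -2 ∨ bil c (act v c) = -1 ∨ bil c (act v c) = 0 ∨
        bil c (act v c) = 1 ∨ bil c (act v c) = 2 := by omega
    rcases hcases with h | h | h | h | h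
    · exact absurd ⟨c, hc, (neg_eq_iff_eq_neg.2 (he' h)).symm⟩ hno
    · exfalso
      have ht : q (a 0 + a 1) = 2 := by
        rw [q_add, a_norm, a_norm, orth' 0 1 (by decide)]; norm_num
      have hr : q (c + act v c) = 1 := by rw [q_add, hc, act_q, hc, h]; norm_num
      have hb : bil (c + act v c) (a 0 + a 1) = 4 := by
        rw [bil_add_left, bil_add_right, bil_add_right, c0, c1, d0, d1]; norm_num
      have hz := eq_zero_of_q_nonpos (x := c + act v c - (a 0 + a 1)) (by rw [q_sub, hr, ht, hb]; norm_num)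
      rw [sub_eq_zero] at hz
      rw [hz, ht] at hr
      norm_num at hr
    · refine absurd ⟨a 0 - c, ?_, ?_⟩ hno
      · rw [q_sub, a_norm, hc, bil_comm, c0]; norm_num
      · have hq : q (a 0 - c) = 1 := by rw [q_sub, a_norm, hc, bil_comm, c0]; norm_num
        have hb : bil (a 0 - c) (act v (a 0 - c)) = -2 := by
          rw [act_sub, h0, bil_sub_left, bil_sub_right, bil_sub_right, orth' 0 1 (by decide), bil_comm (a 0) (act v c),
            d0, c1, h]
          norm_num
        exact (neg_eq_iff_eq_neg.2 ((root_bounds hq (by rw [act_q, hq])).2.2.2 hb)).symm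
    · refine absurd ⟨c - act v c, ?_, ?_⟩ hno
      · rw [q_sub, hc, act_q, hc, h]; norm_num
      · rw [act_sub, hinv]; abel
    · exact (he h).symm
  have hc : ∀ i, i < 6 → act v (pairCert.getD i 0) = pairCert.getD i 0 := by
    intro i hi
    have hm : pairCert.getD i 0 ∈ pairCert := by
      rw [List.getD_eq_getElem _ _ (by simp [pairCert]; omega)]; exact List.getElem_mem _
    have := List.all_eq_true.1 pairCert_ok _ hm
    simp only [decide_eq_true_eq] at this
    exact hfix _ this.1 this.2.1 this.2.2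
  have e := congrArg (act v) pairCert_sum
  simp only [act_add, act_smul, h1, hc 0 (by norm_num), hc 1 (by norm_num), hc 2 (by norm_num),
    hc 3 (by norm_num), hc 4 (by norm_num), hc 5 (by norm_num)] at e
  have ho := pairCert_odd
  rw [← congrFun e (.inl 1), Pi.smul_apply, smul_eq_mul, odd_mul] at ho
  exact absurd ho (by simp [odd])

theorem anti_of_orth {u : W} (hu : u * u = 1) {x : Ix → ℤ} (hx : q x = 1) (h : bil x (act u x) = 0) :
    HasAnti u := by
  have hO : Orth [x, act u x] :=
    ⟨by intro y hy; simp at hy; rcases hy with rfl | rfl <;> simp [act_q, hx], by simp [h]⟩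
  obtain ⟨g, hg⟩ := exists_prefix hO
  have e0 : bv (act g x) = fb 0 := hg 0 (by simp) (by omega)
  have e1 : bv (act g (act u x)) = fb 1 := hg 1 (by simp) (by omega)
  obtain ⟨g1, g1x⟩ : ∃ g1 : W, act g1 (act g x) = a 0 ∧ bv (act g1 (act g (act u x))) = fb 1 := by
    rcases eq_frame_of_bv (by rw [act_q, hx]) e0 with h0 | h0
    · exact ⟨1, by rw [act_one, h0], by rw [act_one, e1]⟩
    · refine ⟨refl (a 0) (a_norm 0), by rw [h0, act_neg, refl_apply_self, neg_neg], ?_⟩
      rw [bv_refl, e1, bv_a]; decide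
  obtain ⟨g2, g2x⟩ : ∃ g2 : W, act g2 (a 0) = a 0 ∧ act g2 (act g1 (act g (act u x))) = a 1 := by
    rcases eq_frame_of_bv (by rw [act_q, act_q, act_q, hx]) g1x.2 with h0 | h0
    · exact ⟨1, act_one _, by rw [act_one, h0]⟩
    · exact ⟨refl (a 1) (a_norm 1), refl_apply_orth _ (orth' 1 0 (by decide)),
        by rw [h0, act_neg, refl_apply_self, neg_neg]⟩
  refine HasAnti.of_conj (g := g2 * g1 * g) (not_swap ?_ ?_ ?_)
  · have : act (g2 * g1 * g) x = a 0 := by rw [act_mul, act_mul, g1x.1, g2x.1]
    rw [← this, act_mul (g2 * g1 * g * u), act_inv_act, act_mul, act_mul]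
    simp only [act_mul]; exact g2x.2
  · have : act (g2 * g1 * g) (act u x) = a 1 := by rw [act_mul, act_mul, g2x.2]
    rw [← this, act_mul (g2 * g1 * g * u), act_inv_act, ← act_mul, mul_assoc (g2 * g1 * g), hu, mul_one, act_mul,
      act_mul, g1x.1, g2x.1]
  · rw [show g2 * g1 * g * u * (g2 * g1 * g)⁻¹ * (g2 * g1 * g * u * (g2 * g1 * g)⁻¹) =
      g2 * g1 * g * (u * u) * (g2 * g1 * g)⁻¹ by group, hu, mul_one, mul_inv_cancel]

/-- a root with inner product zero against the others of the frame is proportional -/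
theorem exists_orth_neighbour {x y : Ix → ℤ} (hx : q x = 1) (hy : q y = 1) (h : bil x y = -1) :
    ∃ e, q e = 1 ∧ bil e x = 0 ∧ bil e y = 1 := by
  obtain ⟨g, hg⟩ := exists_prefix (l := [x]) ⟨by simpa using hx, by simp⟩
  have e0 : bv (act g x) = fb 0 := hg 0 (by simp) (by omega)
  have key : ∃ k : Fin 8, k ≠ 0 ∧ bil (a k) (act g y) ≠ 0 := by
    by_contra! hno
    have hs := frame_sum (act g y)
    rw [Finset.sum_eq_single (0 : Fin 8) (fun k _ hk => by rw [hno k hk, zero_smul]) (by simp)] at hs
    have hb : bil (a 0) (act g y) = 1 ∨ bil (a 0) (act g y) = -1 := by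
      rcases eq_frame_of_bv (by rw [act_q, hx]) e0 with h0 | h0
      · rw [← h0, act_bil, h]; exact Or.inr rfl
      · rw [show a 0 = -act g x by rw [h0, neg_neg], bil_neg_left, act_bil, h]; exact Or.inl rfl
    have := congrArg (bil (a 0)) hs
    rw [bil_smul_right, bil_smul_right, bil_self, a_norm] at this
    have h2 := congrArg q hs
    rw [q_smul, q_smul, a_norm, act_q, hy] at h2
    rcases hb with hb | hb <;> rw [hb] at h2 <;> norm_num at h2
  obtain ⟨k, hk0, hk⟩ := key
  have hkx : bil (a k) (act g x) = 0 := by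
    rcases eq_frame_of_bv (by rw [act_q, hx]) e0 with h0 | h0 <;> simp [h0, bil_neg_right, orth' k 0 hk0]
  have hq : q (act g⁻¹ (a k)) = 1 := by rw [act_q, a_norm]
  have bx : bil (act g⁻¹ (a k)) x = 0 := by rw [← act_bil g, act_act_inv, hkx]
  have by' : bil (act g⁻¹ (a k)) y = bil (a k) (act g y) := by rw [← act_bil g, act_act_inv]
  obtain ⟨l, u, e1, e2⟩ := root_bounds hq hy
  rcases (show bil (act g⁻¹ (a k)) y = 1 ∨ bil (act g⁻¹ (a k)) y = -1 ∨ bil (act g⁻¹ (a k)) y = 2 ∨
      bil (act g⁻¹ (a k)) y = -2 by rw [← by'] at hk; omega) with hh | hh | hh | hh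
  · exact ⟨_, hq, bx, hh⟩
  · exact ⟨-act g⁻¹ (a k), by rw [q_neg, hq], by rw [bil_neg_left, bx, neg_zero], by rw [bil_neg_left, hh]; norm_num⟩
  · rw [e1 hh] at bx; rw [bil_comm, h] at bx; norm_num at bx
  · rw [e2 hh, bil_neg_left, bil_comm, h] at bx; norm_num at bx

theorem exists_anti {u : W} (hu : u * u = 1) (h1 : u ≠ 1) : HasAnti u := by
  have hinv : ∀ x, act u (act u x) = x := fun x => by rw [← act_mul, hu, act_one]
  obtain ⟨x, hx, hmove⟩ : ∃ x, q x = 1 ∧ act u x ≠ x := by
    by_contra! hno
    rcases eq_one_or_neg u fun x hx => Or.inl (hno x hx) with h | h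
    · exact h1 h
    · exact a_ne_neg 0 ((hno _ (a_norm 0)).symm.trans (by rw [h, act_negW]))
  obtain ⟨hl, hr, he, he'⟩ := root_bounds hx (by rw [act_q, hx] : q (act u x) = 1)
  have hcases : bil x (act u x) = -2 ∨ bil x (act u x) = -1 ∨ bil x (act u x) = 0 ∨
      bil x (act u x) = 1 ∨ bil x (act u x) = 2 := by omega
  rcases hcases with h | h | h | h | h
  · exact ⟨x, hx, (neg_eq_iff_eq_neg.2 (he' h)).symm⟩
  · obtain ⟨e, hq, ex, ey⟩ := exists_orth_neighbour hx (by rw [act_q, hx]) h
    have cq : q (act u e) = 1 := by rw [act_q, hq]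
    have cx : bil (act u e) x = 1 := by rw [← hinv x, act_bil, ey]
    have cy : bil (act u e) (act u x) = 0 := by rw [act_bil, ex]
    obtain ⟨hl', hr', hf, hf'⟩ := root_bounds cq hq
    have hcases' : bil (act u e) e = -2 ∨ bil (act u e) e = -1 ∨ bil (act u e) e = 0 ∨
        bil (act u e) e = 1 ∨ bil (act u e) e = 2 := by omega
    rcases hcases' with g | g | g | g | g
    · exact ⟨e, hq, hf' g⟩
    · refine ⟨x - act u e, by rw [q_sub, hx, cq, bil_comm, cx]; norm_num, ?_⟩
      have hd : q (x - act u e) = 1 := by rw [q_sub, hx, cq, bil_comm, cx]; norm_num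
      have hb : bil (x - act u e) (act u (x - act u e)) = -2 := by
        rw [act_sub, hinv, bil_sub_left, bil_sub_right, bil_sub_right, h, bil_comm x e, ex, cy, g]
        norm_num
      exact (neg_eq_iff_eq_neg.2 ((root_bounds hd (by rw [act_q, hd])).2.2.2 hb)).symm
    · exact anti_of_orth hu hq (by rw [bil_comm, g])
    · exact ⟨act u e - e, by rw [q_sub, cq, hq, g]; norm_num, by rw [act_sub, hinv]; abel⟩
    · rw [hf g] at cx cy
      rw [ey] at cy; norm_num at cy
  · exact anti_of_orth hu hx h
  · exact ⟨x - act u x, by rw [q_sub, hx, act_q, hx, h]; norm_num, by rw [act_sub, hinv]; abel⟩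
  · exact absurd (he h).symm hmove

theorem length_le {l : List (Ix → ℤ)} (h : Orth l) : l.length ≤ 8 := by
  obtain ⟨g, hg⟩ := exists_frame h
  choose f hf using fun i : Fin l.length => hg _ (List.getElem_mem i.2)
  simpa using Fintype.card_le_of_injective f fun i j e => by
    by_contra hne
    have h0 : bil l[i.1] l[j.1] = 0 := by
      rcases Nat.lt_or_gt_of_ne (fun h => hne (Fin.ext h)) with hlt | hlt
      · exact List.pairwise_iff_getElem.1 h.2 _ _ i.2 j.2 hlt
      · rw [bil_comm]; exact List.pairwise_iff_getElem.1 h.2 _ _ j.2 i.2 hlt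
    rw [← act_bil g] at h0
    rcases hf i with a1 | a1 <;> rcases hf j with a2 | a2 <;>
      rw [a1, a2, e] at h0 <;> simp [bil_neg_left, bil_neg_right, bil_self, a_norm, q_neg] at h0

/-- every involution is conjugate to a sign change on the frame -/
theorem exists_conj_sgn {u : W} (hu : u * u = 1) : ∃ (g : W) (T : Finset (Fin 8)), g * u * g⁻¹ = sgn T := by
  classical
  suffices ∀ n (l : List (Ix → ℤ)), Orth l → (∀ x ∈ l, act u x = -x) → 8 ≤ n + l.length →
      ∃ (g : W) (T : Finset (Fin 8)), g * u * g⁻¹ = sgn T from this 8 [] ⟨by simp, by simp⟩ (by simp) (by simp)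
  intro n
  induction n using Nat.strong_induction_on with
  | _ n ih =>
    intro l hl hanti hn
    obtain ⟨g, hg⟩ := exists_frame hl
    obtain ⟨v, hv⟩ : ∃ v, v = g * u * g⁻¹ := ⟨_, rfl⟩
    let T : Finset (Fin 8) := Finset.univ.filter fun k => ∃ x ∈ l, act g x = a k ∨ act g x = -a k
    have hvv : v * v = 1 := by
      rw [hv, show g * u * g⁻¹ * (g * u * g⁻¹) = g * (u * u) * g⁻¹ by group, hu, mul_one, mul_inv_cancel]
    have hva : ∀ k ∈ T, act v (a k) = -a k := by
      intro k hk
      obtain ⟨x, hx, h⟩ := (Finset.mem_filter.1 hk).2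
      rcases h with h | h
      · rw [← h, hv, act_mul, act_inv_act, act_mul, hanti x hx, act_neg]
      · rw [show a k = -act g x by rw [h, neg_neg], hv, act_neg, act_mul, act_inv_act, act_mul, hanti x hx,
          act_neg, neg_neg]
    set w := v * sgn T with hw
    by_cases hw1 : w = 1
    · exact ⟨g, T, by rw [← hv, ← mul_one v, ← sgn_sq T, ← mul_assoc, ← hw, hw1, one_mul]⟩
    have hcomm : sgn T * v = v * sgn T := by
      refine ext_frame fun j => ?_
      rw [act_mul, act_mul, act_sgn]
      by_cases hj : j ∈ T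
      · rw [if_pos hj, hva j hj, act_neg, act_neg, act_sgn, if_pos hj, hva j hj]
      · rw [if_neg hj, act_sgn_orth]
        intro k hk
        rw [← act_bil v, hva k hk, ← act_mul v v, hvv, act_one, bil_neg_left, orth' k j (fun e => hj (e ▸ hk)), neg_zero]
    obtain ⟨y, hy, hwy⟩ := exists_anti (u := w) (by
      rw [hw, mul_assoc, ← mul_assoc (sgn T), hcomm, mul_assoc, sgn_sq, mul_one, hvv]) hw1
    have hfix : ∀ k ∈ T, act w (a k) = a k := fun k hk => by
      rw [hw, act_mul, act_sgn, if_pos hk, act_neg, hva k hk, neg_neg]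
    have horth : ∀ k ∈ T, bil (a k) y = 0 := by
      intro k hk
      have := act_bil w (a k) y
      rw [hfix k hk, hwy, bil_neg_right] at this
      linarith
    have hvy : act v y = -y := by
      rw [← hwy, hw, act_mul, act_sgn_orth horth]
    have hx : act u (act g⁻¹ y) = -act g⁻¹ y := by
      rw [← act_neg, ← hvy, hv, act_mul, act_mul, act_inv_act]
    have hO : Orth (act g⁻¹ y :: l) := by
      refine ⟨fun z hz => ?_, List.pairwise_cons.2 ⟨fun z hz => ?_, hl.2⟩⟩
      · rcases List.mem_cons.1 hz with rfl | hz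
        exacts [by rw [act_q, hy], hl.1 z hz]
      · obtain ⟨k, hk⟩ := hg z hz
        have hkT : k ∈ T := Finset.mem_filter.2 ⟨Finset.mem_univ _, z, hz, hk⟩
        rw [← act_bil g, act_act_inv, bil_comm]
        rcases hk with e | e <;> rw [e]
        · exact horth k hkT
        · rw [bil_neg_left, horth k hkT, neg_zero]
    have hlen := length_le hO
    simp only [List.length_cons] at hlen
    refine ih (n - 1) (by omega) (act g⁻¹ y :: l) hO ?_ (by simp only [List.length_cons]; omega)
    intro z hz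
    rcases List.mem_cons.1 hz with rfl | hz
    exacts [hx, hanti z hz]

end CfsgLib.OEightStd
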