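import Cfsg.Agent.Lib.OEightStd.Target

/-!
No other conjugate of the central involution commutes with it.
-/

set_option autoImplicit false
set_option maxRecDepth 100000
set_option linter.unusedSectionVars false

namespace CfsgLib.OEightStd

open Matrix CfsgLib.E8
open Kills (inS pm xr top wt)

namespace Ctx

variable {G : Type*} [Group G] [Finite G] {C : Ctx G}

theorem comm_K_emb {k : G} (hk : k ∈ C.K) (a : W) : Commute k (C.emb a) := C.K_comm hk a

/-- an element of order dividing three in the centralizer of the central involution is split -/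
theorem split_three (hG : C.Good) {c : G} (hc : c ^ 3 = 1) (hz : c * C.z = C.z * c) :
    ∃ k ∈ C.K, ∃ a ∈ Wp, k ^ 3 = 1 ∧ c = k * C.emb a := by
  obtain ⟨v, hv⟩ := hG.dec c hz
  have h3 : C.Ind (c ^ 3) (v ^ 3) := by
    rw [pow_succ, pow_succ, pow_one, pow_succ, pow_succ, pow_one]
    exact C.ind_mul (C.ind_mul hv hv) hv
  rw [hc] at h3
  have hp : parity v = 1 := by
    have h1 := parity_unique C ind_one h3
    rw [map_one, map_pow] at h1
    rcases Int.units_eq_one_or (parity v) with e | e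
    · exact e
    · rw [e] at h1; exact absurd h1 (by decide)
  have hvp := mem_Wp_iff.2 hp
  set k := c * (C.emb v)⁻¹ with hk
  have hkK : k ∈ C.K := C.inner_split hv hvp
  have hce : c = k * C.emb v := by rw [hk, inv_mul_cancel_right]
  have hpow : k ^ 3 * C.emb (v ^ 3) = 1 := by
    rw [pow_succ v, pow_succ v, pow_one, C.emb_mul (mul_mem hvp hvp) hvp, C.emb_mul hvp hvp,
      show C.emb v * C.emb v * C.emb v = C.emb v ^ 3 by rw [pow_succ, pow_succ, pow_one],
      ← (comm_K_emb hkK v).mul_pow, ← hce, hc]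
  rcases C.ind_unique ind_one h3 with e | e
  · rw [e, C.emb_one, mul_one] at hpow
    exact ⟨k, hkK, v, hvp, hpow, hce⟩
  · rw [one_mul] at e
    rw [e, show C.emb negW = C.z from rfl] at hpow
    refine ⟨k * C.z, mul_mem hkK C.z_mem_K, v * negW, mul_mem hvp negW_mem_Wp, ?_, ?_⟩
    · rw [(show Commute k C.z from comm_K_emb hkK negW).mul_pow, pow_succ C.z, pow_two, C.z_sq, one_mul]
      exact hpow
    · rw [C.emb_mul hvp negW_mem_Wp, show k * C.z * (C.emb v * C.emb negW) = k * (C.z * C.emb v) * C.z from by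
        rw [show C.emb negW = C.z from rfl]; group, ← C.z_comm_L (C.emb_mem (a := v)),
        show k * (C.emb v * C.z) * C.z = k * C.emb v * (C.z * C.z) by group, C.z_sq, mul_one]
      exact hce

/-- a product of such elements of order two lies in the component -/
theorem product_in_L (hG : C.Good) {l : List G} (hl : ∀ c ∈ l, c ^ 3 = 1 ∧ c * C.z = C.z * c)
    (h2 : l.prod * l.prod = 1) : ∃ a ∈ Wp, a * a = 1 ∧ l.prod = C.emb a := by
  obtain ⟨N, hN, hodd, hNc⟩ := C.hN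
  have key : ∃ k : ↥C.K, ∃ a ∈ Wp, k ^ 3 ∈ N ∧ l.prod = (k : G) * C.emb a := by
    clear h2
    induction l with
    | nil => exact ⟨1, 1, one_mem _, by rw [one_pow]; exact one_mem _, by rw [C.emb_one]; simp⟩
    | cons c t ih =>
      obtain ⟨m, b, hb, hm, e⟩ := ih fun x hx => hl x (List.mem_cons_of_mem _ hx)
      obtain ⟨k, hk, a, ha, hk3, hc⟩ := split_three hG (hl c List.mem_cons_self).1 (hl c List.mem_cons_self).2
      refine ⟨⟨k, hk⟩ * m, a * b, mul_mem ha hb, ?_, ?_⟩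
      · refine (QuotientGroup.eq_one_iff _).1 ?_
        show QuotientGroup.mk' N ((⟨k, hk⟩ * m) ^ 3) = 1
        have hcm : Commute (QuotientGroup.mk' N ⟨k, hk⟩) (QuotientGroup.mk' N m) := by
          have h1 : QuotientGroup.mk' N (⟨k, hk⟩ * m * ⟨k, hk⟩⁻¹ * m⁻¹) = 1 :=
            (QuotientGroup.eq_one_iff _).2 (hNc _ _)
          rw [map_mul, map_mul, map_mul, map_inv, map_inv, mul_inv_eq_one, mul_inv_eq_iff_eq_mul] at h1
          exact h1
        rw [map_pow, map_mul, hcm.mul_pow, ← map_pow, ← map_pow,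
          show QuotientGroup.mk' N (m ^ 3) = 1 from (QuotientGroup.eq_one_iff _).2 hm,
          show (⟨k, hk⟩ : ↥C.K) ^ 3 = 1 from Subtype.ext (by rw [Subgroup.coe_pow, hk3]; rfl), map_one, one_mul]
      · rw [List.prod_cons, hc, e, C.emb_mul ha hb, Subgroup.coe_mul]
        calc k * C.emb a * ((m : G) * C.emb b) = k * (C.emb a * (m : G)) * C.emb b := by group
          _ = k * ((m : G) * C.emb a) * C.emb b := by rw [← C.K_comm m.2 a]
          _ = _ := by group
  obtain ⟨k, a, ha, hkN, e⟩ := key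
  have h4 : (k : G) ^ 2 * C.emb (a * a) = 1 := by
    rw [C.emb_mul ha ha, ← pow_two (C.emb a), ← (comm_K_emb k.2 a).mul_pow, ← e, pow_two]
    exact h2
  have hmem : C.emb (a * a) ∈ C.K := by
    rw [eq_inv_of_mul_eq_one_right h4]; exact inv_mem (pow_mem k.2 2)
  have hk4 : (k : G) ^ 4 = 1 := by
    rcases emb_mem_K hG (mul_mem ha ha) hmem with e' | e' <;> rw [e'] at h4
    · rw [C.emb_one, mul_one] at h4
      rw [show (4 : ℕ) = 2 + 2 from rfl, pow_add, h4, mul_one]
    · rw [show C.emb negW = C.z from rfl] at h4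
      rw [show (4 : ℕ) = 2 + 2 from rfl, pow_add, eq_inv_of_mul_eq_one_left h4,
        inv_eq_of_mul_eq_one_right C.z_sq, C.z_sq]
  have hk : (k : G) = 1 := by
    have h1 : ((k : G) ^ 3) ^ Nat.card N = 1 := by
      have h0 := congrArg Subtype.val (congrArg Subtype.val (pow_card_eq_one' (x := (⟨_, hkN⟩ : ↥N))))
      simp only [Subgroup.coe_pow, Subgroup.coe_one] at h0
      exact h0
    have h2' : ((k : G) ^ 3) ^ 4 = 1 := by rw [← pow_mul, mul_comm, pow_mul, hk4, one_pow]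
    have hco : Nat.gcd (Nat.card N) 4 = 1 := by
      have : Nat.Coprime (Nat.card N) (2 ^ 2) := (Nat.coprime_two_right.2 hodd).pow_right 2
      exact this
    have h3 : (k : G) ^ 3 = 1 := by
      have := pow_gcd_eq_one.2 ⟨h1, h2'⟩
      rwa [hco, pow_one] at this
    rw [pow_succ, h3, one_mul] at hk4
    exact hk4
  rw [hk, one_mul] at e
  refine ⟨a, ha, C.emb_inj (mul_mem ha ha) (one_mem _) ?_, e⟩
  rw [C.emb_one]
  rw [hk, one_pow, one_mul] at h4
  exact h4

/-- a good conjugate -/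
theorem exists_good (hG : C.Good) {g : G} (hg : g * C.z * g⁻¹ * C.z = C.z * (g * C.z * g⁻¹))
    (hne : g * C.z * g⁻¹ ≠ C.z) :
    ∃ g' : G, g' * C.z * g'⁻¹ ≠ C.z ∧ ((∃ a ∈ Wp, a * a = 1 ∧ g' * C.z * g'⁻¹ = C.emb a) ∨
      ∃ u, C.Ind (g' * C.z * g'⁻¹) u ∧ u * u = 1 ∧ parity u = -1) := by
  set w := g * C.z * g⁻¹ with hw
  have hw2 : w * w = 1 := by
    rw [hw, show g * C.z * g⁻¹ * (g * C.z * g⁻¹) = g * (C.z * C.z) * g⁻¹ by group, C.z_sq]; group
  obtain ⟨u, hu⟩ := hG.dec w hg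
  rcases sq_cases hu hw2 with h | h
  · rcases Int.units_eq_one_or (parity u) with hp | hp
    · obtain ⟨a, ha, ha2, e, -⟩ := inner_inv hG hu (mem_Wp_iff.2 hp) hw2 h
      exact ⟨g, hne, Or.inl ⟨a, ha, ha2, e⟩⟩
    · exact ⟨g, hne, Or.inr ⟨u, hu, h, hp⟩⟩
  obtain ⟨l, hl, hprod⟩ := negW_product h
  refine ⟨g⁻¹, fun e => hne ?_, Or.inl ?_⟩
  · rw [hw]; nth_rewrite 1 [← e]; group
  have hemb : ∀ (t : List W), (∀ m ∈ t, m ∈ Wp) →
      g⁻¹ * C.emb t.prod * g = (t.map fun m => g⁻¹ * C.emb m * g).prod := by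
    intro t
    induction t with
    | nil => intro _; simp [C.emb_one]
    | cons m t ih =>
      intro hm
      have ht : t.prod ∈ Wp := Subgroup.list_prod_mem _ fun x hx => hm x (List.mem_cons_of_mem _ hx)
      rw [List.map_cons, List.prod_cons, List.prod_cons, ← ih fun x hx => hm x (List.mem_cons_of_mem _ hx),
        C.emb_mul (hm m List.mem_cons_self) ht]
      group
  have hzl : g⁻¹ * C.z * g⁻¹⁻¹ = (l.map fun m => g⁻¹ * C.emb m * g).prod := by
    rw [inv_inv, ← hemb l fun m hm => (hl m hm).1, hprod]; rfl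
  obtain ⟨a, ha, ha2, e⟩ := product_in_L hG (l := l.map fun m => g⁻¹ * C.emb m * g) (fun c hc => by
    obtain ⟨m, hm, rfl⟩ := List.mem_map.1 hc
    obtain ⟨hmW, hm3, hmu⟩ := hl m hm
    refine ⟨?_, ?_⟩
    · have h3 : C.emb m ^ 3 = 1 := by
        rw [pow_succ, pow_succ, pow_one, ← C.emb_mul hmW hmW, ← C.emb_mul (mul_mem hmW hmW) hmW]
        rw [pow_succ, pow_succ, pow_one] at hm3
        rw [hm3, C.emb_one]
      have hcp : (g⁻¹ * C.emb m * g⁻¹⁻¹) ^ 3 = g⁻¹ * C.emb m ^ 3 * g⁻¹⁻¹ := conj_pow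
      rw [inv_inv] at hcp
      rw [hcp, h3, mul_one, inv_mul_cancel]
    · have h1 := hu m hmW
      rw [← hmu, mul_inv_cancel_right] at h1
      have h2 : w * C.emb m = C.emb m * w := mul_inv_eq_iff_eq_mul.1 h1
      calc g⁻¹ * C.emb m * g * C.z = g⁻¹ * (C.emb m * w) * g := by rw [hw]; group
        _ = g⁻¹ * (w * C.emb m) * g := by rw [h2]
        _ = _ := by rw [hw]; group) (by
    rw [← hzl, show g⁻¹ * C.z * g⁻¹⁻¹ * (g⁻¹ * C.z * g⁻¹⁻¹) = g⁻¹ * (C.z * C.z) * g⁻¹⁻¹ by group, C.z_sq]; group)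
  exact ⟨a, ha, ha2, hzl.trans e⟩

theorem fixed_words : ∀ x : Fin 256, pm Kills.pa x = x → pm Kills.pb x = x → pm Kills.pt x = x →
    x = 0 ∨ x = top := by decide +kernel

/-- the coordinates of a conjugate inside a standard elementary group are impossible -/
theorem no_conj (hG : C.Good) {ev : Bool} {e1 : G} (he : C.Outer ev e1)
    (hev : ev = true → ∀ (x : G) (u : W), x * x = 1 → C.Ind x u → u * u = 1 → parity u = 1)
    {g : G} {x0 : Fin 256} (h0 : inS ev x0 = true) (hx : g * C.z * g⁻¹ = C.frameF e1 x0)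
    (hne : g * C.z * g⁻¹ ≠ C.z) : False := by
  classical
  have hF := frameF_coord he
  have hzero : C.frameF e1 0 = 1 := by
    have h := hF.hom 0 0 (inS_even (by decide +kernel)) (inS_even (by decide +kernel))
    rw [Kills.xr_self] at h
    exact left_eq_mul.1 h
  have hinv : ∀ x, inS ev x = true → (C.frameF e1 x)⁻¹ = C.frameF e1 x := fun x hx =>
    inv_eq_of_mul_eq_one_right (by rw [← hF.hom x x hx hx, Kills.xr_self, hzero])
  let E : Subgroup G :=
    { carrier := {y | ∃ x, inS ev x = true ∧ y = g⁻¹ * C.frameF e1 x * g}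
      one_mem' := ⟨0, inS_even (by decide +kernel), by rw [hzero]; group⟩
      mul_mem' := fun {a b} ⟨x, hx, ea⟩ ⟨y, hy, eb⟩ =>
        ⟨xr x y, Kills.inS_xr ev x y hx hy, by rw [ea, eb, hF.hom x y hx hy]; group⟩
      inv_mem' := fun {a} ⟨x, hx, ea⟩ => ⟨x, hx, by
        rw [ea, _root_.mul_inv_rev, _root_.mul_inv_rev, hinv x hx, inv_inv]; group⟩ }
  have hE : ∀ y, y ∈ E ↔ ∃ x, inS ev x = true ∧ y = g⁻¹ * C.frameF e1 x * g := fun y => Iff.rfl
  have hEc : ∀ x ∈ E, ∀ y ∈ E, x * y = y * x := by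
    rintro _ ⟨x, hx, rfl⟩ _ ⟨y, hy, rfl⟩
    rw [show g⁻¹ * C.frameF e1 x * g * (g⁻¹ * C.frameF e1 y * g) = g⁻¹ * (C.frameF e1 x * C.frameF e1 y) * g by group,
      ← hF.hom x y hx hy, Kills.xr_comm, hF.hom y x hy hx]
    group
  have hEs : ∀ x ∈ E, x * x = 1 := by
    rintro _ ⟨x, hx, rfl⟩
    rw [show g⁻¹ * C.frameF e1 x * g * (g⁻¹ * C.frameF e1 x * g) = g⁻¹ * (C.frameF e1 x * C.frameF e1 x) * g by group,
      ← hF.hom x x hx hx, Kills.xr_self, hzero]
    group
  have hEz : C.z ∈ E := ⟨x0, h0, by rw [← hx]; group⟩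
  have hcard : Nat.card E = (Finset.univ.filter fun x => inS ev x = true).card := by
    rw [← Fintype.card_coe, ← Nat.card_eq_fintype_card]
    refine (Nat.card_congr (Equiv.ofBijective
      (fun x : {x // x ∈ Finset.univ.filter fun x => inS ev x = true} => (⟨g⁻¹ * C.frameF e1 x.1 * g, x.1, (Finset.mem_filter.1 x.2).2, rfl⟩ : E)) ⟨fun a b e => ?_, ?_⟩)).symm
    · exact Subtype.ext (hF.inj _ _ (Finset.mem_filter.1 a.2).2 (Finset.mem_filter.1 b.2).2
        (mul_left_cancel (mul_right_cancel (congrArg Subtype.val e))))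
    · rintro ⟨y, x, hx, rfl⟩
      exact ⟨⟨x, Finset.mem_filter.2 ⟨Finset.mem_univ _, hx⟩⟩, rfl⟩
  have hsize : Nat.card E = 256 ∨ Nat.card E = 128 ∧ ∀ x ∈ E, ∀ u, C.Ind x u → u * u = 1 → parity u = 1 := by
    cases ev with
    | false => left; rw [hcard]; decide +kernel
    | true =>
      exact Or.inr ⟨by rw [hcard]; decide +kernel, fun x hx u hu h2 => hev rfl x u (hEs x hx) hu h2⟩
  have hfix : ∀ p, Kills.isAuto p = true → pm p x0 = x0 := by
    intro p hp
    obtain ⟨n, hn, hconj⟩ := frameF_lower he hp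
    have hpS : ∀ x, inS ev x = true → inS ev (pm p x) = true := fun x hx =>
      Kills.inS_parity (congrArg (· % 2) (Kills.pm_wt (Kills.isAuto_inj hp) x)) hx
    have hm : ∀ y ∈ E, g⁻¹ * C.emb n * g * y * (g⁻¹ * C.emb n * g)⁻¹ ∈ E := by
      rintro _ ⟨x, hx, rfl⟩
      exact ⟨pm p x, hpS x hx, by rw [← hconj x hx]; group⟩
    have h1 := target_fix hG hEc hEs hEz hsize hm
    have h2 : C.emb n * C.frameF e1 x0 * (C.emb n)⁻¹ = C.frameF e1 x0 := by
      rw [← hx, mul_inv_eq_iff_eq_mul]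
      calc C.emb n * (g * C.z * g⁻¹) = g * (g⁻¹ * C.emb n * g * C.z) * g⁻¹ := by group
        _ = g * (C.z * (g⁻¹ * C.emb n * g)) * g⁻¹ := by rw [h1]
        _ = _ := by group
    rw [hconj x0 h0] at h2
    exact hF.inj _ _ (hpS x0 h0) h0 h2
  rcases fixed_words x0 (hfix _ Kills.auto_gens.1) (hfix _ Kills.auto_gens.2.1) (hfix _ Kills.auto_gens.2.2) with
    rfl | rfl
  · rw [hzero] at hx
    exact C.z_ne (conj_eq_one_iff.1 hx)
  · exact hne (hx.trans hF.top_eq)

theorem adjust' {a : W} (ha : a * a = 1) : ∃ h ∈ Wp, ∃ T, h * a * h⁻¹ = sgn T := by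
  obtain ⟨h0, T, e⟩ := exists_conj_sgn ha
  obtain ⟨h, hh, hadj⟩ := adjust (h := h0)
  exact ⟨h, hh, T, hadj _ _ e⟩

/-- the central involution is isolated -/
theorem isolated (hG : C.Good) {g : G} (hg : g * C.z * g⁻¹ * C.z = C.z * (g * C.z * g⁻¹)) :
    g * C.z * g⁻¹ = C.z := by
  by_contra hne
  obtain ⟨g', hne', hcase⟩ := exists_good hG hg hne
  have move : ∀ {h : W}, h ∈ Wp → (C.emb h * g') * C.z * (C.emb h * g')⁻¹ = C.emb h * (g' * C.z * g'⁻¹) * (C.emb h)⁻¹ :=
    fun _ => by group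
  have move_ne : ∀ {h : W}, h ∈ Wp → (C.emb h * g') * C.z * (C.emb h * g')⁻¹ ≠ C.z := fun {h} hh e => hne' (by
    rw [move hh, mul_inv_eq_iff_eq_mul, ← C.z_comm_L (C.emb_mem (a := h))] at e
    exact mul_left_cancel e)
  have mkOuter : ∀ {t : G} {u : W}, t * t = 1 → C.Ind t u → u * u = 1 → parity u = -1 →
      ∃ h ∈ Wp, ∃ e1, C.Outer false e1 ∧ ∃ x0, C.emb h * t * (C.emb h)⁻¹ = C.frameF e1 x0 := by
    intro t u ht hu h2 hp
    obtain ⟨h, hh, T, hT⟩ := adjust' h2
    obtain ⟨x0, rfl⟩ := supp_surjective T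
    have hodd : ¬ wt x0 % 2 = 0 := by
      intro hev
      have := congrArg parity hT
      rw [map_mul, map_mul, map_inv, mul_inv_cancel_comm, hp, mem_Wp_iff.1 (sgn_supp_mem.2 hev)] at this
      exact absurd this (by decide)
    have ht' : C.Ind (C.emb h * t * (C.emb h)⁻¹) (sgn (supp x0)) := by
      rw [← hT]; exact C.ind_mul (C.ind_mul (C.ind_emb hh) hu) (C.ind_inv (C.ind_emb hh))
    set t' := C.emb h * t * (C.emb h)⁻¹ with ht'def
    set s := sgn (supp (xr x0 1)) with hs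
    have hsW : s ∈ Wp := sgn_supp_mem.2 (even_xr_one hodd)
    have hst : t' * C.emb s = C.emb s * t' := by
      have := ht' s hsW
      rw [hs, sgn_mul, symmDiff_comm, ← sgn_mul, mul_inv_cancel_right] at this
      exact mul_inv_eq_iff_eq_mul.1 this
    have hs2 : C.emb s * C.emb s = 1 := by
      rw [← C.emb_mul hsW hsW, hs, sgn_sq, C.emb_one]
    refine ⟨h, hh, C.emb s * t', fun _ => ⟨?_, ?_⟩, x0, ?_⟩
    · rw [show C.emb s * t' * (C.emb s * t') = C.emb s * (t' * C.emb s) * t' by group, hst,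
        show C.emb s * (C.emb s * t') * t' = C.emb s * C.emb s * (t' * t') by group, hs2, one_mul, ht'def,
        show C.emb h * t * (C.emb h)⁻¹ * (C.emb h * t * (C.emb h)⁻¹) = C.emb h * (t * t) * (C.emb h)⁻¹ by group, ht,
        mul_one, mul_inv_cancel]
    · have e : s * sgn (supp x0) = fr 0 := by
        rw [hs, sgn_supp_mul, Kills.xr_comm (xr x0 1) x0, ← Kills.xr_assoc, Kills.xr_self, Kills.zero_xr, supp_one,
          sgn_single]
      rw [← e]; exact C.ind_mul (C.ind_emb hsW) ht'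
    · rw [frameF, if_neg hodd, ← hs, ← mul_assoc, hs2, one_mul]
  rcases hcase with ⟨a, ha, ha2, hga⟩ | ⟨u, hu, hu2, hp⟩
  · obtain ⟨h, hh, T, hT⟩ := adjust' ha2
    obtain ⟨x0, rfl⟩ := supp_surjective T
    have hev : wt x0 % 2 = 0 := sgn_supp_mem.1 (hT ▸ conj_mem ha)
    have hw : ∀ e1 : G, (C.emb h * g') * C.z * (C.emb h * g')⁻¹ = C.frameF e1 x0 := fun e1 => by
      rw [move hh, hga, frameF, if_pos hev, C.emb_conj hh ha, hT]
    by_cases ht : ∃ (t : G) (u : W), t * t = 1 ∧ C.Ind t u ∧ u * u = 1 ∧ parity u = -1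
    · obtain ⟨t, u, t2, hu, hu2, hp⟩ := ht
      obtain ⟨h', hh', e1, he, -⟩ := mkOuter t2 hu hu2 hp
      exact no_conj hG he (fun h => absurd h (by decide)) rfl (hw e1) (move_ne hh)
    · refine no_conj hG (ev := true) (e1 := 1) (fun h => absurd h (by decide)) (fun _ x u hx hu hu2 => ?_)
        (inS_even hev) (hw 1) (move_ne hh)
      exact (Int.units_eq_one_or (parity u)).resolve_right fun hp => ht ⟨x, u, hx, hu, hu2, hp⟩
  · have t2 : (g' * C.z * g'⁻¹) * (g' * C.z * g'⁻¹) = 1 := by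
      rw [show g' * C.z * g'⁻¹ * (g' * C.z * g'⁻¹) = g' * (C.z * C.z) * g'⁻¹ by group, C.z_sq]; group
    obtain ⟨h, hh, e1, he, x0, hx⟩ := mkOuter t2 hu hu2 hp
    exact no_conj hG he (fun h => absurd h (by decide)) rfl ((move hh).trans hx) (move_ne hh)

end Ctx

end CfsgLib.OEightStd
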