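import Mathlib.GroupTheory.GroupAction.Quotient
import Mathlib.GroupTheory.Perm.Cycle.Type
import Mathlib.Data.Fintype.BigOperators
import Mathlib.Data.Nat.Bitwise

/-!
Linear groups on the words of length eight over two elements whose stabilizer of the full word
permutes places: they fix the full word.
-/

set_option autoImplicit false
set_option maxRecDepth 100000
set_option linter.unusedSectionVars false

namespace CfsgLib.OEightStd.Kills

/-- addition -/
def xr (x y : Fin 256) : Fin 256 := ⟨(x.1 ^^^ y.1) % 256, Nat.mod_lt _ (by norm_num)⟩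

theorem val_xr (x y : Fin 256) : (xr x y).1 = x.1 ^^^ y.1 :=
  Nat.mod_eq_of_lt (Nat.xor_lt_two_pow (n := 8) x.2 y.2)

theorem xr_comm (x y : Fin 256) : xr x y = xr y x := Fin.ext (by rw [val_xr, val_xr, Nat.xor_comm])

theorem xr_assoc (x y z : Fin 256) : xr (xr x y) z = xr x (xr y z) :=
  Fin.ext (by rw [val_xr, val_xr, val_xr, val_xr, Nat.xor_assoc])

theorem xr_self (x : Fin 256) : xr x x = 0 := Fin.ext (by rw [val_xr, Nat.xor_self]; rfl)

theorem xr_zero (x : Fin 256) : xr x 0 = x := Fin.ext (by rw [val_xr]; exact Nat.xor_zero _)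

theorem zero_xr (x : Fin 256) : xr 0 x = x := by rw [xr_comm, xr_zero]

/-- number of places -/
def wt (x : Fin 256) : ℕ := ((List.range 8).filter fun i => x.1.testBit i).length

/-- the code -/
def codeL : List ℕ := [0, 15, 51, 60, 85, 90, 102, 105, 150, 153, 165, 170, 195, 204, 240, 255]

/-- membership in the code -/
def inCode (x : Fin 256) : Bool := codeL.contains x.1

/-- classes of words: the weight, with nine for the code words of weight four -/
def cls (x : Fin 256) : ℕ := if wt x == 4 && inCode x then 9 else wt x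

/-- the words considered -/
def inS (ev : Bool) (x : Fin 256) : Bool := !ev || wt x % 2 == 0

/-- the full word -/
def top : Fin 256 := 255

/-- the linear map with the given images of the unit words -/
def lmap (img : List (Fin 256)) (x : Fin 256) : Fin 256 :=
  (List.range 8).foldr (fun i a => if x.1.testBit i then xr (img.getD i 0) a else a) 0

/-- a permutation of places on words -/
def pm (p : Fin 8 → Fin 8) (x : Fin 256) : Fin 256 :=
  lmap ((List.finRange 8).map fun i => (⟨2 ^ (p i).1 % 256, Nat.mod_lt _ (by norm_num)⟩ : Fin 256)) x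

/-- preserving the code -/
def isAuto (p : Fin 8 → Fin 8) : Bool :=
  ((List.finRange 256).all fun x => !inCode x || inCode (pm p x)) &&
    ((List.finRange 8).map p).Nodup

/-- addition of the full word on odd words -/
def shift (e : Bool) (x : Fin 256) : Fin 256 := if e && wt x % 2 == 1 then xr x top else x

/-- a linear group on the words considered -/
structure Sys (ev : Bool) (H : Subgroup (Equiv.Perm (Fin 256))) : Prop where
  pres : ∀ h ∈ H, ∀ x, inS ev x = true → inS ev (h x) = true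
  lin : ∀ h ∈ H, ∀ x y, inS ev x = true → inS ev y = true → h (xr x y) = xr (h x) (h y)

/-- the stabilizer of the full word permutes places preserving the code, up to the shift -/
structure Frame (ev : Bool) (H : Subgroup (Equiv.Perm (Fin 256))) : Prop extends Sys ev H where
  lower : ∀ p : Fin 8 → Fin 8, isAuto p = true → ∃ h ∈ H, ∀ x, inS ev x = true → h x = pm p x
  upper : ∀ h ∈ H, h top = top →
    ∃ (p : Fin 8 → Fin 8) (e : Bool), isAuto p = true ∧ ∀ x, inS ev x = true → h x = shift e (pm p x)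

/-- the second even shape -/
structure Even' (H : Subgroup (Equiv.Perm (Fin 256))) : Prop extends Sys true H where
  lower : ∀ i j k l : Fin 8, i ≠ j → k ≠ l →
    ∃ h ∈ H, ∀ x, inS true x = true → h x = pm (Equiv.swap i j) (pm (Equiv.swap k l) x)
  upper : ∀ h ∈ H, h top = top → ∀ x, inS true x = true → wt (h x) = wt x

theorem inS_top (ev : Bool) : inS ev top = true := by cases ev <;> decide

theorem inS_xr : ∀ (ev : Bool) (x y : Fin 256), inS ev x = true → inS ev y = true → inS ev (xr x y) = true := by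
  intro ev
  cases ev
  · intros; rfl
  · intro x y hx hy
    simp only [inS, Bool.not_true, Bool.false_or, beq_iff_eq] at hx hy ⊢
    have key : ∀ z : Fin 256, (wt z % 2 = 1) ↔ (z.1.testBit 0 ^^ z.1.testBit 1 ^^ z.1.testBit 2 ^^ z.1.testBit 3 ^^
        z.1.testBit 4 ^^ z.1.testBit 5 ^^ z.1.testBit 6 ^^ z.1.testBit 7) = true := by decide +kernel
    by_contra h
    have hz := (key (xr x y)).1 (by omega)
    have hx' : ¬ wt x % 2 = 1 := by omega
    have hy' : ¬ wt y % 2 = 1 := by omega
    rw [key] at hx' hy'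
    rw [val_xr] at hz
    simp only [Nat.testBit_xor] at hz
    revert hx' hy' hz
    generalize x.1.testBit 0 = a0, x.1.testBit 1 = a1, x.1.testBit 2 = a2, x.1.testBit 3 = a3,
      x.1.testBit 4 = a4, x.1.testBit 5 = a5, x.1.testBit 6 = a6, x.1.testBit 7 = a7,
      y.1.testBit 0 = b0, y.1.testBit 1 = b1, y.1.testBit 2 = b2, y.1.testBit 3 = b3,
      y.1.testBit 4 = b4, y.1.testBit 5 = b5, y.1.testBit 6 = b6, y.1.testBit 7 = b7
    cases a0 <;> cases a1 <;> cases a2 <;> cases a3 <;> cases a4 <;> cases a5 <;> cases a6 <;> cases a7 <;>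
      simp <;> cases b0 <;> cases b1 <;> cases b2 <;> cases b3 <;> cases b4 <;> cases b5 <;> cases b6 <;>
      cases b7 <;> simp

/-- one round of closing under maps -/
def step (gs : List (Fin 256 → Fin 256)) (l : List (Fin 256)) : List (Fin 256) :=
  gs.foldl (fun acc g => l.foldl (fun acc x => if acc.contains (g x) then acc else acc ++ [g x]) acc) l

/-- closing under maps -/
def close (gs : List (Fin 256 → Fin 256)) : ℕ → List (Fin 256) → List (Fin 256)
  | 0, l => l
  | n + 1, l => close gs n (step gs l)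

theorem step_sound {gs : List (Fin 256 → Fin 256)} {P : Fin 256 → Prop} (hg : ∀ g ∈ gs, ∀ x, P x → P (g x))
    {l : List (Fin 256)} (hl : ∀ x ∈ l, P x) : ∀ x ∈ step gs l, P x := by
  have inner : ∀ g : Fin 256 → Fin 256, (∀ x, P x → P (g x)) → ∀ (m : List (Fin 256)), (∀ x ∈ m, P x) → ∀ acc : List (Fin 256),
      (∀ x ∈ acc, P x) →
      ∀ x ∈ m.foldl (fun acc x => if acc.contains (g x) then acc else acc ++ [g x]) acc, P x := by
    intro g hg' m hm
    induction m with
    | nil => intro acc ha; exact ha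
    | cons a m ih =>
      intro acc ha
      refine ih (fun x hx => hm x (List.mem_cons_of_mem _ hx)) _ ?_
      intro x hx
      simp only at hx
      split_ifs at hx
      · exact ha x hx
      · rcases List.mem_append.1 hx with h | h
        · exact ha x h
        · rw [List.mem_singleton] at h; subst h; exact hg' _ (hm a List.mem_cons_self)
  have outer : ∀ (gs' : List (Fin 256 → Fin 256)), (∀ g ∈ gs', ∀ x, P x → P (g x)) → ∀ acc : List (Fin 256),
      (∀ x ∈ acc, P x) → ∀ x ∈ gs'.foldl (fun acc g =>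
        l.foldl (fun acc x => if acc.contains (g x) then acc else acc ++ [g x]) acc) acc, P x := by
    intro gs'
    induction gs' with
    | nil => intro _ acc ha; exact ha
    | cons g t ih =>
      intro hg' acc ha
      exact ih (fun g' h => hg' g' (List.mem_cons_of_mem _ h)) _ (inner g (hg' g List.mem_cons_self) l hl acc ha)
  exact outer gs hg l hl

theorem close_sound {gs : List (Fin 256 → Fin 256)} {P : Fin 256 → Prop} (hg : ∀ g ∈ gs, ∀ x, P x → P (g x)) :
    ∀ (n : ℕ) (l : List (Fin 256)), (∀ x ∈ l, P x) → ∀ x ∈ close gs n l, P x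
  | 0, _, h => h
  | n + 1, _, h => close_sound hg n _ (step_sound hg h)

section Orbit

variable {ev : Bool} {H : Subgroup (Equiv.Perm (Fin 256))} (hS : Sys ev H)

/-- the orbit of the full word -/
def InO (H : Subgroup (Equiv.Perm (Fin 256))) (x : Fin 256) : Prop := ∃ h ∈ H, h top = x

theorem InO.map {x : Fin 256} {g : Equiv.Perm (Fin 256)} (hx : InO H x) (hg : g ∈ H) : InO H (g x) := by
  obtain ⟨h, hh, rfl⟩ := hx
  exact ⟨g * h, mul_mem hg hh, rfl⟩

include hS in
theorem inS_of_inO {x : Fin 256} (hx : InO H x) : inS ev x = true := by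
  obtain ⟨h, hh, rfl⟩ := hx
  exact hS.pres h hh _ (inS_top ev)

include hS in
theorem h_zero {h : Equiv.Perm (Fin 256)} (hh : h ∈ H) : h 0 = 0 := by
  have h0 : inS ev 0 = true := by cases ev <;> decide
  have := hS.lin h hh 0 0 h0 h0
  rwa [xr_self, xr_self] at this

include hS in
/-- the number of pairs in a set with a given sum is invariant -/
theorem pair_count {P : Fin 256 → Prop} [DecidablePred P] (hP : ∀ h ∈ H, ∀ x, P x → P (h x))
    (hPS : ∀ x, P x → inS ev x = true) {c : Fin 256} (hc : inS ev c = true) {h : Equiv.Perm (Fin 256)} (hh : h ∈ H) :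
    (Finset.univ.filter fun y => P y ∧ P (xr c y)).card =
      (Finset.univ.filter fun y => P y ∧ P (xr (h c) y)).card := by
  refine Finset.card_bij (fun y _ => h y) ?_ (fun a _ b _ e => h.injective e) ?_
  · intro y hy
    simp only [Finset.mem_filter, Finset.mem_univ, true_and] at hy ⊢
    refine ⟨hP h hh y hy.1, ?_⟩
    rw [← hS.lin h hh c y hc (hPS y hy.1)]
    exact hP h hh _ hy.2
  · intro y hy
    simp only [Finset.mem_filter, Finset.mem_univ, true_and] at hy
    have h1 := hP _ (inv_mem hh) y hy.1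
    refine ⟨h⁻¹ y, ?_, by simp⟩
    simp only [Finset.mem_filter, Finset.mem_univ, true_and]
    refine ⟨h1, ?_⟩
    have h2 := hP _ (inv_mem hh) _ hy.2
    rw [hS.lin _ (inv_mem hh) _ _ (hS.pres h hh c hc) (hPS y hy.1)] at h2
    simpa using h2

include hS in
/-- the number of triples in the orbit with a given sum is invariant -/
theorem triple_count [DecidablePred (InO H)] {c : Fin 256} (hc : inS ev c = true) {h : Equiv.Perm (Fin 256)}
    (hh : h ∈ H) :
    (Finset.univ.filter fun p : Fin 256 × Fin 256 => InO H p.1 ∧ InO H p.2 ∧ InO H (xr (xr c p.1) p.2)).card =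
      (Finset.univ.filter fun p : Fin 256 × Fin 256 =>
        InO H p.1 ∧ InO H p.2 ∧ InO H (xr (xr (h c) p.1) p.2)).card := by
  have hl : ∀ g ∈ H, ∀ (c x y : Fin 256), inS ev c = true → InO H x → InO H y →
      g (xr (xr c x) y) = xr (xr (g c) (g x)) (g y) := fun g hg c x y hc hx hy => by
    rw [hS.lin g hg _ _ (inS_xr ev _ _ hc (inS_of_inO hS hx)) (inS_of_inO hS hy),
      hS.lin g hg _ _ hc (inS_of_inO hS hx)]
  refine Finset.card_bij (fun p _ => (h p.1, h p.2)) ?_ ?_ ?_
  · intro p hp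
    simp only [Finset.mem_filter, Finset.mem_univ, true_and] at hp ⊢
    refine ⟨hp.1.map hh, hp.2.1.map hh, ?_⟩
    rw [← hl h hh c _ _ hc hp.1 hp.2.1]
    exact hp.2.2.map hh
  · intro a _ b _ e
    simp only [Prod.mk.injEq] at e
    exact Prod.ext (h.injective e.1) (h.injective e.2)
  · intro p hp
    simp only [Finset.mem_filter, Finset.mem_univ, true_and] at hp
    refine ⟨(h⁻¹ p.1, h⁻¹ p.2), ?_, by simp⟩
    simp only [Finset.mem_filter, Finset.mem_univ, true_and]
    refine ⟨hp.1.map (inv_mem hh), hp.2.1.map (inv_mem hh), ?_⟩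
    have h2 := hp.2.2.map (inv_mem hh)
    rw [hl _ (inv_mem hh) _ _ _ (hS.pres h hh c hc) hp.1 hp.2.1] at h2
    simpa using h2

/-- two pairs in one orbit -/
def Rel (H : Subgroup (Equiv.Perm (Fin 256))) (p q : Fin 256 × Fin 256) : Prop :=
  ∃ h ∈ H, h p.1 = q.1 ∧ h p.2 = q.2

theorem Rel.refl' (p : Fin 256 × Fin 256) : Rel H p p := ⟨1, one_mem _, rfl, rfl⟩

theorem Rel.symm' {p q : Fin 256 × Fin 256} (h : Rel H p q) : Rel H q p := by
  obtain ⟨k, hk, e1, e2⟩ := h
  exact ⟨k⁻¹, inv_mem hk, by rw [← e1]; exact k.symm_apply_apply _, by rw [← e2]; exact k.symm_apply_apply _⟩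

theorem Rel.trans' {p q r : Fin 256 × Fin 256} (h : Rel H p q) (h' : Rel H q r) : Rel H p r := by
  obtain ⟨k, hk, e1, e2⟩ := h
  obtain ⟨k', hk', e1', e2'⟩ := h'
  exact ⟨k' * k, mul_mem hk' hk, by rw [Equiv.Perm.mul_apply, e1, e1'], by rw [Equiv.Perm.mul_apply, e2, e2']⟩

/-- the rotation of pairs -/
def rot (p : Fin 256 × Fin 256) : Fin 256 × Fin 256 := (p.2, xr p.1 p.2)

theorem rot_three (p : Fin 256 × Fin 256) : rot (rot (rot p)) = p := by
  rcases p with ⟨a, b⟩
  simp only [rot]
  rw [xr_comm a b, ← xr_assoc b b a, xr_self, zero_xr, xr_assoc b a a, xr_self, xr_zero]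

theorem rot_injective : Function.Injective rot := fun p q h => by
  rw [← rot_three p, ← rot_three q, h]

include hS in
theorem Rel.rotate {p q : Fin 256 × Fin 256} (h : Rel H p q) (h1 : inS ev p.1 = true) (h2 : inS ev p.2 = true) :
    Rel H (rot p) (rot q) := by
  obtain ⟨k, hk, e1, e2⟩ := h
  refine ⟨k, hk, e2, ?_⟩
  show k (xr p.1 p.2) = xr q.1 q.2
  rw [hS.lin k hk _ _ h1 h2, e1, e2]

/-- one orbit of the stabilizer -/
def St (H : Subgroup (Equiv.Perm (Fin 256))) (x y : Fin 256) : Prop := Rel H (top, x) (top, y)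

theorem St.of {h : Equiv.Perm (Fin 256)} (hh : h ∈ H) (ht : h top = top) (x : Fin 256) : St H x (h x) :=
  ⟨h, hh, ht, rfl⟩

theorem InO.st {x y : Fin 256} (hx : InO H x) (h : St H x y) : InO H y := by
  obtain ⟨k, hk, -, e⟩ := h
  have e' : k x = y := e
  exact e' ▸ hx.map hk

open Classical in
/-- the orbit of a pair -/
noncomputable def relSet (H : Subgroup (Equiv.Perm (Fin 256))) (p : Fin 256 × Fin 256) :
    Finset (Fin 256 × Fin 256) := Finset.univ.filter fun q => Rel H p q

open Classical in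
/-- the orbit of the stabilizer -/
noncomputable def orbS (H : Subgroup (Equiv.Perm (Fin 256))) (x : Fin 256) : Finset (Fin 256) :=
  Finset.univ.filter fun y => St H x y

open Classical in
/-- the orbit of the full word as a set -/
noncomputable def orbO (H : Subgroup (Equiv.Perm (Fin 256))) : Finset (Fin 256) :=
  Finset.univ.filter fun y => InO H y

theorem mem_relSet {p q : Fin 256 × Fin 256} : q ∈ relSet H p ↔ Rel H p q := by simp [relSet]

theorem mem_orbS {x y : Fin 256} : y ∈ orbS H x ↔ St H x y := by simp [orbS]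

theorem mem_orbO {y : Fin 256} : y ∈ orbO H ↔ InO H y := by simp [orbO]

theorem orbO_pos : 0 < (orbO H).card :=
  Finset.card_pos.2 ⟨top, mem_orbO.2 ⟨1, one_mem _, rfl⟩⟩

theorem relSet_eq {p q : Fin 256 × Fin 256} (h : Rel H p q) : relSet H p = relSet H q :=
  Finset.ext fun r => by rw [mem_relSet, mem_relSet]; exact ⟨h.symm'.trans', h.trans'⟩

theorem card_relSet (x : Fin 256) : (relSet H (top, x)).card = (orbO H).card * (orbS H x).card := by
  classical
  choose g hg hgx using fun y : {y // InO H y} => y.2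
  have hd : ∀ p ∈ orbO H ×ˢ orbS H x, InO H p.1 := fun p hp => mem_orbO.1 (Finset.mem_product.1 hp).1
  rw [← Finset.card_product]
  refine (Finset.card_bij (fun p hp => ((p.1 : Fin 256), g ⟨p.1, hd p hp⟩ p.2)) ?_ ?_ ?_).symm
  · intro p hp
    obtain ⟨k, hk, e1, e2⟩ := mem_orbS.1 (Finset.mem_product.1 hp).2
    refine mem_relSet.2 ⟨g ⟨p.1, hd p hp⟩ * k, mul_mem (hg _) hk, ?_, ?_⟩
    · show g ⟨p.1, hd p hp⟩ (k top) = p.1
      rw [e1]; exact hgx ⟨p.1, hd p hp⟩
    · show g ⟨p.1, hd p hp⟩ (k x) = g ⟨p.1, hd p hp⟩ p.2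
      rw [e2]
  · rintro ⟨a1, a2⟩ ha ⟨b1, b2⟩ hb e
    simp only [Prod.mk.injEq] at e
    obtain ⟨rfl, e2⟩ := e
    exact Prod.ext rfl ((g _).injective e2)
  · intro p hp
    obtain ⟨h, hh, e1, e2⟩ := mem_relSet.1 hp
    have hx : InO H p.1 := ⟨h, hh, e1⟩
    refine ⟨(p.1, (g ⟨p.1, hx⟩).symm p.2),
      Finset.mem_product.2 ⟨mem_orbO.2 hx, mem_orbS.2 ⟨(g ⟨p.1, hx⟩)⁻¹ * h, mul_mem (inv_mem (hg _)) hh, ?_, ?_⟩⟩,
      Prod.ext rfl (Equiv.apply_symm_apply _ _)⟩
    · show (g ⟨p.1, hx⟩).symm (h top) = top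
      rw [e1, Equiv.symm_apply_eq]; exact (hgx ⟨p.1, hx⟩).symm
    · show (g ⟨p.1, hx⟩).symm (h x) = (g ⟨p.1, hx⟩).symm p.2
      rw [e2]

theorem card_swap {w w' : Fin 256} {g : Equiv.Perm (Fin 256)} (hg : g ∈ H) (h1 : g top = w) (h2 : g w' = top) :
    (orbS H w').card = (orbS H w).card := by
  refine Nat.eq_of_mul_eq_mul_left (orbO_pos (H := H)) ?_
  rw [← card_relSet, ← card_relSet, relSet_eq (p := (top, w')) (q := (w, top)) ⟨g, hg, h1, h2⟩]
  refine Finset.card_bij (fun p _ => p.swap) ?_ (fun a _ b _ e => Prod.swap_injective e) ?_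
  · intro p hp
    obtain ⟨h, hh, e1, e2⟩ := mem_relSet.1 hp
    exact mem_relSet.2 ⟨h, hh, e2, e1⟩
  · intro p hp
    obtain ⟨h, hh, e1, e2⟩ := mem_relSet.1 hp
    exact ⟨p.swap, mem_relSet.2 ⟨h, hh, e2, e1⟩, Prod.swap_swap p⟩

include hS in
theorem exists_rot {y : Fin 256} (hy : InO H y) :
    ∃ t, inS ev t = true ∧ Rel H (top, t) (rot (top, y)) := by
  have hyS := inS_of_inO hS hy
  obtain ⟨k, hk, e⟩ := hy
  refine ⟨k⁻¹ (xr top y), hS.pres _ (inv_mem hk) _ (inS_xr ev _ _ (inS_top ev) hyS), k, hk, e, ?_⟩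
  exact k.apply_symm_apply _

include hS in
theorem card_rot {y t : Fin 256} (hy : inS ev y = true) (h : Rel H (top, t) (rot (top, y))) :
    (orbS H t).card = (orbS H y).card := by
  refine Nat.eq_of_mul_eq_mul_left (orbO_pos (H := H)) ?_
  rw [← card_relSet, ← card_relSet, relSet_eq h]
  refine (Finset.card_bij (fun p _ => rot p) ?_ (fun a _ b _ e => rot_injective e) ?_).symm
  · intro p hp
    exact mem_relSet.2 ((mem_relSet.1 hp).rotate hS (inS_top ev) hy)
  · intro p hp
    obtain ⟨k, hk, e1, e2⟩ := mem_relSet.1 hp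
    refine ⟨(k top, k y), mem_relSet.2 ⟨k, hk, rfl, rfl⟩, ?_⟩
    show (k y, xr (k top) (k y)) = p
    rw [← hS.lin k hk _ _ (inS_top ev) hy, Prod.ext_iff]
    exact ⟨e1, e2⟩

include hS in
/-- a pair orbit carried to itself by the rotation has size divisible by three -/
theorem three_dvd {y : Fin 256} (h0 : y ≠ 0) (hy : inS ev y = true) (h : Rel H (top, y) (rot (top, y))) :
    3 ∣ (orbO H).card * (orbS H y).card := by
  rw [← card_relSet]
  let Ω := relSet H (top, y)
  have hrot : ∀ p ∈ Ω, rot p ∈ Ω := fun p hp =>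
    mem_relSet.2 (h.trans' ((mem_relSet.1 hp).rotate hS (inS_top ev) hy))
  let φ : Equiv.Perm ↥Ω :=
    { toFun := fun p => ⟨rot p.1, hrot _ p.2⟩
      invFun := fun p => ⟨rot (rot p.1), hrot _ (hrot _ p.2)⟩
      left_inv := fun p => Subtype.ext (rot_three _)
      right_inv := fun p => Subtype.ext (rot_three _) }
  have hφ : φ ^ 3 ^ 1 = 1 := Equiv.ext fun p => Subtype.ext (rot_three p.1)
  have : Fact (Nat.Prime 3) := ⟨Nat.prime_three⟩
  by_contra hn
  obtain ⟨⟨⟨a, b⟩, hp⟩, e⟩ := Equiv.Perm.exists_fixed_point_of_prime (p := 3) (n := 1) (σ := φ)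
    (by rw [Fintype.card_coe]; exact hn) hφ
  have e' : rot (a, b) = (a, b) := congrArg Subtype.val e
  simp only [rot, Prod.mk.injEq] at e'
  obtain ⟨rfl, e2⟩ := e'
  rw [xr_self] at e2
  obtain ⟨k, hk, k1, k2⟩ := mem_relSet.1 hp
  simp only at k2
  rw [← e2, ← h_zero hS hk] at k2
  exact h0 (k.injective k2)

theorem st_close {gs : List (Fin 256 → Fin 256)} (hS : Sys ev H)
    (hgs : ∀ g ∈ gs, ∃ h ∈ H, h top = top ∧ ∀ x, inS ev x = true → h x = g x) (n : ℕ) {r : Fin 256}
    (hr : inS ev r = true) : ∀ x ∈ close gs n [r], St H r x := by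
  intro x hx
  refine (close_sound (P := fun x => inS ev x = true ∧ St H r x) ?_ n [r] ?_ x hx).2
  · intro g hg y hy
    obtain ⟨h, hh, ht, he⟩ := hgs g hg
    rw [← he y hy.1]
    exact ⟨hS.pres h hh y hy.1, Rel.trans' hy.2 (St.of hh ht y)⟩
  · intro y hy
    rw [List.mem_singleton] at hy
    subst hy
    exact ⟨hr, Rel.refl' _⟩

end Orbit

end CfsgLib.OEightStd.Kills
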