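import Cfsg.Agent.Lib.OEightStd.KillsData

/-!
Permutations of places acting on words, and the orbits of the stabilizer of the full word.
-/

set_option autoImplicit false
set_option maxRecDepth 100000
set_option maxHeartbeats 1000000

namespace CfsgLib.OEightStd.Kills

/-- a unit word -/
def unit (i : Fin 8) : Fin 256 := ⟨2 ^ i.1 % 256, Nat.mod_lt _ (by norm_num)⟩

theorem lmap_bit (img : List (Fin 256)) (x : Fin 256) (j : ℕ) :
    (lmap img x).1.testBit j =
      (List.range 8).foldr (fun i a => Bool.xor (x.1.testBit i && (img.getD i 0).1.testBit j) a) false := by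
  unfold lmap
  generalize List.range 8 = L
  induction L with
  | nil => simp
  | cons i L ih =>
    simp only [List.foldr_cons]
    by_cases h : x.1.testBit i = true
    · rw [if_pos h, val_xr, Nat.testBit_xor, ih, h, Bool.true_and]
    · have h' : x.1.testBit i = false := by simpa using h
      rw [if_neg h, ih, h']
      simp

theorem lmap_xr (img : List (Fin 256)) (x y : Fin 256) : lmap img (xr x y) = xr (lmap img x) (lmap img y) := by
  apply Fin.ext
  apply Nat.eq_of_testBit_eq
  intro j
  rw [val_xr, Nat.testBit_xor, lmap_bit, lmap_bit, lmap_bit]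
  generalize List.range 8 = L
  induction L with
  | nil => simp
  | cons i L ih =>
    simp only [List.foldr_cons]
    rw [ih, val_xr, Nat.testBit_xor]
    have key : ∀ a b c A B : Bool, Bool.xor (Bool.xor a b && c) (Bool.xor A B) =
        Bool.xor (Bool.xor (a && c) A) (Bool.xor (b && c) B) := by decide
    exact key _ _ _ _ _

theorem pm_unit : ∀ (p : Fin 8 → Fin 8) (i : Fin 8), pm p (unit i) = unit (p i) := by
  intro p i
  fin_cases i <;> exact xr_zero _

theorem pm_bit {p : Fin 8 → Fin 8} (hp : Function.Injective p) (x : Fin 256) (i : Fin 8) :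
    (pm p x).1.testBit (p i).1 = x.1.testBit i.1 := by
  rw [pm, lmap_bit]
  have e : ∀ k : Fin 8, (⟨2 ^ (p k).1 % 256, Nat.mod_lt _ (by norm_num)⟩ : Fin 256).1.testBit (p i).1 =
      decide (k = i) := by
    intro k
    show (2 ^ (p k).1 % 256).testBit (p i).1 = decide (k = i)
    rw [Nat.mod_eq_of_lt (Nat.pow_lt_pow_right (by norm_num) (p k).2 : 2 ^ (p k).1 < 2 ^ 8), Nat.testBit_two_pow]
    rcases eq_or_ne k i with rfl | h
    · simp
    · have h' : (p k).1 ≠ (p i).1 := fun e => h (hp (Fin.ext e))
      simp [h, h']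
  have e2 : (List.range 8).foldr (fun k a => Bool.xor (x.1.testBit k &&
      (((List.finRange 8).map fun i => (⟨2 ^ (p i).1 % 256, Nat.mod_lt _ (by norm_num)⟩ : Fin 256)).getD k 0).1.testBit
        (p i).1) a) false =
      (List.range 8).foldr (fun k a => Bool.xor (x.1.testBit k && decide (k = i.1)) a) false := by
    refine List.foldr_ext _ _ _ fun k hk a => ?_
    rw [List.mem_range] at hk
    rw [List.getD_eq_getElem _ _ (by simpa using hk), List.getElem_map, List.getElem_finRange, e]
    simp [Fin.ext_iff]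
  rw [e2]
  fin_cases i <;> simp [List.range_succ]

theorem pm_top {p : Fin 8 → Fin 8} (hp : Function.Injective p) : pm p top = top := by
  have key : ∀ y : Fin 256, (∀ j : Fin 8, y.1.testBit j.1 = true) → y = top := by decide +kernel
  refine key _ fun j => ?_
  obtain ⟨i, rfl⟩ := (Finite.injective_iff_surjective.1 hp) j
  rw [pm_bit hp]
  revert i
  decide

theorem wt_card : ∀ x : Fin 256, wt x = (Finset.univ.filter fun i : Fin 8 => x.1.testBit i.1).card := by
  decide +kernel

theorem pm_wt {p : Fin 8 → Fin 8} (hp : Function.Injective p) (x : Fin 256) : wt (pm p x) = wt x := by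
  rw [wt_card, wt_card]
  refine (Finset.card_bij (fun i _ => p i) ?_ (fun a _ b _ e => hp e) ?_).symm
  · intro i hi
    simpa [pm_bit hp] using hi
  · intro j hj
    obtain ⟨i, rfl⟩ := (Finite.injective_iff_surjective.1 hp) j
    exact ⟨i, by simpa [pm_bit hp] using hj, rfl⟩

theorem pm_injective {p : Fin 8 → Fin 8} (hp : Function.Injective p) : Function.Injective (pm p) := by
  have key : ∀ u v : Fin 256, (∀ j : Fin 8, u.1.testBit j.1 = v.1.testBit j.1) → u = v := by
    intro u v h
    apply Fin.ext
    apply Nat.eq_of_testBit_eq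
    intro j
    rcases lt_or_ge j 8 with hj | hj
    · exact h ⟨j, hj⟩
    · rw [Nat.testBit_eq_false_of_lt (lt_of_lt_of_le u.2 (Nat.pow_le_pow_right (by norm_num) hj : 2 ^ 8 ≤ 2 ^ j)),
        Nat.testBit_eq_false_of_lt (lt_of_lt_of_le v.2 (Nat.pow_le_pow_right (by norm_num) hj : 2 ^ 8 ≤ 2 ^ j))]
  intro u v h
  refine key u v fun j => ?_
  rw [← pm_bit hp u j, h, pm_bit hp]

theorem isAuto_inj {p : Fin 8 → Fin 8} (h : isAuto p = true) : Function.Injective p := by
  simp only [isAuto, Bool.and_eq_true] at h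
  exact List.inj_on_of_nodup_map (by simpa using h.2) |> fun e a b => e (List.mem_finRange a) (List.mem_finRange b)

theorem isAuto_code {p : Fin 8 → Fin 8} (h : isAuto p = true) (x : Fin 256) :
    inCode (pm p x) = inCode x := by
  have hinj := pm_injective (isAuto_inj h)
  simp only [isAuto, Bool.and_eq_true, List.all_eq_true, List.mem_finRange, Bool.or_eq_true, Bool.not_eq_true',
    forall_const] at h
  let S : Finset (Fin 256) := Finset.univ.filter fun y => inCode y = true
  have hsub : S.image (pm p) ⊆ S := fun y hy => by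
    obtain ⟨z, hz, rfl⟩ := Finset.mem_image.1 hy
    simp only [S, Finset.mem_filter, Finset.mem_univ, true_and] at hz ⊢
    exact (h.1 z).resolve_left (by simp [hz])
  have heq := Finset.eq_of_subset_of_card_le hsub (by rw [Finset.card_image_of_injective _ hinj])
  rw [Bool.eq_iff_iff]
  constructor
  · intro hy
    have : pm p x ∈ S.image (pm p) := by rw [heq]; simpa [S] using hy
    obtain ⟨z, hz, e⟩ := Finset.mem_image.1 this
    exact hinj e ▸ (Finset.mem_filter.1 hz).2
  · exact fun hx => (h.1 x).resolve_left (by simp [hx])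

theorem pm_cls {p : Fin 8 → Fin 8} (h : isAuto p = true) (x : Fin 256) : cls (pm p x) = cls x := by
  simp only [cls, pm_wt (isAuto_inj h), isAuto_code h]

/-- the class after a possible addition of the full word -/
theorem shift_cls : ∀ (e : Bool) (x : Fin 256),
    cls (shift e x) = cls x ∨ ((cls x = 1 ∧ cls (shift e x) = 7) ∨ (cls x = 7 ∧ cls (shift e x) = 1) ∨
      (cls x = 3 ∧ cls (shift e x) = 5) ∨ (cls x = 5 ∧ cls (shift e x) = 3)) := by decide +kernel

section Frame

variable {ev : Bool} {H : Subgroup (Equiv.Perm (Fin 256))} (hF : Frame ev H)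

theorem inS_parity {ev : Bool} {x y : Fin 256} (h : wt y % 2 = wt x % 2) (hx : inS ev x = true) :
    inS ev y = true := by
  simpa [inS, h] using hx

include hF in
theorem frame_gen {p : Fin 8 → Fin 8} (hp : isAuto p = true) :
    ∃ h ∈ H, h top = top ∧ ∀ x, inS ev x = true → h x = pm p x := by
  obtain ⟨h, hh, he⟩ := hF.lower p hp
  exact ⟨h, hh, by rw [he _ (inS_top ev), pm_top (isAuto_inj hp)], he⟩

theorem st_tree {gs : List (Fin 256 → Fin 256)} (hS : Sys ev H)
    (hgs : ∀ g ∈ gs, ∃ h ∈ H, h top = top ∧ ∀ x, inS ev x = true → h x = g x) {pr : Fin 256 → Fin 256}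
    (hpr : ∀ x, inS ev x = true → inS ev (pr x) = true ∧ (pr x = x ∨ ∃ g ∈ gs, g (pr x) = x)) :
    ∀ (n : ℕ) (x : Fin 256), inS ev x = true → St H (pr^[n] x) x
  | 0, x, _ => Rel.refl' _
  | n + 1, x, hx => by
    rw [Function.iterate_succ_apply]
    refine (st_tree hS hgs hpr n (pr x) (hpr x hx).1).trans' ?_
    rcases (hpr x hx).2 with e | ⟨g, hg, e⟩
    · rw [e]; exact Rel.refl' _
    · obtain ⟨h, hh, ht, he⟩ := hgs g hg
      exact ⟨h, hh, ht, by show h (pr x) = x; rw [he _ (hpr x hx).1, e]⟩

include hF in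
theorem st_rep {x : Fin 256} (hx : inS ev x = true) : St H (rep (cls x)) x := by
  rw [← (tree_G x).2.2]
  refine st_tree hF.toSys ?_ (fun y hy => ⟨inS_parity (tree_G y).2.1 hy, (tree_G y).1⟩) 5 x hx
  intro g hg
  simp only [gsG, List.mem_cons, List.not_mem_nil, or_false] at hg
  rcases hg with rfl | rfl | rfl
  · exact frame_gen hF auto_gens.1
  · exact frame_gen hF auto_gens.2.1
  · exact frame_gen hF auto_gens.2.2

include hF in
theorem st_of_cls {x y : Fin 256} (hx : inS ev x = true) (hy : inS ev y = true) (h : cls x = cls y) :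
    St H x y :=
  (Rel.symm' (st_rep hF hx)).trans' (h ▸ st_rep hF hy)

include hF in
theorem cls_of_st {x y : Fin 256} (hx : inS ev x = true) (h : St H x y) :
    cls y = cls x ∨ ((cls x = 1 ∧ cls y = 7) ∨ (cls x = 7 ∧ cls y = 1) ∨
      (cls x = 3 ∧ cls y = 5) ∨ (cls x = 5 ∧ cls y = 3)) := by
  obtain ⟨k, hk, e1, e2⟩ := h
  obtain ⟨p, e, hp, he⟩ := hF.upper k hk e1
  have e2' : k x = y := e2
  rw [← e2', he x hx, ← pm_cls hp x]
  exact shift_cls e (pm p x)

include hF in
theorem cls_of_st_even {x y : Fin 256} (hx : inS ev x = true) (h : St H x y)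
    (he : cls x % 2 = 0 ∨ cls x = 9) : cls y = cls x := by
  rcases cls_of_st hF hx h with e | e
  · exact e
  · omega

end Frame

end CfsgLib.OEightStd.Kills
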