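import Cfsg.Agent.Lib.OEightStd.KillsCls

/-!
The orbit of the full word has no word of weight one or seven.
-/

set_option autoImplicit false
set_option maxRecDepth 100000
set_option maxHeartbeats 1000000

namespace CfsgLib.OEightStd.Kills

/-- the first linear map -/
def mA : Fin 256 → Fin 256 := lmap [255, 2, 4, 8, 16, 32, 64, 128]
/-- the second linear map -/
def mB : Fin 256 → Fin 256 := lmap [1, 3, 5, 9, 17, 33, 65, 129]
/-- the third linear map -/
def mC : Fin 256 → Fin 256 := lmap [254, 3, 5, 9, 17, 33, 65, 129]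

/-- fixing the even words off the first place -/
def fixesEv (f : Fin 256 → Fin 256) : Bool :=
  (List.finRange 256).all fun y => y.1.testBit 0 || wt y % 2 == 1 || f y == y

theorem mA_data : fixesEv mA = true ∧ mA top = 1 ∧ mA 1 = top := by decide +kernel
theorem mB_data : fixesEv mB = true ∧ mB top = 254 ∧ mB 1 = 1 := by decide +kernel
theorem mC_data : fixesEv mC = true ∧ mC top = 1 ∧ mC 1 = 254 := by decide +kernel

def pA1 : Fin 8 → Fin 8 := pl (4 + 6 * 8 + 7 * 64 + 5 * 512 + 1 * 4096 + 3 * 32768 + 2 * 262144 + 0)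
def pA2 : Fin 8 → Fin 8 := pl (7 + 5 * 8 + 3 * 64 + 1 * 512 + 0 + 2 * 32768 + 4 * 262144 + 6 * 2097152)
def pB1 : Fin 8 → Fin 8 := pl (1 + 7 * 8 + 6 * 64 + 0 + 4 * 4096 + 2 * 32768 + 3 * 262144 + 5 * 2097152)
def pB2 : Fin 8 → Fin 8 := pl (3 + 7 * 8 + 6 * 64 + 2 * 512 + 0 + 4 * 32768 + 5 * 262144 + 1 * 2097152)
def pC1 : Fin 8 → Fin 8 := pl (5 + 7 * 8 + 3 * 64 + 1 * 512 + 4 * 4096 + 6 * 32768 + 2 * 262144 + 0)
def pC2 : Fin 8 → Fin 8 := pl (7 + 4 * 8 + 3 * 64 + 0 + 6 * 4096 + 5 * 32768 + 2 * 262144 + 1 * 2097152)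

theorem auto_words : isAuto pA1 = true ∧ isAuto pA2 = true ∧ isAuto pB1 = true ∧ isAuto pB2 = true ∧
    isAuto pC1 = true ∧ isAuto pC2 = true := by decide +kernel

theorem word_A : (mA (pm pA1 (mA (pm pA2 (mA top)))) = top) ∧
    inCode 15 = true ∧ inCode (mA (pm pA1 (mA (pm pA2 (mA 15))))) = false := by decide +kernel
theorem word_B : (mB (pm pB1 (mB (pm pB2 (mB top)))) = top) ∧
    inCode (mB (pm pB1 (mB (pm pB2 (mB 15))))) = false := by decide +kernel
theorem word_C : (mC (mC (pm pC1 (mC (pm pC2 (mC (mC top)))))) = top) ∧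
    inCode 51 = true ∧ inCode (mC (mC (pm pC1 (mC (pm pC2 (mC (mC 51))))))) = false := by decide +kernel

section Point

variable {H : Subgroup (Equiv.Perm (Fin 256))} (hF : Frame false H)

theorem inS_false (x : Fin 256) : inS false x = true := rfl

include hF in
theorem lin' {h : Equiv.Perm (Fin 256)} (hh : h ∈ H) (x y : Fin 256) : h (xr x y) = xr (h x) (h y) :=
  hF.lin h hh x y rfl rfl

/-- the exact permutations from a function -/
def Has (H : Subgroup (Equiv.Perm (Fin 256))) (f : Fin 256 → Fin 256) : Prop := ∃ h ∈ H, ∀ x, h x = f x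

theorem Has.comp {f g : Fin 256 → Fin 256} (hf : Has H f) (hg : Has H g) : Has H (fun x => f (g x)) := by
  obtain ⟨a, ha, ea⟩ := hf
  obtain ⟨b, hb, eb⟩ := hg
  exact ⟨a * b, mul_mem ha hb, fun x => by rw [Equiv.Perm.mul_apply, eb, ea]⟩

include hF in
theorem has_pm {p : Fin 8 → Fin 8} (hp : isAuto p = true) : Has H (pm p) := by
  obtain ⟨h, hh, he⟩ := hF.lower p hp
  exact ⟨h, hh, fun x => he x rfl⟩

include hF in
theorem no_word {w : Fin 256 → Fin 256} (hw : Has H w) (ht : w top = top) {c : Fin 256} (hc : inCode c = true) :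
    inCode (w c) = true := by
  obtain ⟨h, hh, he⟩ := hw
  obtain ⟨p, e, hp, hpe⟩ := hF.upper h hh (by rw [he, ht])
  rw [← he, hpe c rfl]
  have h1 : inCode (pm p c) = true := by rw [isAuto_code hp, hc]
  have key : ∀ (e : Bool) (y : Fin 256), inCode y = true → inCode (shift e y) = true := by decide +kernel
  exact key _ _ h1

theorem lin_eq_lmap {f : Fin 256 → Fin 256} (hlin : ∀ x y, f (xr x y) = xr (f x) (f y)) (x : Fin 256) :
    f x = lmap ((List.finRange 8).map fun i => f (unit i)) x := by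
  have h0 : f 0 = 0 := by
    have := hlin 0 0
    rwa [xr_self, xr_self] at this
  have hx : x = (List.finRange 8).foldr (fun i a => if x.1.testBit i.1 then xr (unit i) a else a) 0 := by
    revert x
    decide +kernel
  have e : ∀ (L : List (Fin 8)) (x : Fin 256),
      f (L.foldr (fun i a => if x.1.testBit i.1 then xr (unit i) a else a) 0) =
        L.foldr (fun i a => if x.1.testBit i.1 then xr (f (unit i)) a else a) 0 := by
    intro L x
    induction L with
    | nil => exact h0
    | cons i L ih =>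
      simp only [List.foldr_cons]
      split_ifs
      · rw [hlin, ih]
      · exact ih
  conv_lhs => rw [hx, e]
  unfold lmap
  simp [List.finRange_succ, List.range_succ_eq_map]

include hF in
theorem stab_perm {k : Equiv.Perm (Fin 256)} (hk : k ∈ H) (k1 : k top = top) (k2 : k 1 = 1) :
    ∃ p : Fin 8 → Fin 8, isAuto p = true ∧ p 0 = 0 ∧ ∀ x, k x = pm p x := by
  obtain ⟨p, e, hp, he⟩ := hF.upper k hk k1
  have h1 := he 1 rfl
  rw [k2] at h1
  have hu : (1 : Fin 256) = unit 0 := rfl
  rw [hu, pm_unit] at h1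
  have key : ∀ (e : Bool) (j : Fin 8), unit 0 = shift e (unit j) → e = false ∧ j = 0 := by decide +kernel
  obtain ⟨he0, hp0⟩ := key _ _ h1
  refine ⟨p, hp, hp0, fun x => ?_⟩
  rw [he x rfl, he0]
  rfl

include hF in
theorem gens_stab {p : Fin 8 → Fin 8} (hp : isAuto p = true) (h0 : p 0 = 0) :
    ∃ k ∈ H, k top = top ∧ k 1 = 1 ∧ ∀ x, k x = pm p x := by
  obtain ⟨k, hk, kt, he⟩ := frame_gen hF hp
  refine ⟨k, hk, kt, ?_, fun x => he x rfl⟩
  have hu : (1 : Fin 256) = unit 0 := rfl
  rw [he 1 rfl, hu, pm_unit, h0]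

variable {g : Equiv.Perm (Fin 256)}

include hF in
/-- the image of a set kept by the stabilizer is kept by it -/
theorem conj_stab (hg : g ∈ H) (hgt : g top = 1 ∨ g top = 254 ∨ g top = top) (hg1 : g 1 = 1 ∨ g 1 = 254 ∨ g 1 = top)
    {k : Equiv.Perm (Fin 256)} (hk : k ∈ H) (k1 : k top = top) (k2 : k 1 = 1) :
    (g⁻¹ * k * g) ∈ H ∧ (g⁻¹ * k * g) top = top ∧ (g⁻¹ * k * g) 1 = 1 := by
  have h254 : k 254 = 254 := by
    rw [show (254 : Fin 256) = xr top 1 from rfl, lin' hF hk, k1, k2]
  have fix : ∀ y, (y = 1 ∨ y = 254 ∨ y = top) → k y = y := by rintro y (rfl | rfl | rfl) <;> assumption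
  refine ⟨mul_mem (mul_mem (inv_mem hg) hk) hg, ?_, ?_⟩
  · show g.symm (k (g top)) = top
    rw [fix _ hgt, Equiv.symm_apply_apply]
  · show g.symm (k (g 1)) = 1
    rw [fix _ hg1, Equiv.symm_apply_apply]

include hF in
theorem orbK_sub (hg : g ∈ H) (hgt : g top = 1 ∨ g top = 254 ∨ g top = top) (hg1 : g 1 = 1 ∨ g 1 = 254 ∨ g 1 = top)
    {S : List (Fin 256)}
    (hS : ∀ p : Fin 8 → Fin 8, isAuto p = true → p 0 = 0 → ∀ s ∈ S, pm p s ∈ S) {t : Fin 256} (ht : t ∈ S) :
    ∀ u ∈ orbK (rootK (g t)), u ∈ S.map g := by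
  have hinv : ∀ k ∈ H, k top = top → k 1 = 1 → ∀ y ∈ S.map g, k y ∈ S.map g := by
    intro k hk k1 k2 y hy
    obtain ⟨s, hs, rfl⟩ := List.mem_map.1 hy
    obtain ⟨hm, c1, c2⟩ := conj_stab hF hg hgt hg1 hk k1 k2
    obtain ⟨p, hp, hp0, he⟩ := stab_perm hF hm c1 c2
    refine List.mem_map.2 ⟨pm p s, hS p hp hp0 s hs, ?_⟩
    rw [← he]
    exact g.apply_symm_apply _
  have gen : ∀ f ∈ gsK, ∃ k ∈ H, k top = top ∧ k 1 = 1 ∧ ∀ x, k x = f x := by
    intro f hf
    simp only [gsK, List.mem_cons, List.not_mem_nil, or_false] at hf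
    rcases hf with rfl | rfl
    · exact gens_stab hF auto_gens.1 gensK_zero.1
    · exact gens_stab hF auto_gens.2.1 gensK_zero.2
  have up : ∀ (n : ℕ) (u : Fin 256), predK^[n] u ∈ S.map g → u ∈ S.map g := by
    intro n
    induction n with
    | zero => exact fun u h => h
    | succ n ih =>
      intro u hu
      rw [Function.iterate_succ_apply] at hu
      have h := ih _ hu
      rcases (tree_K u).1 with e | ⟨f, hf, e⟩
      · rwa [e] at h
      · obtain ⟨k, hk, k1, k2, he⟩ := gen f hf
        have := hinv k hk k1 k2 _ h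
        rwa [he, e] at this
  have down : ∀ (n : ℕ) (u : Fin 256), u ∈ S.map g → predK^[n] u ∈ S.map g := by
    intro n
    induction n with
    | zero => exact fun u h => h
    | succ n ih =>
      intro u hu
      rw [Function.iterate_succ_apply]
      refine ih _ ?_
      rcases (tree_K u).1 with e | ⟨f, hf, e⟩
      · rwa [e]
      · obtain ⟨k, hk, k1, k2, he⟩ := gen f hf
        have := hinv _ (inv_mem hk) (by show k.symm top = top; rw [Equiv.symm_apply_eq, k1])
          (by show k.symm 1 = 1; rw [Equiv.symm_apply_eq, k2]) u hu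
        rwa [show k⁻¹ u = predK u from by show k.symm u = _; rw [Equiv.symm_apply_eq, he, e]] at this
  intro u hu
  simp only [orbK, List.mem_filter, beq_iff_eq] at hu
  apply up 6
  rw [(tree_K u).2, hu.2, ← (tree_K (g t)).2]
  exact down 6 _ (List.mem_map.2 ⟨t, ht, rfl⟩)

theorem orbK_nodup (r : Fin 256) : (orbK r).Nodup := (List.nodup_finRange 256).filter _

theorem mem_orbK (y : Fin 256) : y ∈ orbK (rootK y) := by simp [orbK]

theorem foldr_map {g : Fin 256 → Fin 256} (hlin : ∀ x y, g (xr x y) = xr (g x) (g y)) (L : List (Fin 256)) :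
    (L.map g).foldr xr 0 = g (L.foldr xr 0) := by
  induction L with
  | nil =>
    have := hlin 0 0
    rw [xr_self, xr_self] at this
    exact this.symm
  | cons a L ih => rw [List.map_cons, List.foldr_cons, List.foldr_cons, ih, hlin]

instance : Std.Commutative xr := ⟨xr_comm⟩
instance : Std.Associative xr := ⟨xr_assoc⟩

include hF in
theorem seven (hg : g ∈ H) (hgt : g top = 1 ∨ g top = 254 ∨ g top = top) (hg1 : g 1 = 1 ∨ g 1 = 254 ∨ g 1 = top)
    {S : List (Fin 256)} (hlen : S.length = 7) (hnd : S.Nodup) (hoff : ∀ s ∈ S, s ∉ [0, 1, top, xr top 1])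
    (hS : ∀ p : Fin 8 → Fin 8, isAuto p = true → p 0 = 0 → ∀ s ∈ S, pm p s ∈ S) {t : Fin 256} (ht : t ∈ S) :
    (S.map g).Perm (orbK (rootK (g t))) ∧
      ((orbK (rootK (g t))).foldr xr 0 = 0 → noTriple (orbK (rootK (g t))) = true → g t ∈ T7) ∧
      (closed (orbK (rootK (g t))) = true → g t ∈ LC) := by
  have hsub := orbK_sub hF hg hgt hg1 hS ht
  have hlin := lin' hF hg
  have hn' : (S.map g).Nodup := hnd.map g.injective
  have hsp : List.Subperm (orbK (rootK (g t))) (S.map g) := (orbK_nodup _).subperm hsub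
  have hle : (orbK (rootK (g t))).length ≤ 7 := by
    have := hsp.length_le
    rwa [List.length_map, hlen] at this
  have hok := orbK_cases _ (rootK_root (g t))
  simp only [okK, Bool.or_eq_true, Bool.and_eq_true, Bool.not_eq_true', decide_eq_true_eq, beq_iff_eq] at hok
  rcases hok with (h | h) | h
  · exfalso
    have h254 : xr top 1 = 254 := rfl
    have hg0 : g 0 = 0 := h_zero hF.toSys hg
    have hgd : g (xr top 1) = xr (g top) (g 1) := hlin _ _
    have hroot : rootK (g t) = g t := by
      have h' := h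
      simp only [List.contains_iff_mem, List.mem_cons, List.not_mem_nil, or_false] at h'
      have key : ∀ r : Fin 256, rootK r = 0 ∨ rootK r = 1 ∨ rootK r = top ∨ rootK r = xr top 1 → rootK r = r := by
        decide +kernel
      exact key _ h'
    rw [hroot] at h
    simp only [List.contains_iff_mem, List.mem_cons, List.not_mem_nil, or_false] at h
    have hne := hoff t ht
    simp only [List.mem_cons, List.not_mem_nil, or_false, not_or] at hne
    have a0 : g t ≠ 0 := fun e => hne.1 (g.injective (e.trans hg0.symm))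
    have a1 : g t ≠ g 1 := fun e => hne.2.1 (g.injective e)
    have a2 : g t ≠ g top := fun e => hne.2.2.1 (g.injective e)
    have a3 : g t ≠ xr (g top) (g 1) := fun e => hne.2.2.2 (g.injective (e.trans hgd.symm))
    have a4 : g 1 ≠ g top := fun e => absurd (g.injective e) (by decide)
    revert h a0 a1 a2 a3 a4
    generalize g t = u
    rcases hgt with e | e | e <;> rcases hg1 with e' | e' | e' <;> rw [e, e', h254] <;> intro h <;>
      rcases h with rfl | rfl | rfl | rfl <;> decide +kernel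
  · omega
  · obtain ⟨⟨hl7, hT⟩, hC⟩ := h
    have hperm : (S.map g).Perm (orbK (rootK (g t))) := by
      refine (hsp.perm_of_length_le ?_).symm
      rw [List.length_map, hlen, hl7]
    refine ⟨hperm, fun h0 hnt => ?_, fun hc => ?_⟩
    · rcases hT with e | e
      · simp [h0, hnt] at e
      · rw [List.all_eq_true] at e
        simpa using e _ (mem_orbK (g t))
    · rcases hC with e | e
      · simp [hc] at e
      · rw [List.all_eq_true] at e
        simpa using e _ (mem_orbK (g t))

theorem T7_mem : ∀ x : Fin 256, x ∈ T7 ↔ ∃ i : Fin 8, i ≠ 0 ∧ x = xr 254 (unit i) := by decide +kernel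

theorem T7_inv {p : Fin 8 → Fin 8} (hp : isAuto p = true) (h0 : p 0 = 0) : ∀ s ∈ T7, pm p s ∈ T7 := by
  intro s hs
  obtain ⟨i, hi, rfl⟩ := (T7_mem s).1 hs
  have hinj := isAuto_inj hp
  refine (T7_mem _).2 ⟨p i, fun e => hi (hinj (e.trans h0.symm)), ?_⟩
  rw [show (254 : Fin 256) = xr top (unit 0) from rfl, pm, lmap_xr, lmap_xr, ← pm, ← pm, ← pm, pm_top hinj, pm_unit,
    pm_unit, h0]

theorem LC_inv {p : Fin 8 → Fin 8} (hp : isAuto p = true) (h0 : p 0 = 0) : ∀ s ∈ LC, pm p s ∈ LC := by
  intro s hs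
  obtain ⟨a, b, c⟩ := (mem_LC s).1 hs
  refine (mem_LC _).2 ⟨by rw [isAuto_code hp, a], by rw [pm_wt (isAuto_inj hp), b], ?_⟩
  have := pm_bit (isAuto_inj hp) s 0
  rw [h0] at this
  exact this.trans c

include hF in
theorem image_T7 (hg : g ∈ H) (hgt : g top = 1 ∨ g top = 254 ∨ g top = top) (hg1 : g 1 = 1 ∨ g 1 = 254 ∨ g 1 = top)
    {t : Fin 256} (ht : t ∈ T7) : g t ∈ T7 := by
  have hlin := lin' hF hg
  obtain ⟨hperm, hA, -⟩ := seven hF hg hgt hg1 rfl (by decide) (by decide)
    (fun p hp h0 => T7_inv hp h0) ht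
  refine hA ?_ ?_
  · rw [← hperm.foldr_op_eq, foldr_map hlin, show T7.foldr xr 0 = 0 by decide +kernel]
    exact h_zero hF.toSys hg
  · simp only [noTriple, List.all_eq_true, Bool.not_eq_true', List.contains_eq_mem, decide_eq_false_iff_not]
    intro u hu v hv hw
    rw [← hperm.mem_iff, List.mem_map] at hu hv hw
    obtain ⟨a, ha, rfl⟩ := hu
    obtain ⟨b, hb, rfl⟩ := hv
    obtain ⟨c, hc, e⟩ := hw
    rw [← hlin] at e
    have key : ∀ a ∈ T7, ∀ b ∈ T7, xr a b ∉ T7 := by decide +kernel
    exact key a ha b hb (g.injective e ▸ hc)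

include hF in
theorem image_LC (hg : g ∈ H) (hgt : g top = 1 ∨ g top = 254 ∨ g top = top) (hg1 : g 1 = 1 ∨ g 1 = 254 ∨ g 1 = top)
    {t : Fin 256} (ht : t ∈ LC) : g t ∈ LC := by
  have hlin := lin' hF hg
  obtain ⟨hperm, -, hB⟩ := seven hF hg hgt hg1 rfl (by decide) (by decide)
    (fun p hp h0 => LC_inv hp h0) ht
  refine hB ?_
  simp only [closed, List.all_eq_true, Bool.or_eq_true, beq_iff_eq, List.contains_eq_mem, decide_eq_true_eq]
  intro u hu v hv
  rw [← hperm.mem_iff, List.mem_map] at hu hv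
  obtain ⟨a, ha, rfl⟩ := hu
  obtain ⟨b, hb, rfl⟩ := hv
  rcases eq_or_ne a b with e | e
  · exact Or.inl (by rw [e])
  · right
    rw [← hperm.mem_iff, ← hlin]
    have key : ∀ a ∈ LC, ∀ b ∈ LC, a ≠ b → xr a b ∈ LC := by decide +kernel
    exact List.mem_map.2 ⟨_, key a ha b hb e, rfl⟩

include hF in
theorem has_map (hg : g ∈ H) {f : Fin 256 → Fin 256} (hflin : ∀ x y, f (xr x y) = xr (f x) (f y))
    (hfix : fixesEv f = true) (hf1 : f 1 = g 1) (hft : f top = g top)
    (hgt : g top = 1 ∨ g top = 254 ∨ g top = top) (hg1 : g 1 = 1 ∨ g 1 = 254 ∨ g 1 = top) : Has H f := by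
  classical
  have hlin := lin' hF hg
  simp only [fixesEv, List.all_eq_true, List.mem_finRange, Bool.or_eq_true, beq_iff_eq, forall_const] at hfix
  have hT : ∀ i : Fin 8, i ≠ 0 → ∃ j : Fin 8, j ≠ 0 ∧ g (xr 254 (unit i)) = xr 254 (unit j) := fun i hi =>
    (T7_mem _).1 (image_T7 hF hg hgt hg1 ((T7_mem _).2 ⟨i, hi, rfl⟩))
  choose q hq0 hq using hT
  let p : Fin 8 → Fin 8 := fun i => if h : i = 0 then 0 else q i h
  have hp0 : p 0 = 0 := by simp [p]
  have hinj : Function.Injective p := by
    intro a b e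
    by_cases ha : a = 0 <;> by_cases hb : b = 0 <;> simp only [p, ha, hb, dite_true, dite_false] at e
    · rw [ha, hb]
    · exact absurd e.symm (hq0 b hb)
    · exact absurd e (hq0 a ha)
    · have e2 := g.injective ((hq a ha).trans ((e ▸ (hq b hb).symm : _)))
      have key : ∀ a b : Fin 8, xr 254 (unit a) = xr 254 (unit b) → a = b := by decide +kernel
      exact key a b e2
  have hpm : ∀ x, g x = f (pm p x) := by
    have hl2 : ∀ x y, f (pm p (xr x y)) = xr (f (pm p x)) (f (pm p y)) := fun x y => by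
      simp only [pm, lmap_xr, hflin]
    have hu : ∀ i, g (unit i) = f (pm p (unit i)) := by
      intro i
      rw [pm_unit]
      by_cases hi : i = 0
      · subst hi
        rw [hp0]
        exact hf1.symm
      · have e : p i = q i hi := by simp [p, hi]
        have e1 : unit i = xr (xr top 1) (xr 254 (unit i)) := by
          rw [← xr_assoc, show xr (xr top 1) 254 = 0 from rfl, zero_xr]
        have e2 : ∀ j : Fin 8, j ≠ 0 → f (xr 254 (unit j)) = xr 254 (unit j) := fun j hj => by
          have key : ∀ j : Fin 8, j ≠ 0 → (xr 254 (unit j)).1.testBit 0 = false ∧ wt (xr 254 (unit j)) % 2 = 0 := by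
            decide +kernel
          rcases hfix (xr 254 (unit j)) with (h | h) | h
          · rw [(key j hj).1] at h; exact absurd h (by simp)
          · rw [(key j hj).2] at h; exact absurd h (by simp)
          · exact h
        have e3 : unit (p i) = xr (xr top 1) (xr 254 (unit (p i))) := by
          rw [← xr_assoc, show xr (xr top 1) 254 = 0 from rfl, zero_xr]
        rw [e3, hflin, hflin, e, e2 _ (hq0 i hi), hft, hf1, e1, hlin, hlin, hq i hi]
    intro x
    rw [lin_eq_lmap hlin, lin_eq_lmap (f := fun x => f (pm p x)) hl2]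
    simp only [hu]
  have hcode : ∀ c, inCode c = true → inCode (pm p c) = true := by
    have hLC : ∀ c ∈ LC, pm p c ∈ LC := by
      intro c hc
      have h1 := image_LC hF hg hgt hg1 hc
      rw [hpm] at h1
      obtain ⟨-, hw, hb⟩ := (mem_LC c).1 hc
      have hb' := pm_bit hinj c 0
      rw [hp0] at hb'
      have hb'' : (pm p c).1.testBit 0 = false := hb'.trans hb
      rcases hfix (pm p c) with (h | h) | h
      · rw [hb''] at h; exact absurd h (by simp)
      · rw [pm_wt hinj, hw] at h; exact absurd h (by simp)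
      · rwa [h] at h1
    have key : ∀ c, inCode c = true → c = 0 ∨ c = top ∨ c ∈ LC ∨ xr c top ∈ LC := by decide +kernel
    intro c hc
    have hT' : ∀ d ∈ LC, inCode d = true ∧ inCode (xr d top) = true := by decide +kernel
    rcases key c hc with rfl | rfl | h | h
    · rw [show pm p 0 = 0 from rfl]; rfl
    · rw [pm_top hinj]; rfl
    · exact (hT' _ (hLC c h)).1
    · have := (hT' _ (hLC _ h)).2
      rwa [pm, lmap_xr, ← pm, ← pm, pm_top hinj, xr_assoc, xr_self, xr_zero] at this
  have hauto : isAuto p = true := by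
    simp only [isAuto, Bool.and_eq_true, List.all_eq_true, List.mem_finRange, Bool.or_eq_true, Bool.not_eq_true',
      forall_const, decide_eq_true_eq]
    refine ⟨fun c => ?_, List.Nodup.map hinj (List.nodup_finRange 8)⟩
    cases hc : inCode c
    · exact Or.inl rfl
    · exact Or.inr (hcode c hc)
  obtain ⟨k, hk, he⟩ := has_pm hF hauto
  refine ⟨g * k⁻¹, mul_mem hg (inv_mem hk), fun x => ?_⟩
  obtain ⟨y, rfl⟩ := k.surjective x
  show g (k.symm (k y)) = f (k y)
  rw [Equiv.symm_apply_apply, he, hpm]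

include hF in
theorem no_point : ∀ x, InO H x → cls x ≠ 1 ∧ cls x ≠ 7 := by
  intro x hx
  by_contra hc
  rw [not_and_or, not_not, not_not] at hc
  obtain ⟨g0, hg0, rfl⟩ := hx
  have move : ∀ y : Fin 256, cls y = 1 ∨ cls y = 7 → ∃ j : Fin 8, pm (tl j) y = 1 ∨ pm (tl j) y = 254 := by
    decide +kernel
  obtain ⟨j, hj⟩ := move _ hc
  obtain ⟨h, hh, ht, he⟩ := frame_gen hF (auto_tl j)
  have g1H : h * g0 ∈ H := mul_mem hh hg0
  have g1t : (h * g0) top = 1 ∨ (h * g0) top = 254 := by
    rw [Equiv.Perm.mul_apply, he _ rfl]; exact hj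
  have hwcls : cls ((h * g0) top) = 1 ∨ cls ((h * g0) top) = 7 := by
    rcases g1t with e | e <;> rw [e] <;> decide +kernel
  have hcard := card_swap (H := H) g1H rfl ((h * g0).apply_symm_apply top)
  have hw' : cls ((h * g0).symm top) = 1 ∨ cls ((h * g0).symm top) = 7 := by
    let cf : ℕ → Finset (Fin 256) := fun k => Finset.univ.filter fun y => cls y = k
    have lo : ∀ w, cf (cls w) ⊆ orbS H w := fun w y hy =>
      mem_orbS.2 (st_of_cls hF rfl rfl ((Finset.mem_filter.1 hy).2.symm))
    have hi : ∀ w, cls w % 2 = 0 ∨ cls w = 9 → orbS H w ⊆ cf (cls w) := fun w he y hy =>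
      Finset.mem_filter.2 ⟨Finset.mem_univ _, cls_of_st_even hF rfl (mem_orbS.1 hy) he⟩
    have sub17 : orbS H ((h * g0) top) ⊆ cf 1 ∪ cf 7 := fun y hy => by
      have := cls_of_st hF rfl (mem_orbS.1 hy)
      simp only [cf, Finset.mem_union, Finset.mem_filter, Finset.mem_univ, true_and]
      omega
    have cards : (cf 1).card = 8 ∧ (cf 7).card = 8 ∧ (cf 2).card = 28 ∧ (cf 3).card = 56 ∧ (cf 4).card = 56 ∧
        (cf 5).card = 56 ∧ (cf 6).card = 28 ∧ (cf 9).card = 14 ∧ (cf 0).card = 1 ∧ (cf 8).card = 1 := by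
      decide +kernel
    have le16 : (orbS H ((h * g0) top)).card ≤ 16 :=
      (Finset.card_le_card sub17).trans ((Finset.card_union_le _ _).trans (by omega))
    have ge8 : 8 ≤ (orbS H ((h * g0) top)).card := by
      refine le_trans ?_ (Finset.card_le_card (lo _))
      rcases hwcls with e | e <;> rw [e] <;> omega
    have ne14 : (orbS H ((h * g0) top)).card ≠ 14 := by
      by_cases hall : ∀ y ∈ orbS H ((h * g0) top), cls y = cls ((h * g0) top)
      · have := Finset.card_le_card (show orbS H ((h * g0) top) ⊆ cf (cls ((h * g0) top)) from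
          fun y hy => Finset.mem_filter.2 ⟨Finset.mem_univ _, hall y hy⟩)
        rcases hwcls with e | e <;> rw [e] at this <;> omega
      · push_neg at hall
        obtain ⟨y, hy, hne⟩ := hall
        have : cf 1 ∪ cf 7 ⊆ orbS H ((h * g0) top) := by
          intro z hz
          simp only [cf, Finset.mem_union, Finset.mem_filter, Finset.mem_univ, true_and] at hz
          have hyc := cls_of_st hF rfl (mem_orbS.1 hy)
          by_cases e : cls z = cls ((h * g0) top)
          · exact mem_orbS.2 (st_of_cls hF rfl rfl e.symm)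
          · exact mem_orbS.2 ((mem_orbS.1 hy).trans' (st_of_cls hF rfl rfl (by omega)))
        have := Finset.card_le_card this
        rw [Finset.card_union_of_disjoint (Finset.disjoint_filter.2 fun _ _ e e' => by omega)] at this
        simp only [cf] at this cards
        omega
    have hlo := Finset.card_le_card (lo ((h * g0).symm top))
    have hk := cls_mem ((h * g0).symm top)
    rw [List.mem_range] at hk
    have hcase : cls ((h * g0).symm top) = 0 ∨ cls ((h * g0).symm top) = 1 ∨ cls ((h * g0).symm top) = 2 ∨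
      cls ((h * g0).symm top) = 3 ∨ cls ((h * g0).symm top) = 4 ∨ cls ((h * g0).symm top) = 5 ∨
      cls ((h * g0).symm top) = 6 ∨ cls ((h * g0).symm top) = 7 ∨ cls ((h * g0).symm top) = 8 ∨
      cls ((h * g0).symm top) = 9 := by omega
    rcases hcase with e | e | e | e | e | e | e | e | e | e
    all_goals first
      | exact Or.inl e
      | exact Or.inr e
      | (exfalso; rw [e] at hlo; omega)
      | (exfalso; have := Finset.card_le_card (hi ((h * g0).symm top) (by omega)); rw [e] at this hlo; omega)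
  obtain ⟨j', hj'⟩ := move _ hw'
  obtain ⟨h', hh', ht', he'⟩ := frame_gen hF (auto_tl j')
  have hgH : h * g0 * h'⁻¹ ∈ H := mul_mem g1H (inv_mem hh')
  set g := h * g0 * h'⁻¹ with hgdef
  have gt : g top = 1 ∨ g top = 254 := by
    rw [hgdef, Equiv.Perm.mul_apply, show h'⁻¹ top = top from by show h'.symm top = top; rw [Equiv.symm_apply_eq, ht']]
    exact g1t
  have gw : ∃ w, (w = 1 ∨ w = 254) ∧ g w = top := by
    refine ⟨pm (tl j') ((h * g0).symm top), hj', ?_⟩
    rw [← he' _ rfl, hgdef, Equiv.Perm.mul_apply, show h'⁻¹ (h' ((h * g0).symm top)) = (h * g0).symm top from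
      h'.symm_apply_apply _]
    exact (h * g0).apply_symm_apply top
  obtain ⟨w, hw, gwt⟩ := gw
  have h254 : (254 : Fin 256) = xr top 1 := rfl
  have main13 : ∀ g ∈ H, g top = 1 → g 254 = top → False := by
    intro g hg e1 e2
    have e3 : g 1 = 254 := by
      rw [show (1 : Fin 256) = xr top 254 from rfl, lin' hF hg, e1, e2]; rfl
    have hm := has_map hF hg (f := mC) (fun x y => lmap_xr _ x y) mC_data.1 (by rw [mC_data.2.2, e3])
      (by rw [mC_data.2.1, e1]) (Or.inl e1) (Or.inr (Or.inl e3))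
    have hw := no_word hF ((hm.comp (hm.comp ((has_pm hF auto_words.2.2.2.2.1).comp (hm.comp
      ((has_pm hF auto_words.2.2.2.2.2).comp (hm.comp hm))))))) word_C.1 word_C.2.1
    rw [word_C.2.2] at hw
    exact absurd hw (by simp)
  rcases gt with e1 | e1 <;> rcases hw with rfl | rfl
  · have hm := has_map hF hgH (f := mA) (fun x y => lmap_xr _ x y) mA_data.1 (by rw [mA_data.2.2, gwt])
      (by rw [mA_data.2.1, e1]) (Or.inl e1) (Or.inr (Or.inr gwt))
    have hw := no_word hF (hm.comp ((has_pm hF auto_words.1).comp (hm.comp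
      ((has_pm hF auto_words.2.1).comp hm)))) word_A.1 word_A.2.1
    rw [word_A.2.2] at hw
    exact absurd hw (by simp)
  · exact main13 g hgH e1 gwt
  · refine main13 g⁻¹ (inv_mem hgH) ?_ ?_
    · show g.symm top = 1; rw [Equiv.symm_apply_eq, gwt]
    · show g.symm 254 = top; rw [Equiv.symm_apply_eq, e1]
  · have e3 : g 1 = 1 := by
      rw [show (1 : Fin 256) = xr top 254 from rfl, lin' hF hgH, e1, gwt]; rfl
    have hm := has_map hF hgH (f := mB) (fun x y => lmap_xr _ x y) mB_data.1 (by rw [mB_data.2.2, e3])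
      (by rw [mB_data.2.1, e1]) (Or.inr (Or.inl e1)) (Or.inl e3)
    have hw := no_word hF (hm.comp ((has_pm hF auto_words.2.2.1).comp (hm.comp
      ((has_pm hF auto_words.2.2.2.1).comp hm)))) word_B.1 word_A.2.1
    rw [word_B.2] at hw
    exact absurd hw (by simp)

end Point

end CfsgLib.OEightStd.Kills
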