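import Cfsg.Agent.Lib.OEightStd.Isolated
import Cfsg.Agent.Lib.OEightStd.Cover
import Cfsg.Agent.Lib.ZStar.Main
import Cfsg.Agent.Lib.HSub.Fusion
import Cfsg.Prelude.Def_Local

/-!
A standard double cover of the simple orthogonal group with cyclic Sylow 2-subgroups in its centralizer is
normal.
-/

set_option autoImplicit false
set_option maxRecDepth 100000
set_option linter.style.haveILetI false
set_option linter.unusedSectionVars false

namespace CfsgLib.OEightStd

open Cfsg CfsgLib.E8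
open scoped Pointwise

/-- the commutator subgroup of a group with a normal 2-complement and cyclic Sylow 2-subgroup is odd -/
theorem exists_odd_normal {K : Type*} [Group K] [Finite K] (P : Sylow 2 K) (hP : IsCyclic ↥(P : Subgroup K)) :
    ∃ N : Subgroup K, N.Normal ∧ Odd (Nat.card N) ∧ ∀ a b : K, a * b * a⁻¹ * b⁻¹ ∈ N := by
  haveI : Fact (Nat.Prime 2) := ⟨Nat.prime_two⟩
  obtain ⟨Q, N, hN, hc⟩ := ZStar.hasNormalPComplement_of_cyclic P hP
  haveI := hN
  haveI : IsCyclic ↥(Q : Subgroup K) := isCyclic_of_surjective (Sylow.equiv P Q) (Sylow.equiv P Q).surjective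
  refine ⟨N, hN, ?_, fun a b => ?_⟩
  · rw [← Nat.not_even_iff_odd]
    intro hev
    have hidx := hc.index_eq_card
    have h := Q.not_dvd_index
    rw [hidx] at h
    exact h hev.two_dvd
  · have hq : ∀ a : K, ∃ p : ↥(Q : Subgroup K), QuotientGroup.mk' N (p : K) = QuotientGroup.mk' N a := by
      intro a
      obtain ⟨⟨⟨n, hn⟩, p⟩, h⟩ := hc.2 a
      refine ⟨p, ?_⟩
      simp only at h
      rw [← h, map_mul, show QuotientGroup.mk' N n = 1 from (QuotientGroup.eq_one_iff _).2 hn, one_mul]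
    obtain ⟨p, hp⟩ := hq a
    obtain ⟨q, hq'⟩ := hq b
    refine (QuotientGroup.eq_one_iff _).1 ?_
    show QuotientGroup.mk' N (a * b * a⁻¹ * b⁻¹) = 1
    rw [map_mul, map_mul, map_mul, map_inv, map_inv, ← hp, ← hq', ← map_mul, ← map_inv, ← map_inv, ← map_mul,
      ← map_mul]
    have : (p : K) * q = q * p := congrArg Subtype.val
      ((IsCyclic.commGroup (α := ↥(Q : Subgroup K))).mul_comm p q)
    rw [this, mul_inv_cancel_right, mul_inv_cancel, map_one]


/-- a group with the shape of the component is isomorphic to the even lattice group -/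
theorem exists_iso_Wp {Λ : Type*} [Group Λ] [Finite Λ] (hq : Cfsg.IsQuasisimple Λ)
    {F : Type*} [Field F] [Fintype F] (hF : Fintype.card F = 2)
    (hZ : Nat.card (Subgroup.center Λ) = 2)
    (hLX : Nonempty ((Λ ⧸ Subgroup.center Λ) ≃* Cfsg.POmega F (Cfsg.quadFormPlus 4 F))) :
    Nonempty (Λ ≃* ↥Wp) := by
  classical
  obtain ⟨e1⟩ := hLX
  obtain ⟨e2⟩ := PlusField.pomega_congr (m := 4) (ZMod.ringEquivOfPrime F Nat.prime_two hF).symm
  obtain ⟨n, ⟨eqn⟩⟩ := Finite.exists_equiv_fin Λ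
  let ι : Λ →* Equiv.Perm (Fin n) := (eqn.permCongrHom.toMonoidHom).comp (MulAction.toPermHom Λ Λ)
  have hι : Function.Injective ι :=
    (eqn.permCongrHom.injective).comp (MulAction.toPerm_injective (α := Λ) (β := Λ))
  let eR : Λ ≃* ↥ι.range := MonoidHom.ofInjective hι
  let e12 : (Λ ⧸ Subgroup.center Λ) ≃* Xt := e1.trans e2
  let π : Λ →* Xt := (e12.toMonoidHom).comp (QuotientGroup.mk' _)
  have hπs : Function.Surjective π := e12.surjective.comp (QuotientGroup.mk'_surjective _)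
  have hπk : π.ker = Subgroup.center Λ := by
    ext x
    rw [MonoidHom.mem_ker, show π x = e12 (QuotientGroup.mk' (Subgroup.center Λ) x) from rfl, MulEquiv.map_eq_one_iff,
      QuotientGroup.mk'_apply, QuotientGroup.eq_one_iff]
  let τ : ↥ι.range →* Xt := π.comp eR.symm.toMonoidHom
  have hk : τ.ker = (Subgroup.center Λ).map eR.toMonoidHom := by
    ext x
    rw [← hπk, MonoidHom.mem_ker, Subgroup.mem_map]
    exact ⟨fun h => ⟨eR.symm x, h, eR.apply_symm_apply x⟩, fun ⟨y, hy, e⟩ => by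
      rw [← e]; show π (eR.symm (eR y)) = 1; rw [eR.symm_apply_apply]; exact hy⟩
  have hc : τ.ker ≤ Subgroup.center ↥ι.range := by
    rw [hk]
    rintro _ ⟨y, hy, rfl⟩
    refine Subgroup.mem_center_iff.2 fun g => ?_
    obtain ⟨w, rfl⟩ := eR.surjective g
    show eR w * eR y = eR y * eR w
    rw [← map_mul, ← map_mul, Subgroup.mem_center_iff.1 hy w]
  have hp : commutator ↥ι.range = ⊤ := by
    haveI := hq.1
    rw [commutator_def, ← Subgroup.map_top_of_surjective eR.toMonoidHom eR.surjective, ← Subgroup.map_commutator,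
      ← commutator_def, Group.IsPerfect.commutator_eq_top]
  have h2 : Nat.card τ.ker = 2 := by
    rw [hk, ← Nat.card_congr (Subgroup.equivMapOfInjective (Subgroup.center Λ) eR.toMonoidHom eR.injective).toEquiv, hZ]
  obtain ⟨θ⟩ := cover_iso τ (hπs.comp eR.symm.surjective) hc hp h2
  exact ⟨eR.trans θ⟩

theorem normal_of_cyclic {G : Type*} [Group G] [Finite G] {L : Subgroup G} (hO : Cfsg.oddCore G = ⊥)
    (hA : Cfsg.IsStandardSubgroup L) {F : Type*} [Field F] [Fintype F] (hF : Fintype.card F = 2)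
    (hZ : Nat.card ↥(Subgroup.center ↥L) = 2)
    (hLX : Nonempty ((↥L ⧸ Subgroup.center ↥L) ≃* Cfsg.POmega F (Cfsg.quadFormPlus 4 F)))
    (hR : ∀ R : Sylow 2 ↥(Subgroup.centralizer (L : Set G)),
      IsCyclic ↥(R : Subgroup ↥(Subgroup.centralizer (L : Set G)))) : L.Normal := by
  classical
  haveI : Fact (Nat.Prime 2) := ⟨Nat.prime_two⟩
  obtain ⟨hqs, ⟨hKev, hKti⟩, -, hnorm⟩ := hA
  obtain ⟨e⟩ := exists_iso_Wp hqs hF hZ hLX
  let C : Ctx G := ⟨L, e, exists_odd_normal (default : Sylow 2 ↥(Subgroup.centralizer (L : Set G))) (hR default)⟩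
  set K := Subgroup.centralizer (L : Set G) with hK
  set z : G := C.z with hzdef
  have hz1 : z ≠ 1 := C.z_ne
  have hzsq : z * z = 1 := C.z_sq
  have hz2 : orderOf z = 2 := orderOf_eq_prime (by rw [pow_two, hzsq]) hz1
  have hzL : z ∈ L := C.emb_mem
  have hzK : z ∈ K := C.z_mem_K
  have hKcomm : ∀ k ∈ K, ∀ a : W, C.emb a * k = k * C.emb a := fun k hk a =>
    Subgroup.mem_centralizer_iff.1 hk _ C.emb_mem
  have hzuniq : ∀ x ∈ K, x * x = 1 → x ≠ 1 → x = z := by
    intro x hx hxx hx1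
    have hcm : x * z = z * x := (hKcomm x hx negW).symm
    obtain ⟨V, hVdef⟩ : ∃ V : Subgroup ↥K, V = Subgroup.closure {(⟨x, hx⟩ : ↥K), ⟨z, hzK⟩} := ⟨_, rfl⟩
    have hV : ∀ v ∈ V, v * v = 1 ∧ (v : G) * x = x * v ∧ (v : G) * z = z * v := by
      intro v hv
      rw [hVdef] at hv
      refine Subgroup.closure_induction (G := ↥K)
        (p := fun (v : ↥K) _ => v * v = 1 ∧ (v : G) * x = x * v ∧ (v : G) * z = z * v)
        ?_ ⟨one_mul 1, by simp, by simp⟩ ?_ ?_ hv
      · rintro v (rfl | rfl)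
        · exact ⟨Subtype.ext hxx, rfl, hcm⟩
        · exact ⟨Subtype.ext hzsq, hcm.symm, rfl⟩
      · rintro a b ha hb ⟨a1, a2, a3⟩ ⟨b1, b2, b3⟩
        have hab : a * b = b * a := by
          refine Subgroup.closure_induction (p := fun b _ => a * b = b * a) ?_ (by simp) ?_ ?_ hb
          · rintro v (rfl | rfl)
            exacts [Subtype.ext a2, Subtype.ext a3]
          · intro p q _ _ hp hq; rw [← mul_assoc, hp, mul_assoc, hq, mul_assoc]
          · intro p _ hp; exact (Commute.inv_right hp)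
        refine ⟨by rw [mul_assoc, ← mul_assoc b, ← hab, mul_assoc a b b, b1, mul_one, a1], ?_, ?_⟩
        · rw [Subgroup.coe_mul, mul_assoc, b2, ← mul_assoc, a2, mul_assoc]
        · rw [Subgroup.coe_mul, mul_assoc, b3, ← mul_assoc, a3, mul_assoc]
      · rintro a - ⟨a1, a2, a3⟩
        rw [inv_eq_of_mul_eq_one_right a1]
        exact ⟨a1, a2, a3⟩
    have hVp : IsPGroup 2 V := fun v => ⟨1, Subtype.ext (by
      rw [pow_one, pow_two, Subgroup.coe_mul, (hV v.1 v.2).1]; rfl)⟩
    obtain ⟨R, hR'⟩ := hVp.exists_le_sylow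
    haveI := hR R
    haveI := Fintype.ofFinite ↥(R : Subgroup ↥K)
    by_contra hne
    have hxR : (⟨x, hx⟩ : ↥K) ∈ (R : Subgroup ↥K) := hR' (hVdef ▸ Subgroup.subset_closure (Or.inl rfl))
    have hzR : (⟨z, hzK⟩ : ↥K) ∈ (R : Subgroup ↥K) := hR' (hVdef ▸ Subgroup.subset_closure (Or.inr rfl))
    have hle := IsCyclic.card_pow_eq_one_le (α := ↥(R : Subgroup ↥K)) (n := 2) (by norm_num)
    have hsub : ({1, ⟨_, hxR⟩, ⟨_, hzR⟩} : Finset ↥(R : Subgroup ↥K)) ⊆
        Finset.univ.filter fun a => a ^ 2 = 1 := by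
      intro a ha
      simp only [Finset.mem_insert, Finset.mem_singleton] at ha
      refine Finset.mem_filter.2 ⟨Finset.mem_univ _, ?_⟩
      rcases ha with rfl | rfl | rfl
      · exact one_pow 2
      · exact Subtype.ext (Subtype.ext (by simpa [pow_two] using hxx))
      · exact Subtype.ext (Subtype.ext (by simpa [pow_two] using hzsq))
    have hc3 : ({1, ⟨_, hxR⟩, ⟨_, hzR⟩} : Finset ↥(R : Subgroup ↥K)).card = 3 := by
      rw [Finset.card_eq_three]
      refine ⟨1, _, _, ?_, ?_, ?_, rfl⟩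
      · exact fun h => hx1 (congrArg (fun a : ↥(R : Subgroup ↥K) => ((a : ↥K) : G)) h).symm
      · exact fun h => hz1 (congrArg (fun a : ↥(R : Subgroup ↥K) => ((a : ↥K) : G)) h).symm
      · exact fun h => hne (congrArg (fun a : ↥(R : Subgroup ↥K) => ((a : ↥K) : G)) h)
    have := (Finset.card_le_card hsub).trans hle
    omega
  have hMN : ∀ g, g * z = z * g → g ∈ Subgroup.normalizer (L : Set G) := by
    intro g hg
    rw [hnorm]
    by_contra hgn
    have hodd := hKti g hgn
    have hmem : z ∈ K ⊓ K.map (MulAut.conj g).toMonoidHom :=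
      ⟨hzK, z, hzK, by simp [MulAut.conj_apply, hg]⟩
    have : orderOf (⟨z, hmem⟩ : ↥(K ⊓ K.map (MulAut.conj g).toMonoidHom)) = 2 := by
      rw [← Subgroup.orderOf_coe]; exact hz2
    have hd := orderOf_dvd_natCard (⟨z, hmem⟩ : ↥(K ⊓ K.map (MulAut.conj g).toMonoidHom))
    rw [this] at hd
    exact Nat.not_even_iff_odd.2 hodd (even_iff_two_dvd.2 hd)
  have hNM : ∀ g ∈ Subgroup.normalizer (L : Set G), g * z * g⁻¹ = z := by
    intro g hg
    have hin : g * z * g⁻¹ ∈ L := (Subgroup.mem_normalizer_iff.1 hg z).1 hzL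
    refine hzuniq _ ?_ (by rw [show g * z * g⁻¹ * (g * z * g⁻¹) = g * (z * z) * g⁻¹ by group, hzsq]; group)
      fun h => hz1 (by rwa [mul_inv_eq_one, mul_eq_left] at h)
    rw [hK, Subgroup.mem_centralizer_iff]
    intro x hx
    have hx' : g⁻¹ * x * g ∈ L := (Subgroup.mem_normalizer_iff''.1 hg x).1 hx
    have := Subgroup.mem_centralizer_iff.1 hzK _ hx'
    calc x * (g * z * g⁻¹) = g * ((g⁻¹ * x * g) * z) * g⁻¹ := by group
      _ = g * (z * (g⁻¹ * x * g)) * g⁻¹ := by rw [this]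
      _ = _ := by group
  have hG : C.Good := ⟨hzuniq, fun g hg => by
    have hn := hMN g hg
    let φ : MulAut ↥L :=
      { toFun := fun x => ⟨g * x * g⁻¹, (Subgroup.mem_normalizer_iff.1 hn x).1 x.2⟩
        invFun := fun x => ⟨g⁻¹ * x * g, (Subgroup.mem_normalizer_iff''.1 hn x).1 x.2⟩
        left_inv := fun x => Subtype.ext (by simp [mul_assoc])
        right_inv := fun x => Subtype.ext (by simp [mul_assoc])
        map_mul' := fun x y => Subtype.ext (by simp [mul_assoc]) }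
    obtain ⟨u, hu⟩ := aut_conj (e.symm.trans (φ.trans e))
    refine ⟨u, fun a ha => ?_⟩
    have h1 := hu ⟨a, ha⟩
    have h2 : C.emb (u * a * u⁻¹) = ((φ (e.symm ⟨a, ha⟩) : ↥L) : G) := by
      rw [Ctx.emb, dif_pos (Ctx.conj_mem ha)]
      refine congrArg Subtype.val (e.injective ?_)
      rw [e.apply_symm_apply]
      exact Subtype.ext h1.symm
    rw [h2, Ctx.emb, dif_pos ha]
    rfl⟩
  have hiso : Cfsg.IsIsolatedInvolution z := ⟨hz2, fun g hg => C.isolated hG hg.eq.symm⟩
  have hcommz : ∀ g, g * z = z * g := fun g =>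
    (ZStar.commute_of_commutatorsInCore hO (ZStar.commutatorsInCore_of_isolated hiso) g).eq.symm
  exact Subgroup.normalizer_eq_top_iff.1 (eq_top_iff.2 fun g _ => hMN g (hcommz g))

end CfsgLib.OEightStd
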