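import Cfsg.Agent.Lib.OEightStd.Elem
import Cfsg.Agent.Lib.OEightStd.Quarter

/-!
The shapes of the full elementary groups: the frame group, its even part, and the second even shape in
which every transposition of the eight places is induced by a reflection.
-/

set_option autoImplicit false
set_option maxRecDepth 100000
set_option linter.unusedSectionVars false

namespace CfsgLib.OEightStd

open Matrix CfsgLib.E8

theorem frame_two {k l : Fin 8} (hkl : k ≠ l) {x : Ix → ℤ} (hx : q x = 1)
    (h : act (sgn {k, l}) x = -x) : (x = a k ∨ x = -a k) ∨ (x = a l ∨ x = -a l) := by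
  have hz : ∀ m, m ≠ k → m ≠ l → bil (a m) x = 0 := by
    intro m hk hl
    have := act_bil (sgn {k, l}) (a m) x
    rw [h, act_sgn, if_neg (by simp [hk, hl]), bil_neg_right] at this
    linarith
  have hs := frame_sum x
  rw [Finset.sum_eq_add k l hkl (fun m _ hm => by rw [hz m hm.1 hm.2, zero_smul]) (by simp) (by simp)] at hs
  have hq := congrArg q hs
  rw [q_add, q_smul, q_smul, q_smul, bil_smul_right, bil_comm (bil (a k) x • a k), bil_smul_right,
    orth' l k (Ne.symm hkl), a_norm, a_norm, hx] at hq
  obtain ⟨l1, u1, e1, e1'⟩ := root_bounds (a_norm k) hx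
  obtain ⟨l2, u2, e2, e2'⟩ := root_bounds (a_norm l) hx
  rcases (show bil (a k) x = 2 ∨ bil (a k) x = -2 ∨ bil (a k) x = 1 ∨ bil (a k) x = -1 ∨ bil (a k) x = 0 by omega)
    with h1 | h1 | h1 | h1 | h1
  · exact Or.inl (Or.inl (e1 h1).symm)
  · exact Or.inl (Or.inr (by rw [e1' h1, neg_neg]))
  all_goals rcases (show bil (a l) x = 2 ∨ bil (a l) x = -2 ∨ bil (a l) x = 1 ∨ bil (a l) x = -1 ∨
      bil (a l) x = 0 by omega) with h2 | h2 | h2 | h2 | h2
  all_goals first
    | exact Or.inr (Or.inl (e2 h2).symm)
    | exact Or.inr (Or.inr (by rw [e2' h2, neg_neg]))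
    | (rw [h1, h2] at hq; norm_num at hq)

theorem symmDiff_pairs {i j k : Fin 8} (hij : i ≠ j) (hik : i ≠ k) (hjk : j ≠ k) :
    symmDiff ({i, j} : Finset (Fin 8)) {i, k} = {j, k} := by
  ext x
  simp only [Finset.mem_symmDiff, Finset.mem_insert, Finset.mem_singleton]
  grind

theorem symmDiff_singles {k l : Fin 8} (h : k ≠ l) :
    symmDiff ({k} : Finset (Fin 8)) {l} = {k, l} := by
  ext x
  simp only [Finset.mem_symmDiff, Finset.mem_insert, Finset.mem_singleton]
  grind

theorem symmDiff_split {T : Finset (Fin 8)} {a b : Fin 8} (ha : a ∈ T) (hb : b ∈ T) :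
    T = symmDiff (T \ {a, b}) {a, b} := by
  ext x
  simp only [Finset.mem_symmDiff, Finset.mem_sdiff, Finset.mem_insert, Finset.mem_singleton]
  grind

/-- the roots negated by a product of two orthogonal reflections -/
theorem anti_cases {u : W} (hu : u * u = 1) (ht : tr' u = 4) :
    ∃ (x y : Ix → ℤ) (hx : q x = 1) (hy : q y = 1), bil x y = 0 ∧ u = refl x hx * refl y hy ∧
      ∀ z, q z = 1 → act u z = -z → (z = x ∨ z = -x) ∨ (z = y ∨ z = -y) := by
  obtain ⟨g, T, e⟩ := exists_conj_sgn hu
  have hc : T.card = 2 := by
    have h := tr'_conj g u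
    rw [e, tr'_sgn, ht] at h
    have : (T.card : ℚ) = 2 := by linarith
    exact_mod_cast this
  obtain ⟨k, l, hkl, rfl⟩ := Finset.card_eq_two.1 hc
  refine ⟨act g⁻¹ (a k), act g⁻¹ (a l), by rw [act_q, a_norm], by rw [act_q, a_norm],
    by rw [act_bil, orth' k l hkl], ?_, fun z hz hzu => ?_⟩
  · rw [← refl_conj _ (a_norm k), ← refl_conj _ (a_norm l)]
    have hs : fr k * fr l = sgn {k, l} := by
      rw [← sgn_single, ← sgn_single, sgn_mul]
      congr 1
      ext j
      by_cases h0 : j = k
      · subst h0; simp [Finset.mem_symmDiff, hkl]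
      · by_cases hj : j = l <;> simp [Finset.mem_symmDiff, h0, hj, Ne.symm hkl]
    calc u = g⁻¹ * (g * u * g⁻¹) * g := by group
      _ = g⁻¹ * (fr k * fr l) * g := by rw [e, hs]
      _ = _ := by simp only [fr]; group
  · have h' : act (sgn {k, l}) (act g z) = -act g z := by
      rw [← e, act_mul, act_inv_act, act_mul, hzu, act_neg]
    have hback : ∀ w, (act g z = w ∨ act g z = -w) → (z = act g⁻¹ w ∨ z = -act g⁻¹ w) := by
      rintro w (h | h)
      · exact Or.inl (by rw [← h, act_inv_act])
      · exact Or.inr (by rw [← act_neg, ← h, act_inv_act])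
    exact (frame_two hkl (by rw [act_q, hz]) h').imp (hback _) (hback _)

/-- a full elementary group is conjugate to the frame group -/
theorem full_standard {U : Subgroup W} (hc : ∀ a ∈ U, ∀ b ∈ U, a * b = b * a) (h2 : ∀ a ∈ U, a * a = 1)
    (hcard : Nat.card U = 256) : ∃ g : W, ∀ u, u ∈ U ↔ ∃ T, g * u * g⁻¹ = sgn T := by
  classical
  obtain ⟨φ, hmem, hhom, htr⟩ := exists_label hc h2 (Or.inl hcard)
  have hne : ¬ Nat.card U = 128 := by omega
  have hm : ∀ T, φ T ∈ U := fun T => (hmem _).2 ⟨T, fun h => absurd h hne, rfl⟩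
  have hh : ∀ S T, φ (symmDiff S T) = φ S * φ T := fun S T => hhom S T (fun h => absurd h hne) (fun h => absurd h hne)
  have ht : ∀ T, tr' (φ T) = 8 - 2 * (T.card : ℚ) := fun T => htr T fun h => absurd h hne
  have h0 : φ ∅ = 1 := by
    have := hh ∅ ∅
    rw [symmDiff_self] at this
    exact left_eq_mul.1 this
  have hinj : ∀ S T, φ S = φ T → S = T := by
    intro S T h
    have h1 := ht (symmDiff S T)
    rw [hh, h, h2 _ (hm T), tr'_one] at h1
    have : (symmDiff S T).card = 0 := by
      have : ((symmDiff S T).card : ℚ) = 0 := by linarith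
      exact_mod_cast this
    rw [Finset.card_eq_zero] at this
    exact symmDiff_eq_bot.1 this
  choose x hx hxe using fun k : Fin 8 => refl_of_trace (h2 _ (hm {k})) (by rw [ht]; norm_num)
  have hxo : ∀ k l, k ≠ l → bil (x k) (x l) = 0 := by
    intro k l hkl
    have hcom := hc _ (hm {k}) _ (hm {l})
    rw [hxe, hxe] at hcom
    have := congrArg (fun g => act g (x l)) hcom
    simp only [act_mul, refl_apply_self, act_neg] at this
    rw [act_refl, act_refl] at this
    simp only [bil_sub_right, bil_smul_right, bil_self, hx] at this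
    by_contra hb
    have h' : bil (x k) (x l) • (x k + x k) = bil (x k) (x l) • (bil (x l) (x k) • x l) := by
      rw [← sub_eq_zero] at this ⊢
      rw [← this]
      module
    have h'' := smul_right_injective (Ix → ℤ) hb h'
    have hq := congrArg q h''
    rw [q_add, bil_self, hx, q_smul, hx, bil_comm] at hq
    obtain ⟨a1, a2, e1, e2⟩ := root_bounds (hx k) (hx l)
    rcases (show bil (x k) (x l) = 2 ∨ bil (x k) (x l) = -2 by
      rcases mul_self_eq_mul_self_iff.1 (show bil (x k) (x l) * bil (x k) (x l) = 2 * 2 by linarith) with h | h <;>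
        simp [h]) with hv | hv
    · exact hkl (Finset.singleton_injective (hinj _ _ (by rw [hxe, hxe]; exact refl_eq _ _ (Or.inl (e1 hv)))))
    · exact hkl (Finset.singleton_injective (hinj _ _ (by rw [hxe, hxe]; exact refl_eq _ _ (Or.inr (e2 hv)))))
  have hO : Orth (List.ofFn x) := ⟨fun v hv => by obtain ⟨k, rfl⟩ := List.mem_ofFn.1 hv; exact hx k,
    List.pairwise_ofFn.2 fun i j h => hxo i j (ne_of_lt h)⟩
  obtain ⟨g, hg⟩ := exists_frame hO
  choose s hs using fun k => hg (x k) (List.mem_ofFn.2 ⟨k, rfl⟩)
  have hconj : ∀ k, g * φ {k} * g⁻¹ = sgn {s k} := fun k => by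
    rw [hxe, refl_conj, sgn_single]; exact refl_eq _ _ (hs k)
  have hsi : Function.Injective s := fun k l e => Finset.singleton_injective (hinj _ _ (mul_left_cancel
    (mul_right_cancel ((hconj k).trans ((congrArg (fun m => sgn {m}) e).trans (hconj l).symm)))))
  have hall : ∀ T : Finset (Fin 8), g * φ T * g⁻¹ = sgn (T.image s) := by
    intro T
    induction T using Finset.induction with
    | empty => simp [h0, sgn_empty]
    | insert k T hk ih =>
      have e : insert k T = symmDiff {k} T := by
        ext j; by_cases hj : j = k <;> simp [Finset.mem_symmDiff, hj, hk]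
      have e' : (insert k T).image s = symmDiff {s k} (T.image s) := by
        rw [Finset.image_insert]
        have hk' : s k ∉ T.image s := fun hh' => by
          obtain ⟨l, hl, e⟩ := Finset.mem_image.1 hh'; exact hk (hsi e ▸ hl)
        ext j; by_cases hj : j = s k <;> simp [Finset.mem_symmDiff, hj, hk']
      rw [e', ← sgn_mul, e, hh, ← hconj, ← ih]; group
  refine ⟨g, fun u => ⟨fun hu => ?_, fun ⟨T, hT⟩ => ?_⟩⟩
  · obtain ⟨T, -, rfl⟩ := (hmem u).1 hu
    exact ⟨_, hall T⟩
  · obtain ⟨T', rfl⟩ : ∃ T' : Finset (Fin 8), T'.image s = T :=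
      ⟨T.preimage s hsi.injOn, Finset.image_preimage_of_bij s T (by
        simpa [Set.BijOn, Set.MapsTo, Set.InjOn, Set.SurjOn] using
          ⟨hsi.injOn, fun y hy => by
            obtain ⟨k, rfl⟩ := (Finite.injective_iff_surjective.1 hsi) y
            exact ⟨k, hy, rfl⟩⟩)⟩
    rw [← hall] at hT
    rw [mul_left_cancel (mul_right_cancel hT)]
    exact hm _

set_option maxHeartbeats 1600000 in
/-- the two shapes of even elementary groups -/
theorem even_shape {U : Subgroup W} (hc : ∀ a ∈ U, ∀ b ∈ U, a * b = b * a) (h2 : ∀ a ∈ U, a * a = 1)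
    (hcard : Nat.card U = 128) (hle : U ≤ Wp) :
    (∃ g : W, ∀ u, u ∈ U ↔ ∃ T : Finset (Fin 8), Even T.card ∧ g * u * g⁻¹ = sgn T) ∨
      ∃ φ : Finset (Fin 8) → W,
        (∀ u, u ∈ U ↔ ∃ T : Finset (Fin 8), Even T.card ∧ φ T = u) ∧
        (∀ S T : Finset (Fin 8), Even S.card → Even T.card → φ (symmDiff S T) = φ S * φ T) ∧
        (∀ T : Finset (Fin 8), Even T.card → tr' (φ T) = 8 - 2 * (T.card : ℚ)) ∧
        (∀ i j : Fin 8, i ≠ j → ∃ r : W, r * r = 1 ∧ parity r = -1 ∧
          ∀ T : Finset (Fin 8), Even T.card → r * φ T * r = φ (T.image (Equiv.swap i j))) := by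
  classical
  obtain ⟨φ, hmem, hhom, htr⟩ := exists_label hc h2 (Or.inr ⟨hcard, hle⟩)
  simp only [hcard, forall_const] at hmem hhom htr
  have hm : ∀ T : Finset (Fin 8), Even T.card → φ T ∈ U := fun T hT => (hmem _).2 ⟨T, hT, rfl⟩
  have hev : ∀ S T : Finset (Fin 8), Even S.card → Even T.card → Even (symmDiff S T).card := by
    intro S T hS hT
    have e : (symmDiff S T).card + 2 * (S ∩ T).card = S.card + T.card := by
      rw [← Finset.card_union_add_card_inter S T, show S ∪ T = symmDiff S T ∪ (S ∩ T) from
        (by ext x; simp [Finset.mem_symmDiff]; tauto),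
        Finset.card_union_of_disjoint (by rw [Finset.disjoint_left]; intro x; simp [Finset.mem_symmDiff]; tauto)]
      ring
    obtain ⟨a, ha⟩ := hS; obtain ⟨b, hb⟩ := hT
    exact ⟨a + b - (S ∩ T).card, by omega⟩
  have hinj : ∀ S T : Finset (Fin 8), Even S.card → Even T.card → φ S = φ T → S = T := by
    intro S T hS hT h
    have h1 := htr _ (hev S T hS hT)
    rw [hhom S T hS hT, h, h2 _ (hm T hT), tr'_one] at h1
    have : (symmDiff S T).card = 0 := by
      have : ((symmDiff S T).card : ℚ) = 0 := by linarith
      exact_mod_cast this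
    rw [Finset.card_eq_zero] at this
    exact symmDiff_eq_bot.1 this
  have h0 : φ ∅ = 1 := by
    have := hhom ∅ ∅ (by simp) (by simp)
    rw [symmDiff_self] at this
    exact left_eq_mul.1 this
  have hev2 : ∀ i j : Fin 8, i ≠ j → Even ({i, j} : Finset (Fin 8)).card := fun i j h => by
    rw [Finset.card_pair h]; exact even_two
  let π := fun i j : Fin 8 => φ {i, j}
  have hπ : ∀ i j, π i j = φ {i, j} := fun _ _ => rfl
  have hπs : ∀ i j, π j i = π i j := fun i j => by rw [hπ, hπ, Finset.pair_comm]
  have hπt : ∀ i j k, i ≠ j → i ≠ k → j ≠ k → π i j * π i k = π j k := by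
    intro i j k hij hik hjk
    rw [hπ, hπ, hπ, ← hhom _ _ (hev2 i j hij) (hev2 i k hik)]
    rw [symmDiff_pairs hij hik hjk]
  have hπne : ∀ i j k l, i ≠ j → k ≠ l → π i j = π k l → ({i, j} : Finset (Fin 8)) = {k, l} :=
    fun i j k l hij hkl h => hinj _ _ (hev2 _ _ hij) (hev2 _ _ hkl) h
  -- the roots negated by a pair
  choose! x y hx hy hxy hxye hanti using fun (i j : Fin 8) (h : i ≠ j) =>
    anti_cases (h2 _ (hm _ (hev2 i j h))) (show tr' (π i j) = 4 by
      rw [hπ, htr _ (hev2 i j h), Finset.card_pair h]; norm_num)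
  have hneg : ∀ i j, i ≠ j → act (π i j) (x i j) = -x i j ∧ act (π i j) (y i j) = -y i j := by
    intro i j h
    rw [show π i j = _ from hxye i j h, act_mul, act_mul,
      refl_apply_orth (y := x i j) (hy i j h) (by rw [bil_comm]; exact hxy i j h), refl_apply_self,
      refl_apply_self, act_neg, refl_apply_orth (hx i j h) (hxy i j h)]
    exact ⟨rfl, rfl⟩
  have hperm : ∀ i j (h : i ≠ j) (u : W), u ∈ U → ∀ z, q z = 1 → act (π i j) z = -z →
      (act u z = x i j ∨ act u z = -x i j) ∨ (act u z = y i j ∨ act u z = -y i j) := by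
    intro i j h u hu z hz e
    refine hanti i j h _ (by rw [act_q, hz]) ?_
    rw [← act_mul, hc _ (hm _ (hev2 i j h)) _ hu, act_mul, e, act_neg]
  by_cases hsh : ∃ i j k r, i ≠ j ∧ i ≠ k ∧ j ≠ k ∧ q r = 1 ∧ act (π i j) r = -r ∧ act (π i k) r = -r
  · left
    obtain ⟨i, j, k, r, hij, hik, hjk, hr, hrj, hrk⟩ := hsh
    -- a partner of the common root in each pair
    have hpart : ∀ a b, a ≠ b → act (π a b) r = -r → ∃ (c : Ix → ℤ) (hc' : q c = 1),
        bil r c = 0 ∧ π a b = refl r hr * refl c hc' ∧ act (π a b) c = -c ∧
        ∀ z, q z = 1 → act (π a b) z = -z → (z = r ∨ z = -r) ∨ (z = c ∨ z = -c) := by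
      intro a b hab hra
      rcases hanti a b hab r hr hra with e | e
      · refine ⟨y a b, hy a b hab, ?_, ?_, (hneg a b hab).2, fun z hz hz' => ?_⟩
        · rcases e with e | e <;> simp [e, bil_neg_left, hxy a b hab]
        · rw [show π a b = _ from hxye a b hab, refl_eq hr (hx a b hab) e]
        · refine (hanti a b hab z hz hz').imp_left fun e' => ?_
          rcases e with e | e <;> rcases e' with e' | e' <;> simp [e, e']
      · refine ⟨x a b, hx a b hab, ?_, ?_, (hneg a b hab).1, fun z hz hz' => ?_⟩
        · rcases e with e | e <;> simp [e, bil_neg_left, bil_comm (y a b), hxy a b hab]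
        · rw [show π a b = _ from hxye a b hab, refl_comm _ _ (hxy a b hab), refl_eq hr (hy a b hab) e]
        · rcases hanti a b hab z hz hz' with e' | e'
          · exact Or.inr e'
          · exact Or.inl (by rcases e with e | e <;> rcases e' with e' | e' <;> simp [e, e'])
    have hinv : ∀ a b, a ≠ b → ∀ z, act (π a b) (act (π a b) z) = z := fun a b h z => by
      rw [← act_mul, h2 _ (hm _ (hev2 a b h)), act_one]
    obtain ⟨b, hb, rb, be, hbn, banti⟩ := hpart i j hij hrj
    obtain ⟨c, hc', rc, ce, hcn, canti⟩ := hpart i k hik hrk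
    have hbc : ¬ (b = c ∨ b = -c) := by
      intro e
      have := hπne i j i k hij hik (by rw [be, ce, refl_eq hb hc' e])
      have hj : j ∈ ({i, k} : Finset (Fin 8)) := this ▸ by simp
      simp at hj
      exact hj.elim (Ne.symm hij) hjk
    have hall : ∀ l, i ≠ l → act (π i l) r = -r := by
      intro l hil
      by_cases hlj : l = j
      · subst hlj; exact hrj
      by_cases hlk : l = k
      · subst hlk; exact hrk
      have hz := hm _ (hev2 i l hil)
      have e1 := banti _ (by rw [act_q, hr]) (show act (π i j) (act (π i l) r) = -act (π i l) r by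
        rw [← act_mul, hc _ (hm _ (hev2 i j hij)) _ hz, act_mul, hrj, act_neg])
      have e2 := canti _ (by rw [act_q, hr]) (show act (π i k) (act (π i l) r) = -act (π i l) r by
        rw [← act_mul, hc _ (hm _ (hev2 i k hik)) _ hz, act_mul, hrk, act_neg])
      have er : act (π i l) r = r ∨ act (π i l) r = -r := by
        rcases e1 with e1 | e1
        · exact e1
        rcases e2 with e2 | e2
        · exact e2
        exact absurd (by
          rcases e1 with e1 | e1 <;> rcases e2 with e2 | e2 <;> rw [e1] at e2
          exacts [Or.inl e2, Or.inr e2, Or.inr (by rw [← e2, neg_neg]), Or.inl (neg_inj.1 e2)]) hbc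
      refine er.resolve_left fun hfix => ?_
      -- the partners would have to be negated
      have hstep : ∀ m (hm' : i ≠ m) (d : Ix → ℤ) (hd : q d = 1), m ≠ l → bil r d = 0 →
          π i m = refl r hr * refl d hd → act (π i m) d = -d →
          (∀ z, q z = 1 → act (π i m) z = -z → (z = r ∨ z = -r) ∨ (z = d ∨ z = -d)) →
          act (π i l) d = -d := by
        intro m him d hd hml hrd hde hdn hdanti
        have e3 := hdanti _ (by rw [act_q, hd]) (show act (π i m) (act (π i l) d) = -act (π i l) d by
          rw [← act_mul, hc _ (hm _ (hev2 i m him)) _ hz, act_mul, hdn, act_neg])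
        have hdr : ¬ (d = r ∨ d = -r) := by
          rintro (e | e) <;> rw [e] at hrd <;> simp [bil_neg_right, bil_self, hr] at hrd
        rcases e3 with e3 | e3
        · exact absurd (by
            have h' := congrArg (act (π i l)) (show act (π i l) d = _ from rfl)
            rcases e3 with e3 | e3
            · left; rw [← hinv i l hil d, e3, hfix]
            · right; rw [← hinv i l hil d, e3, act_neg, hfix]) hdr
        refine e3.resolve_left fun hdfix => ?_
        have hmem' : act (π m l) r = -r ∧ act (π m l) d = -d := by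
          rw [← hπt i m l him hil hml]
          constructor
          · rw [act_mul, hfix]
            rw [hde, act_mul, refl_apply_orth hd (by rw [bil_comm]; exact hrd), refl_apply_self]
          · rw [act_mul, hdfix, hdn]
        obtain ⟨d', hd', rd', de', -, danti'⟩ := hpart m l hml hmem'.1
        rcases danti' d hd hmem'.2 with e | e
        · exact hdr e
        · have := hπne m l i m hml him (by rw [de', hde, refl_eq hd hd' e])
          have hl : l ∈ ({i, m} : Finset (Fin 8)) := this ▸ by simp
          simp at hl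
          exact hl.elim (Ne.symm hil) (Ne.symm hml)
      have hb' := hstep j hij b hb (Ne.symm hlj) rb be hbn banti
      have hc2 := hstep k hik c hc' (Ne.symm hlk) rc ce hcn canti
      have hbrc : π i l = π j k := by
        rw [show π i l = _ from hxye i l hil, ← hπt i j k hij hik hjk, be, ce]
        have h1 := hanti i l hil b hb hb'
        have h2' := hanti i l hil c hc' hc2
        rw [show refl r hr * refl b hb * (refl r hr * refl c hc') = refl b hb * refl c hc' by
          rw [refl_comm hr hb rb, mul_assoc, ← mul_assoc (refl r hr), refl_sq, one_mul]]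
        rcases h1 with h1 | h1 <;> rcases h2' with h2' | h2'
        · exact absurd (by rcases h1 with h1 | h1 <;> rcases h2' with h2' | h2' <;> simp [h1, h2']) hbc
        · rw [refl_eq hb (hx i l hil) h1, refl_eq hc' (hy i l hil) h2']
        · rw [refl_eq hb (hy i l hil) h1, refl_eq hc' (hx i l hil) h2', refl_comm _ _ (hxy i l hil)]
        · exact absurd (by rcases h1 with h1 | h1 <;> rcases h2' with h2' | h2' <;> simp [h1, h2']) hbc
      have := hπne i l j k hil hjk hbrc
      have hi : i ∈ ({j, k} : Finset (Fin 8)) := this ▸ by simp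
      simp at hi
      exact hi.elim hij hik
    choose! d hd rd de hdn danti using fun l (h : i ≠ l) => hpart i l h (hall l h)
    let e : Fin 8 → (Ix → ℤ) := fun l => if l = i then r else d l
    have he : ∀ l, q (e l) = 1 := fun l => by
      by_cases h : l = i
      · simp [e, h, hr]
      · simp [e, h, hd l (Ne.symm h)]
    have heo : ∀ l m, l ≠ m → bil (e l) (e m) = 0 := by
      intro l m hlm
      by_cases hl : l = i
      · subst hl; simp [e, Ne.symm hlm, rd m hlm]
      by_cases hm' : m = i
      · subst hm'; simp [e, hl]; rw [bil_comm]; exact rd l (Ne.symm hl)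
      have hli := Ne.symm hl
      have hmi := Ne.symm hm'
      have hu := hm _ (hev2 i m hmi)
      have e3 := danti l hli _ (by rw [act_q, hd l hli]) (show act (π i l) (act (π i m) (d l)) = -act (π i m) (d l) by
        rw [← act_mul, hc _ (hm _ (hev2 i l hli)) _ hu, act_mul, hdn l hli, act_neg])
      have hdr : ¬ (d l = r ∨ d l = -r) := by
        have := rd l hli
        rintro (e | e) <;> rw [e] at this <;> simp [bil_neg_right, bil_self, hr] at this
      have hfixd : act (π i m) (d l) = d l := by
        rcases e3 with e3 | e3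
        · exact absurd (by
            rcases e3 with e3 | e3
            · right; rw [← hinv i m hmi (d l), e3, hall m hmi]
            · left; rw [← hinv i m hmi (d l), e3, act_neg, hall m hmi, neg_neg]) hdr
        refine e3.resolve_right fun hneg' => ?_
        rcases danti m hmi _ (hd l hli) hneg' with e | e
        · exact hdr e
        · have := hπne i l i m hli hmi (by rw [de l hli, de m hmi, refl_eq (hd l hli) (hd m hmi) e])
          have hl' : l ∈ ({i, m} : Finset (Fin 8)) := this ▸ by simp
          simp at hl'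
          exact hl'.elim hl hlm
      have := act_bil (π i m) (d l) (d m)
      rw [hfixd, hdn m hmi, bil_neg_right] at this
      simp [e, hl, hm']
      linarith
    obtain ⟨g, hg⟩ := exists_frame (l := List.ofFn e) ⟨fun v hv => by
      obtain ⟨l, rfl⟩ := List.mem_ofFn.1 hv; exact he l,
      List.pairwise_ofFn.2 fun a b h => heo a b (ne_of_lt h)⟩
    choose s hs using fun l => hg (e l) (List.mem_ofFn.2 ⟨l, rfl⟩)
    have hsi : Function.Injective s := by
      intro l m h
      by_contra hlm
      have h0 := heo l m hlm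
      rw [← act_bil g] at h0
      rcases hs l with a1 | a1 <;> rcases hs m with a2 | a2 <;>
        rw [a1, a2, h] at h0 <;> simp [bil_neg_left, bil_neg_right, bil_self, a_norm, q_neg] at h0
    have hpair : ∀ l, i ≠ l → g * π i l * g⁻¹ = sgn (({i, l} : Finset (Fin 8)).image s) := by
      intro l hl
      have hr' : act g r = a (s i) ∨ act g r = -a (s i) := by simpa [e] using hs i
      have hl' : act g (d l) = a (s l) ∨ act g (d l) = -a (s l) := by simpa [e, Ne.symm hl] using hs l
      rw [de l hl, show g * (refl r hr * refl (d l) (hd l hl)) * g⁻¹ =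
          g * refl r hr * g⁻¹ * (g * refl (d l) (hd l hl) * g⁻¹) by group, refl_conj, refl_conj,
        refl_eq _ (a_norm _) hr', refl_eq _ (a_norm _) hl']
      show fr (s i) * fr (s l) = _
      rw [← sgn_single, ← sgn_single, sgn_mul, Finset.image_insert, Finset.image_singleton]
      rw [symmDiff_singles fun h => hl (hsi h)]
    have himg : ∀ n, ∀ T : Finset (Fin 8), T.card = n → Even n → g * φ T * g⁻¹ = sgn (T.image s) := by
      intro n
      induction n using Nat.strong_induction_on with
      | _ n ih =>
        intro T hTn hn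
        rcases Nat.eq_zero_or_pos n with h' | h'
        · subst h'
          rw [Finset.card_eq_zero.1 hTn, h0, Finset.image_empty, sgn_empty]; group
        obtain ⟨a', ha', b', hb', hab⟩ := Finset.one_lt_card.1 (show 1 < T.card by obtain ⟨m, hm⟩ := hn; omega)
        have hsub : {a', b'} ⊆ T := by intro x hx; simp at hx; rcases hx with rfl | rfl <;> assumption
        have hc2 : (T \ {a', b'}).card = n - 2 := by
          rw [Finset.card_sdiff_of_subset hsub, Finset.card_pair hab, hTn]
        have hev' : Even (n - 2) := by obtain ⟨m, hm⟩ := hn; exact ⟨m - 1, by omega⟩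
        have eT : T = symmDiff (T \ {a', b'}) {a', b'} := symmDiff_split ha' hb'
        have hp : g * φ {a', b'} * g⁻¹ = sgn (({a', b'} : Finset (Fin 8)).image s) := by
          by_cases hai : i = a'
          · subst hai; exact hpair b' hab
          by_cases hbi : i = b'
          · subst hbi; rw [Finset.pair_comm a']; exact hpair a' (Ne.symm hab)
          rw [show φ {a', b'} = π i a' * π i b' from (hπt i a' b' hai hbi hab).symm,
            show g * (π i a' * π i b') * g⁻¹ = g * π i a' * g⁻¹ * (g * π i b' * g⁻¹) by group,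
            hpair a' hai, hpair b' hbi, sgn_mul, ← Finset.image_symmDiff _ _ hsi]
          rw [symmDiff_pairs hai hbi hab]
        conv_lhs => rw [eT, hhom _ _ (hc2.symm ▸ hev') (hev2 _ _ hab)]
        rw [show g * (φ (T \ {a', b'}) * φ {a', b'}) * g⁻¹ =
            g * φ (T \ {a', b'}) * g⁻¹ * (g * φ {a', b'} * g⁻¹) by group,
          ih (n - 2) (by omega) _ hc2 hev', hp, sgn_mul, ← Finset.image_symmDiff _ _ hsi, ← eT]
    refine ⟨g, fun u => ⟨fun hu => ?_, fun ⟨T, hT, e'⟩ => ?_⟩⟩
    · obtain ⟨T, hT, rfl⟩ := (hmem u).1 hu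
      exact ⟨_, by rwa [Finset.card_image_of_injective _ hsi], himg _ T rfl hT⟩
    · let σ : Fin 8 ≃ Fin 8 := Equiv.ofBijective s ⟨hsi, Finite.injective_iff_surjective.1 hsi⟩
      have eT : (T.image σ.symm).image s = T := by
        rw [Finset.image_image, show s ∘ σ.symm = id from funext fun v => σ.apply_symm_apply v, Finset.image_id]
      have hT' : Even (T.image σ.symm).card := by rwa [Finset.card_image_of_injective _ σ.symm.injective]
      rw [← eT, ← himg _ _ rfl hT'] at e'
      rw [mul_left_cancel (mul_right_cancel e')]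
      exact hm _ hT'
  · right
    push Not at hsh
    refine ⟨φ, hmem, hhom, htr, fun i j hij => ?_⟩
    have hra := hx i j hij
    set r := refl (x i j) hra with hrdef
    refine ⟨r, refl_sq hra, parity_refl hra, ?_⟩
    have hconjr : ∀ u : W, r * u * r = r * refl (act u (x i j)) (by rw [act_q, hra]) * u := by
      intro u
      rw [← refl_conj u hra, hrdef]; group
    have hswap : ∀ k, i ≠ k → j ≠ k →
        (act (π i k) (x i j) = y i j ∨ act (π i k) (x i j) = -y i j) := by
      intro k hik hjk
      have hu := hm _ (hev2 i k hik)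
      refine (hperm i j hij _ hu _ hra (hneg i j hij).1).resolve_left fun hfix => ?_
      have nx : act (π i k) (x i j) ≠ -x i j :=
        hsh i j k (x i j) hij hik hjk hra (hneg i j hij).1
      have fx := hfix.resolve_right nx
      have ny := hperm i j hij _ hu _ (hy i j hij) (hneg i j hij).2
      have hd : ¬ (y i j = x i j ∨ y i j = -x i j) := by
        have := hxy i j hij
        rintro (e | e) <;> rw [e] at this <;> simp [bil_neg_right, bil_self, hra] at this
      have hinv : ∀ z, act (π i k) (act (π i k) z) = z := fun z => by rw [← act_mul, h2 _ hu, act_one]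
      rcases ny with ny | ny
      · exact hd (by
          rcases ny with e | e
          · left; rw [← hinv (y i j), e, fx]
          · right; rw [← hinv (y i j), e, act_neg, fx])
      have fy := ny.resolve_right (hsh i j k (y i j) hij hik hjk (hy i j hij) (hneg i j hij).2)
      have m1 : act (π j k) (x i j) = -x i j := by
        rw [← hπt i j k hij hik hjk, act_mul, fx, (hneg i j hij).1]
      exact hsh j i k (x i j) (Ne.symm hij) hjk hik hra (by rw [hπs]; exact (hneg i j hij).1) m1
    have hcase1 : ∀ k, i ≠ k → j ≠ k → r * π i k * r = π j k := by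
      intro k hik hjk
      rw [hconjr, refl_eq _ (hy i j hij) (hswap k hik hjk), ← hπt i j k hij hik hjk,
        show π i j = _ from hxye i j hij]
    have hcase2 : ∀ k, i ≠ k → j ≠ k → r * π j k * r = π i k := by
      intro k hik hjk
      rw [← hcase1 k hik hjk, show r * (r * π i k * r) * r = r * r * π i k * (r * r) by group, refl_sq, one_mul,
        mul_one]
    have hcase3 : r * π i j * r = π i j := by
      rw [hconjr, refl_eq _ hra (Or.inr (hneg i j hij).1), refl_sq, one_mul]
    have hcase4 : ∀ k l, k ≠ l → k ≠ i → k ≠ j → l ≠ i → l ≠ j → r * π k l * r = π k l := by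
      intro k l hkl hki hkj hli hlj
      have hy' : act (π i k) (y i j) = x i j ∨ act (π i k) (y i j) = -x i j := by
        have hinv : ∀ z, act (π i k) (act (π i k) z) = z := fun z => by
          rw [← act_mul, h2 _ (hm _ (hev2 i k (Ne.symm hki))), act_one]
        rcases hswap k (Ne.symm hki) (Ne.symm hkj) with e | e
        · left; rw [← e, hinv]
        · right; rw [show y i j = -act (π i k) (x i j) by rw [e, neg_neg], act_neg, hinv]
      have hfix : act (π k l) (x i j) = x i j ∨ act (π k l) (x i j) = -x i j := by
        rw [← hπt i k l (Ne.symm hki) (Ne.symm hli) hkl, act_mul]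
        rcases hswap l (Ne.symm hli) (Ne.symm hlj) with e | e <;> rw [e]
        · exact hy'
        · rw [act_neg]; rcases hy' with e' | e' <;> rw [e'] <;> simp
      rw [hconjr, refl_eq _ hra hfix, refl_sq, one_mul]
    have hpair : ∀ k l, k ≠ l → r * π k l * r = π (Equiv.swap i j k) (Equiv.swap i j l) := by
      intro k l hkl
      by_cases hki : k = i
      · subst hki
        rw [Equiv.swap_apply_left]
        by_cases hlj : l = j
        · subst hlj; rw [Equiv.swap_apply_right, hcase3, hπs]
        · rw [Equiv.swap_apply_of_ne_of_ne (Ne.symm hkl) hlj, hcase1 l hkl (Ne.symm hlj)]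
      by_cases hkj : k = j
      · subst hkj
        rw [Equiv.swap_apply_right]
        by_cases hli : l = i
        · subst hli; rw [Equiv.swap_apply_left, hπs, hcase3]
        · rw [Equiv.swap_apply_of_ne_of_ne hli (Ne.symm hkl), hcase2 l (Ne.symm hli) hkl]
      rw [Equiv.swap_apply_of_ne_of_ne hki hkj]
      by_cases hli : l = i
      · subst hli; rw [Equiv.swap_apply_left, hπs, hcase1 k (Ne.symm hki) (Ne.symm hkj), hπs]
      by_cases hlj : l = j
      · subst hlj; rw [Equiv.swap_apply_right, hπs, hcase2 k (Ne.symm hki) (Ne.symm hkj), hπs]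
      rw [Equiv.swap_apply_of_ne_of_ne hli hlj, hcase4 k l hkl hki hkj hli hlj]
    suffices ∀ n, ∀ T : Finset (Fin 8), T.card = n → Even n → r * φ T * r = φ (T.image (Equiv.swap i j)) from
      fun T hT => this _ T rfl hT
    intro n
    induction n using Nat.strong_induction_on with
    | _ n ih =>
      intro T hTn hn
      rcases Nat.eq_zero_or_pos n with h' | h'
      · subst h'
        rw [Finset.card_eq_zero.1 hTn, h0, Finset.image_empty, h0, mul_one, refl_sq]
      obtain ⟨a', ha', b', hb', hab⟩ := Finset.one_lt_card.1 (show 1 < T.card by obtain ⟨m, hm⟩ := hn; omega)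
      have hsub : {a', b'} ⊆ T := by intro x hx; simp at hx; rcases hx with rfl | rfl <;> assumption
      have hc2 : (T \ {a', b'}).card = n - 2 := by
        rw [Finset.card_sdiff_of_subset hsub, Finset.card_pair hab, hTn]
      have hev' : Even (n - 2) := by obtain ⟨m, hm⟩ := hn; exact ⟨m - 1, by omega⟩
      have eT : T = symmDiff (T \ {a', b'}) {a', b'} := symmDiff_split ha' hb'
      have hsw := (Equiv.swap i j).injective
      conv_lhs => rw [eT, hhom _ _ (hc2.symm ▸ hev') (hev2 _ _ hab)]
      conv_rhs => rw [eT, Finset.image_symmDiff _ _ hsw, hhom _ _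
        (by rw [Finset.card_image_of_injective _ hsw, hc2]; exact hev')
        (by rw [Finset.card_image_of_injective _ hsw]; exact hev2 _ _ hab)]
      rw [show r * (φ (T \ {a', b'}) * φ {a', b'}) * r =
          r * φ (T \ {a', b'}) * (r * r) * φ {a', b'} * r by rw [refl_sq]; group,
        show r * φ (T \ {a', b'}) * (r * r) * φ {a', b'} * r =
          r * φ (T \ {a', b'}) * r * (r * φ {a', b'} * r) by group,
        ih (n - 2) (by omega) _ hc2 hev', show φ {a', b'} = π a' b' from rfl, hpair a' b' hab,
        Finset.image_insert, Finset.image_singleton]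

end CfsgLib.OEightStd
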