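import Cfsg.Agent.Lib.OEightStd.KillsCls
import Cfsg.Agent.Lib.OEightStd.Group
import Cfsg.Agent.Lib.OEightStd.Shapes

/-!
Monomial isometries: exactly the permutations of the frame preserving the code are induced.
-/

set_option autoImplicit false
set_option maxRecDepth 100000
set_option linter.unusedSectionVars false

namespace CfsgLib.OEightStd

open Matrix CfsgLib.E8
open Kills (isAuto pm pl inCode unit xr pm_bit pm_unit isAuto_inj isAuto_code lmap_xr)

/-- some permutations of places with transvection words -/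
def monoTab : List (ℕ × List ℕ) :=
  [(16434824, []),
   (14570689, [77, 23, 79, 21]),
   (11788826, [214, 23, 212, 21]),
   (9924691, [136, 19, 138, 17]),
   (6852524, [70, 19, 68, 17]),
   (4988389, [61, 50, 92, 83]),
   (2206526, [143, 27, 141, 25]),
   (342391, [221, 19, 223, 17]),
   (16434824, []),
   (16205392, [136, 19]),
   (12305048, [218, 27]),
   (5937120, [61, 50]),
   (15255464, [70, 19]),
   (15026032, [221, 19]),
   (3787448, [143, 27]),
   (16434824, []),
   (16405704, [69, 31]),
   (16362248, [139, 31]),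
   (16333128, [209, 31]),
   (6999944, [100, 49]),
   (5164488, [62, 49]),
   (16434824, []),
   (14571144, [77, 23]),
   (11789960, [214, 23]),
   (9926280, [140, 23])]

/-- one entry is correct -/
def monoOK (e : ℕ × List ℕ) : Bool :=
  isAuto (pl e.1) && (e.2.all fun v => qb v && decide (v < 256)) &&
    (List.finRange 8).all fun k => app e.2 (fb k) == fb (pl e.1 k) && pl e.1 (pl e.1 k) == k

theorem monoTab_ok : monoTab.all monoOK = true := by decide +kernel

theorem peel0 : ∀ j : Fin 8, monoTab.any (fun e => pl e.1 j == 0) = true := by decide +kernel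
theorem peel1 : ∀ j : Fin 8, j ≠ 0 → monoTab.any (fun e => pl e.1 0 == 0 && pl e.1 j == 1) = true := by decide +kernel
theorem peel2 : ∀ j : Fin 8, j ≠ 0 → j ≠ 1 →
    monoTab.any (fun e => pl e.1 0 == 0 && pl e.1 1 == 1 && pl e.1 j == 2) = true := by decide +kernel
theorem peel3 : ∀ j : Fin 8, j ≠ 0 → j ≠ 1 → j ≠ 2 → j ≠ 3 →
    monoTab.any (fun e => pl e.1 0 == 0 && pl e.1 1 == 1 && pl e.1 2 == 2 && pl e.1 3 == 3 && pl e.1 j == 4) = true := by
  decide +kernel

theorem code_force : inCode (xr (unit 0) (xr (unit 1) (xr (unit 2) (unit 3)))) = true ∧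
    inCode (xr (unit 0) (xr (unit 1) (xr (unit 4) (unit 5)))) = true ∧
    inCode (xr (unit 0) (xr (unit 2) (xr (unit 4) (unit 6)))) = true ∧
    inCode (xr (unit 1) (xr (unit 2) (xr (unit 4) (unit 7)))) = true := by decide +kernel

theorem forced : ∀ j : Fin 8, (inCode (xr (unit 0) (xr (unit 1) (xr (unit 2) (unit j)))) = true → j = 3) ∧
    (inCode (xr (unit 0) (xr (unit 1) (xr (unit 4) (unit j)))) = true → j = 5) ∧
    (inCode (xr (unit 0) (xr (unit 2) (xr (unit 4) (unit j)))) = true → j = 6) ∧
    (inCode (xr (unit 1) (xr (unit 2) (xr (unit 4) (unit j)))) = true → j = 7) := by decide +kernel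

theorem pm_four {p : Fin 8 → Fin 8} (a b c d : Fin 8) :
    pm p (xr (unit a) (xr (unit b) (xr (unit c) (unit d)))) =
      xr (unit (p a)) (xr (unit (p b)) (xr (unit (p c)) (unit (p d)))) := by
  simp only [← pm_unit p, pm, lmap_xr]

theorem auto_three {p : Fin 8 → Fin 8} (hp : isAuto p = true) (h0 : p 0 = 0) (h1 : p 1 = 1) (h2 : p 2 = 2) :
    p 3 = 3 := by
  refine (forced (p 3)).1 ?_
  have h := code_force.1
  rw [← isAuto_code hp, pm_four, h0, h1, h2] at h
  exact h

theorem auto_id {p : Fin 8 → Fin 8} (hp : isAuto p = true) (h0 : p 0 = 0) (h1 : p 1 = 1) (h2 : p 2 = 2)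
    (h4 : p 4 = 4) : p = id := by
  have h3 := auto_three hp h0 h1 h2
  have h := code_force.2.1
  rw [← isAuto_code hp, pm_four, h0, h1, h4] at h
  have h5 := (forced (p 5)).2.1 h
  have h := code_force.2.2.1
  rw [← isAuto_code hp, pm_four, h0, h2, h4] at h
  have h6 := (forced (p 6)).2.2.1 h
  have h := code_force.2.2.2
  rw [← isAuto_code hp, pm_four, h1, h2, h4] at h
  have h7 := (forced (p 7)).2.2.2 h
  funext i
  fin_cases i <;> assumption

theorem pm_comp {p r : Fin 8 → Fin 8} (hp : Function.Injective p) (hr : Function.Injective r) (x : Fin 256) :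
    pm (fun i => r (p i)) x = pm r (pm p x) := by
  apply Fin.ext
  apply Nat.eq_of_testBit_eq
  intro j
  rcases lt_or_ge j 8 with hj | hj
  · obtain ⟨i, hi⟩ := (Finite.injective_iff_surjective.1 (hr.comp hp)) ⟨j, hj⟩
    have hi' : r (p i) = ⟨j, hj⟩ := hi
    have e1 := pm_bit (p := fun i => r (p i)) (hr.comp hp) x i
    have e2 := pm_bit hr (pm p x) (p i)
    rw [pm_bit hp] at e2
    simp only [hi'] at e1 e2
    rw [e1, e2]
  · rw [Nat.testBit_eq_false_of_lt (lt_of_lt_of_le (pm (fun i => r (p i)) x).2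
        (Nat.pow_le_pow_right (by norm_num) hj : 2 ^ 8 ≤ 2 ^ j)),
      Nat.testBit_eq_false_of_lt (lt_of_lt_of_le (pm r (pm p x)).2
        (Nat.pow_le_pow_right (by norm_num) hj : 2 ^ 8 ≤ 2 ^ j))]

theorem isAuto_comp {p r : Fin 8 → Fin 8} (hp : isAuto p = true) (hr : isAuto r = true) :
    isAuto (fun i => r (p i)) = true := by
  simp only [isAuto, Bool.and_eq_true, List.all_eq_true, List.mem_finRange, Bool.or_eq_true, Bool.not_eq_true',
    forall_const, decide_eq_true_eq]
  refine ⟨fun x => ?_, List.Nodup.map ((isAuto_inj hr).comp (isAuto_inj hp)) (List.nodup_finRange 8)⟩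
  rw [pm_comp (isAuto_inj hp) (isAuto_inj hr), isAuto_code hr, isAuto_code hp]
  cases inCode x <;> simp

/-- the permutation is induced by an isometry -/
def Real (p : Fin 8 → Fin 8) : Prop := ∃ n : W, ∀ k, act n (a k) = a (p k) ∨ act n (a k) = -a (p k)

theorem tab_entry {e : ℕ × List ℕ} (he : e ∈ monoTab) :
    isAuto (pl e.1) = true ∧ Real (pl e.1) ∧ ∀ k, pl e.1 (pl e.1 k) = k := by
  have h := List.all_eq_true.1 monoTab_ok e he
  simp only [monoOK, Bool.and_eq_true, List.all_eq_true, List.mem_finRange, beq_iff_eq, decide_eq_true_eq,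
    forall_const] at h
  obtain ⟨⟨h1, h2⟩, h3⟩ := h
  obtain ⟨n, hn⟩ := exists_lift e.2 h2
  refine ⟨h1, ⟨n, fun k => eq_frame_of_bv (by rw [act_q, a_norm]) ?_⟩, fun k => (h3 k).2⟩
  rw [hn, bv_a, (h3 k).1]

theorem Real.step {p r : Fin 8 → Fin 8} (hr : Real r) (hrr : ∀ k, r (r k) = k) (h : Real fun i => r (p i)) :
    Real p := by
  obtain ⟨m, hm⟩ := hr
  obtain ⟨n, hn⟩ := h
  refine ⟨m * n, fun k => ?_⟩
  have e := hm (r (p k))
  rw [hrr] at e
  rw [act_mul]
  rcases hn k with h | h <;> rw [h] <;> simp only [act_neg] <;> rcases e with e | e <;> rw [e] <;> simp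

/-- every automorphism of the code is induced -/
theorem real_of_auto {p : Fin 8 → Fin 8} (hp : isAuto p = true) : Real p := by
  have pick : ∀ {f : ℕ × List ℕ → Bool}, monoTab.any f = true → ∃ e ∈ monoTab, f e = true :=
    fun h => List.any_eq_true.1 h
  obtain ⟨e, he, h⟩ := pick (peel0 (p 0))
  obtain ⟨a1, r1, i1⟩ := tab_entry he
  refine r1.step i1 ?_
  have hp1 := isAuto_comp hp a1
  have q0 : pl e.1 (p 0) = 0 := beq_iff_eq.1 h
  set p1 := fun i => pl e.1 (p i)
  have i1' := isAuto_inj hp1
  obtain ⟨e', he', h'⟩ := pick (peel1 (p1 1) fun c => absurd (i1' (c.trans q0.symm)) (by decide))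
  simp only [Bool.and_eq_true, beq_iff_eq] at h'
  obtain ⟨a2, r2, i2⟩ := tab_entry he'
  refine r2.step i2 ?_
  have hp2 := isAuto_comp hp1 a2
  have u0 : (fun i => pl e'.1 (p1 i)) 0 = 0 := by show pl e'.1 (p1 0) = 0; rw [show p1 0 = 0 from q0, h'.1]
  set p2 := fun i => pl e'.1 (p1 i)
  have i2' := isAuto_inj hp2
  have u1 : p2 1 = 1 := h'.2
  obtain ⟨e'', he'', h''⟩ := pick (peel2 (p2 2) (fun c => absurd (i2' (c.trans u0.symm)) (by decide))
    fun c => absurd (i2' (c.trans u1.symm)) (by decide))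
  simp only [Bool.and_eq_true, beq_iff_eq] at h''
  obtain ⟨a3, r3, i3⟩ := tab_entry he''
  refine r3.step i3 ?_
  have hp3 := isAuto_comp hp2 a3
  set p3 := fun i => pl e''.1 (p2 i)
  have i3' := isAuto_inj hp3
  have v0 : p3 0 = 0 := by show pl e''.1 (p2 0) = 0; rw [u0, h''.1.1]
  have v1 : p3 1 = 1 := by show pl e''.1 (p2 1) = 1; rw [u1, h''.1.2]
  have v2 : p3 2 = 2 := h''.2
  have v3 := auto_three hp3 v0 v1 v2
  obtain ⟨f, hf, g⟩ := pick (peel3 (p3 4) (fun c => absurd (i3' (c.trans v0.symm)) (by decide))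
    (fun c => absurd (i3' (c.trans v1.symm)) (by decide)) (fun c => absurd (i3' (c.trans v2.symm)) (by decide))
    fun c => absurd (i3' (c.trans v3.symm)) (by decide))
  simp only [Bool.and_eq_true, beq_iff_eq] at g
  obtain ⟨a4, r4, i4⟩ := tab_entry hf
  refine r4.step i4 ?_
  have hid := auto_id (isAuto_comp hp3 a4) (by show pl f.1 (p3 0) = 0; rw [v0, g.1.1.1.1])
    (by show pl f.1 (p3 1) = 1; rw [v1, g.1.1.1.2]) (by show pl f.1 (p3 2) = 2; rw [v2, g.1.1.2]) g.2
  rw [hid]
  exact ⟨1, fun k => Or.inl (by rw [act_one]; rfl)⟩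

/-- the reduction of the sum of the frame vectors over a word -/
def codeSum (f : Fin 8 → ℕ) (c : Fin 256) : ℕ :=
  (List.finRange 8).foldr (fun k acc => if c.1.testBit k.1 then f k ^^^ acc else acc) 0

theorem codeSum_xr (f : Fin 8 → ℕ) (x y : Fin 256) : codeSum f (xr x y) = codeSum f x ^^^ codeSum f y := by
  unfold codeSum
  induction List.finRange 8 with
  | nil => simp
  | cons k L ih =>
    simp only [List.foldr_cons, Kills.val_xr, Nat.testBit_xor] at ih ⊢
    rw [ih]
    cases x.1.testBit k.1 <;> cases y.1.testBit k.1 <;> simp [Nat.xor_assoc]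
    · rw [Nat.xor_left_comm]
    · rw [Nat.xor_left_comm, ← Nat.xor_assoc (f k) (f k), Nat.xor_self, Nat.zero_xor]

theorem codeSum_zero : ∀ c : Fin 256, inCode c = true ↔ codeSum fb c = 0 := by decide +kernel

theorem expand_word : ∀ c : Fin 256,
    c = (List.finRange 8).foldr (fun i a => if c.1.testBit i.1 then xr (unit i) a else a) 0 := by
  decide +kernel

theorem lin_codeSum {F : Fin 256 → ℕ} (h : ∀ x y, F (xr x y) = F x ^^^ F y) (c : Fin 256) :
    F c = codeSum (fun i => F (unit i)) c := by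
  have h0 : F 0 = 0 := by
    have := h 0 0
    rwa [Kills.xr_self, Nat.xor_self] at this
  conv_lhs => rw [expand_word c]
  unfold codeSum
  induction List.finRange 8 with
  | nil => exact h0
  | cons k L ih =>
    simp only [List.foldr_cons]
    split_ifs
    · rw [h, ih]
    · exact ih

theorem codeSum_unit : ∀ i, codeSum fb (unit i) = fb i := by decide +kernel

theorem codeSum_pm (p : Fin 8 → Fin 8) (c : Fin 256) : codeSum fb (pm p c) = codeSum (fun k => fb (p k)) c := by
  rw [lin_codeSum (F := fun c => codeSum fb (pm p c)) (fun x y => by simp only [pm, lmap_xr, codeSum_xr]) c]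
  simp only [pm_unit, codeSum_unit]

/-- the sum of vectors over a word -/
def vecSum (f : Fin 8 → Ix → ℤ) (c : Fin 256) : Ix → ℤ :=
  (List.finRange 8).foldr (fun k acc => if c.1.testBit k.1 then f k + acc else acc) 0

theorem bv_vecSum (f : Fin 8 → Ix → ℤ) (c : Fin 256) : bv (vecSum f c) = codeSum (fun k => bv (f k)) c := by
  unfold vecSum codeSum
  induction List.finRange 8 with
  | nil =>
    simp only [List.foldr_nil]
    refine Nat.eq_of_testBit_eq fun j => ?_
    by_cases hj : j < 8
    · exact (testBit_bv 0 ⟨j, hj⟩).trans (by simp [odd])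
    · exact (Nat.testBit_ofBits_ge _ _ (by omega)).trans (by simp)
  | cons k L ih =>
    simp only [List.foldr_cons]
    split_ifs
    · rw [bv_add, ih]
    · exact ih

theorem act_vecSum (u : W) (f : Fin 8 → Ix → ℤ) (c : Fin 256) :
    act u (vecSum f c) = vecSum (fun k => act u (f k)) c := by
  unfold vecSum
  induction List.finRange 8 with
  | nil => exact mulVec_zero _
  | cons k L ih =>
    simp only [List.foldr_cons]
    split_ifs
    · rw [act_add, ih]
    · exact ih

theorem bv_act_zero (u : W) {x : Ix → ℤ} (h : bv x = 0) : bv (act u x) = 0 := by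
  have hd : ∀ i : Ix, (2 : ℤ) ∣ x i := by
    intro i
    obtain ⟨k, rfl⟩ : ∃ k, pos k = i := by revert i; decide
    have := testBit_bv x k
    rw [h, Nat.zero_testBit] at this
    have h' := this.symm
    simp only [odd, decide_eq_false_iff_not] at h'
    omega
  choose y hy using hd
  have e : x = (2 : ℤ) • y := funext fun i => by simp [hy i]
  rw [e, act_smul, bv_smul]
  rfl

/-- a monomial isometry induces an automorphism of the code -/
theorem auto_of_mono {u : W} {p : Fin 8 → Fin 8} (hp : Function.Injective p)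
    (h : ∀ k, act u (a k) = a (p k) ∨ act u (a k) = -a (p k)) : isAuto p = true := by
  have hb : ∀ k, bv (act u (a k)) = fb (p k) := fun k => by
    rcases h k with e | e <;> rw [e] <;> simp only [bv_neg, bv_a]
  simp only [isAuto, Bool.and_eq_true, List.all_eq_true, List.mem_finRange, Bool.or_eq_true, Bool.not_eq_true',
    forall_const, decide_eq_true_eq]
  refine ⟨fun c => ?_, List.Nodup.map hp (List.nodup_finRange 8)⟩
  cases hc : inCode c
  · exact Or.inl rfl
  · right
    rw [codeSum_zero, codeSum_pm]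
    have h0 : bv (vecSum a c) = 0 := by
      rw [bv_vecSum, show (fun k => bv (a k)) = fb from funext bv_a]
      exact (codeSum_zero c).1 hc
    have h1 := bv_act_zero u h0
    rw [act_vecSum, bv_vecSum] at h1
    simpa only [hb] using h1

/-- the set of a word -/
def supp (x : Fin 256) : Finset (Fin 8) := Finset.univ.filter fun k => x.1.testBit k.1

theorem supp_xr (x y : Fin 256) : supp (xr x y) = symmDiff (supp x) (supp y) := by
  ext k
  simp only [supp, Finset.mem_symmDiff, Finset.mem_filter, Finset.mem_univ, true_and, Kills.val_xr,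
    Nat.testBit_xor]
  cases x.1.testBit k.1 <;> cases y.1.testBit k.1 <;> simp

theorem supp_pm {p : Fin 8 → Fin 8} (hp : Function.Injective p) (x : Fin 256) : supp (pm p x) = (supp x).image p := by
  ext j
  obtain ⟨i, rfl⟩ := (Finite.injective_iff_surjective.1 hp) j
  simp only [supp, Finset.mem_filter, Finset.mem_univ, true_and, Finset.mem_image, pm_bit hp]
  exact ⟨fun h => ⟨i, h, rfl⟩, fun ⟨k, hk, e⟩ => hp e ▸ hk⟩

theorem wt_supp (x : Fin 256) : (supp x).card = Kills.wt x := (Kills.wt_card x).symm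

theorem supp_injective : Function.Injective supp := by
  intro x y h
  apply Fin.ext
  apply Nat.eq_of_testBit_eq
  intro j
  rcases lt_or_ge j 8 with hj | hj
  · have := congrArg (fun S : Finset (Fin 8) => (⟨j, hj⟩ : Fin 8) ∈ S) h
    simpa [supp] using this
  · rw [Nat.testBit_eq_false_of_lt (lt_of_lt_of_le x.2 (Nat.pow_le_pow_right (by norm_num) hj : 2 ^ 8 ≤ 2 ^ j)),
      Nat.testBit_eq_false_of_lt (lt_of_lt_of_le y.2 (Nat.pow_le_pow_right (by norm_num) hj : 2 ^ 8 ≤ 2 ^ j))]

theorem supp_surjective : Function.Surjective supp :=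
  ((Fintype.bijective_iff_injective_and_card supp).2 ⟨supp_injective, by simp⟩).2

theorem mono_conj {u : W} {p : Fin 8 → Fin 8} (hp : Function.Injective p)
    (h : ∀ k, act u (a k) = a (p k) ∨ act u (a k) = -a (p k)) (T : Finset (Fin 8)) :
    u * sgn T * u⁻¹ = sgn (T.image p) := by
  rw [mul_inv_eq_iff_eq_mul]
  refine ext_frame fun i => ?_
  have hT : p i ∈ T.image p ↔ i ∈ T := by simp [hp.eq_iff]
  rw [act_mul, act_mul, act_sgn]
  by_cases hi : i ∈ T
  · rcases h i with e | e <;> simp only [if_pos hi, act_neg, e, act_sgn, if_pos (hT.2 hi), neg_neg]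
  · have hi' : p i ∉ T.image p := fun c => hi (hT.1 c)
    rcases h i with e | e <;> simp only [if_neg hi, act_neg, e, act_sgn, if_neg hi']

end CfsgLib.OEightStd
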