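import Cfsg.Agent.Lib.OEightStd.Frames

/-!
The coordinates of the second even shape.
-/

set_option autoImplicit false
set_option maxRecDepth 100000
set_option linter.unusedSectionVars false

namespace CfsgLib.OEightStd

open Matrix CfsgLib.E8
open Kills (inS pm xr top wt)

namespace Ctx

variable {G : Type*} [Group G] [Finite G] {C : Ctx G}

/-- the labelling of the second even shape -/
structure Label (φ : Finset (Fin 8) → W) : Prop where
  mem : ∀ T : Finset (Fin 8), Even T.card → φ T ∈ Wp
  hom : ∀ S T : Finset (Fin 8), Even S.card → Even T.card → φ (symmDiff S T) = φ S * φ T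
  trace : ∀ T : Finset (Fin 8), Even T.card → tr' (φ T) = 8 - 2 * (T.card : ℚ)
  swaps : ∀ i j : Fin 8, i ≠ j → ∃ r : W, r * r = 1 ∧ parity r = -1 ∧
    ∀ T : Finset (Fin 8), Even T.card → r * φ T * r = φ (T.image (Equiv.swap i j))

variable (C) in
/-- the coordinates -/
noncomputable def labelF (φ : Finset (Fin 8) → W) (x : Fin 256) : G := C.emb (φ (supp x))

theorem even_supp {x : Fin 256} (h : inS true x = true) : Even (supp x).card := by
  rw [wt_supp, Nat.even_iff]; exact even_of_inS h

theorem Label.empty {φ : Finset (Fin 8) → W} (h : Label φ) : φ ∅ = 1 := by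
  have := h.hom ∅ ∅ (by simp) (by simp)
  rw [symmDiff_self] at this
  exact left_eq_mul.1 this

theorem Label.sq {φ : Finset (Fin 8) → W} (h : Label φ) {T : Finset (Fin 8)} (hT : Even T.card) :
    φ T * φ T = 1 := by rw [← h.hom T T hT hT, symmDiff_self]; exact h.empty

theorem Label.univ_eq {φ : Finset (Fin 8) → W} (h : Label φ) : φ Finset.univ = negW := by
  have he : Even (Finset.univ : Finset (Fin 8)).card := by simp; decide
  obtain ⟨g, T, e⟩ := exists_conj_sgn (h.sq he)
  have h1 := tr'_conj g (φ Finset.univ)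
  rw [e, tr'_sgn, h.trace _ he, Finset.card_univ, Fintype.card_fin] at h1
  push_cast at h1
  have hc : (T.card : ℚ) = 8 := by linarith
  have hT : T = Finset.univ := Finset.eq_univ_of_card T (by rw [Fintype.card_fin]; exact_mod_cast hc)
  rw [hT, sgn_univ, mul_inv_eq_iff_eq_mul, ← Subgroup.mem_center_iff.1 negW_central g] at e
  exact mul_left_cancel e

theorem Label.coord {φ : Finset (Fin 8) → W} (h : Label φ) : C.Coord true (C.labelF φ) := by
  refine ⟨by rw [labelF, supp_top, h.univ_eq]; rfl, fun x y hx hy => ?_, fun x y hx hy e => ?_⟩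
  · rw [labelF, labelF, labelF, supp_xr, h.hom _ _ (even_supp hx) (even_supp hy),
      C.emb_mul (h.mem _ (even_supp hx)) (h.mem _ (even_supp hy))]
  · have e' := C.emb_inj (h.mem _ (even_supp hx)) (h.mem _ (even_supp hy)) e
    have hev : Even (symmDiff (supp x) (supp y)).card := by
      rw [← supp_xr]; exact even_supp (Kills.inS_xr true x y hx hy)
    have h1 := h.trace _ hev
    rw [h.hom _ _ (even_supp hx) (even_supp hy), e', h.sq (even_supp hy), tr'_one] at h1
    have h2 : ((symmDiff (supp x) (supp y)).card : ℚ) = 0 := by linarith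
    have h3 : symmDiff (supp x) (supp y) = ⊥ := Finset.card_eq_zero.1 (by exact_mod_cast h2)
    exact supp_injective (symmDiff_eq_bot.1 h3)

theorem label_even' (hG : C.Good) {φ : Finset (Fin 8) → W} (h : Label φ) :
    Kills.Even' (movesGroup true (C.labelF φ)) := by
  have hF : C.Coord true (C.labelF φ) := h.coord
  refine { toSys := hF.sys, lower := fun i j k l hij hkl => ?_, upper := fun π hπ ht x hx => ?_ }
  · obtain ⟨r, r2, rp, hr⟩ := h.swaps i j hij
    obtain ⟨r', r2', rp', hr'⟩ := h.swaps k l hkl
    let m : Fin 256 → Fin 256 := fun x => pm (Equiv.swap i j) (pm (Equiv.swap k l) x)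
    have hmi : Function.Injective m :=
      (Kills.pm_injective (Equiv.injective _)).comp (Kills.pm_injective (Equiv.injective _))
    have hmS : ∀ x, inS true x = true → inS true (m x) = true := fun x hx =>
      Kills.inS_parity (by simp only [m, Kills.pm_wt (Equiv.injective _)]) hx
    have hn : r * r' ∈ Wp := mem_Wp_iff.2 (by rw [map_mul, rp, rp']; rfl)
    refine ⟨Equiv.ofBijective m (Finite.injective_iff_bijective.1 hmi),
      ⟨hmS, C.emb (r * r'), fun x hx => ?_⟩, fun x _ => rfl⟩
    show C.emb (r * r') * C.labelF φ x * (C.emb (r * r'))⁻¹ = C.labelF φ (m x)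
    rw [labelF, labelF, C.emb_conj hn (h.mem _ (even_supp hx))]
    congr 1
    have hx' : Even (Finset.image (Equiv.swap k l) (supp x)).card := by
      rw [Finset.card_image_of_injective _ (Equiv.injective _)]; exact even_supp hx
    simp only [m, supp_pm (Equiv.injective _)]
    rw [← hr _ hx', ← hr' _ (even_supp hx)]
    simp only [_root_.mul_inv_rev, inv_eq_of_mul_eq_one_right r2, inv_eq_of_mul_eq_one_right r2', mul_assoc]
  · obtain ⟨hpS, g, hg⟩ := hπ
    have hgz : g * C.z = C.z * g := by
      have := hg top (Kills.inS_top true)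
      rw [ht, hF.top_eq] at this
      exact mul_inv_eq_iff_eq_mul.1 this
    obtain ⟨u, hu⟩ := hG.dec g hgz
    have h1 := hg x hx
    simp only [labelF] at h1
    rw [hu _ (h.mem _ (even_supp hx))] at h1
    have h2 := congrArg tr' (C.emb_inj (conj_mem (h.mem _ (even_supp hx))) (h.mem _ (even_supp (hpS x hx))) h1)
    rw [tr'_conj, h.trace _ (even_supp hx), h.trace _ (even_supp (hpS x hx)), wt_supp, wt_supp] at h2
    have h3 : (wt (π x) : ℚ) = (wt x : ℚ) := by linarith
    exact_mod_cast h3

theorem label_fix (hG : C.Good) {φ : Finset (Fin 8) → W} (h : Label φ) {g : G}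
    (hn : NormF true (C.labelF φ) g) : g * C.z = C.z * g := by
  have hF : C.Coord true (C.labelF φ) := h.coord
  obtain ⟨π, hπ, e⟩ := hF.exists_move hn
  rw [Kills.fixes_top' (label_even' hG h) π hπ, hF.top_eq] at e
  exact mul_inv_eq_iff_eq_mul.1 e

end Ctx

end CfsgLib.OEightStd
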