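import Cfsg.Agent.Lib.OEightStd.Group
import Cfsg.Agent.Lib.OrthAut.D4Normal

/-!
The even lattice group as a double cover of the simple orthogonal group.
-/

set_option autoImplicit false
set_option maxRecDepth 100000
set_option linter.unusedSectionVars false

namespace CfsgLib.OEightStd

open Matrix CfsgLib.E8 CfsgLib.Orth

/-- the plus form modulo two -/
noncomputable abbrev Qp : QuadraticForm (ZMod 2) (CfsgLib.E8.Ix → ZMod 2) := CfsgLib.ChevOrth.qPlus (ZMod 2)

theorem Qp_eq : ⇑Qp = Cfsg.quadFormPlus 4 (ZMod 2) := rfl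

theorem Qp_nondeg : Nondeg Qp := CfsgLib.OrthAut.D4Normal.nondeg (ZMod 2)

/-- the simple orthogonal group -/
abbrev Xt : Type := Cfsg.POmega (ZMod 2) ⇑Qp

/-- reduction modulo two onto this form -/
noncomputable def redp : W →* Grp Qp :=
  (exists_red (six_eq zmod_cases) Qp_eq (cast_surjective zmod_cases)).choose

theorem redp_spec (g : W) (x : Ix → ℤ) : ap (redp g) (cv (ZMod 2) x) = cv (ZMod 2) (act g x) :=
  (exists_red (six_eq zmod_cases) Qp_eq (cast_surjective zmod_cases)).choose_spec g x

theorem redp_mem {g : W} (hg : g ∈ Wp) : redp g ∈ Cfsg.Omega (ZMod 2) ⇑Qp := map_mem_omega redp hg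

/-- reduction of the even part -/
noncomputable def redW : ↥Wp →* ↥(Cfsg.Omega (ZMod 2) ⇑Qp) :=
  (redp.comp Wp.subtype).codRestrict _ fun g => redp_mem g.2

/-- the projection on the simple group -/
noncomputable def proj0 : ↥Wp →* Xt := (QuotientGroup.mk' _).comp redW

theorem center_omega : Subgroup.center (Cfsg.Omega (ZMod 2) ⇑Qp) = ⊥ := by
  refine Subgroup.eq_bot_of_card_eq _ ((card_center_omega Qp_nondeg (by simp)).1 fun g _ hg => ?_)
  refine Subtype.ext (Units.ext ?_)
  rw [hg]
  exact Matrix.ext fun i j => by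
    rw [Matrix.neg_apply]
    exact (ZMod.neg_eq_self_mod_two _).trans rfl

theorem proj0_surjective : Function.Surjective proj0 := by
  intro x
  obtain ⟨s, rfl⟩ := QuotientGroup.mk'_surjective _ x
  obtain ⟨w, hw, e⟩ := omega_le_map zmod_cases Qp_eq Qp_nondeg redp_spec s.2
  exact ⟨⟨w, hw⟩, congrArg (QuotientGroup.mk' _) (Subtype.ext e : redW ⟨w, hw⟩ = s)⟩

theorem proj0_eq_one {g : ↥Wp} : proj0 g = 1 ↔ (g : W) = 1 ∨ (g : W) = negW := by
  rw [proj0, MonoidHom.comp_apply, QuotientGroup.mk'_apply, QuotientGroup.eq_one_iff, center_omega,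
    Subgroup.mem_bot, ← red_eq_one zmod_cases Qp_eq Qp_nondeg redp_spec]
  exact ⟨fun h => congrArg Subtype.val h, fun h => Subtype.ext h⟩

theorem center_Wp {g : ↥Wp} : g ∈ Subgroup.center ↥Wp ↔ (g : W) = 1 ∨ (g : W) = negW := by
  refine ⟨fun h => center_cases fun a ha => ?_, fun h => Subgroup.mem_center_iff.2 fun a => Subtype.ext ?_⟩
  · exact (congrArg Subtype.val (Subgroup.mem_center_iff.1 h ⟨a, ha⟩)).symm
  · rcases h with h | h <;> simp only [Subgroup.coe_mul, h]
    · rw [one_mul, mul_one]
    · exact Subgroup.mem_center_iff.1 negW_central a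

theorem proj0_ker : proj0.ker = Subgroup.center ↥Wp := by
  ext g; rw [MonoidHom.mem_ker, proj0_eq_one, center_Wp]

theorem swapW_mem : swapW ∈ Wp := mem_Wp_iff.2 (by simp [swapW, parity_refl])

theorem half_mem : half ∈ Wp := mem_Wp_iff.2 (by simp [half, fr, parity_refl])

theorem omega_perf : commutator (Cfsg.Omega (ZMod 2) ⇑Qp) = ⊤ :=
  Subgroup.map_injective (Subgroup.subtype_injective _) (by
    rw [Subgroup.map_subtype_commutator, omega_perfect Qp_nondeg (by simp), ← MonoidHom.range_eq_map,
      Subgroup.range_subtype])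

theorem perfect_Wp : commutator ↥Wp = ⊤ := by
  have hX : commutator Xt = ⊤ := by
    rw [commutator_def, ← Subgroup.map_top_of_surjective _ (QuotientGroup.mk'_surjective _),
      ← Subgroup.map_commutator, ← commutator_def, omega_perf]
  have hn : (⟨negW, negW_mem_Wp⟩ : ↥Wp) ∈ commutator ↥Wp := by
    set sw : ↥Wp := ⟨swapW, swapW_mem⟩ with hsw
    set hh : ↥Wp := ⟨half, half_mem⟩ with hhh
    have e : (⟨negW, negW_mem_Wp⟩ : ↥Wp) = sw * hh * sw⁻¹ * hh⁻¹ := by
      refine Subtype.ext ?_
      simp only [Subgroup.coe_mul, Subgroup.coe_inv, hsw, hhh]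
      rw [← commutatorElement_def]
      exact commutator_swap.symm
    rw [e, commutator_def, ← commutatorElement_def]
    exact Subgroup.commutator_mem_commutator (Subgroup.mem_top _) (Subgroup.mem_top _)
  have hk : proj0.ker ≤ commutator ↥Wp := by
    intro g hg
    rcases proj0_eq_one.1 hg with h | h
    · rw [show g = 1 from Subtype.ext h]; exact one_mem _
    · rwa [show g = ⟨negW, negW_mem_Wp⟩ from Subtype.ext h]
  rw [← sup_of_le_left hk, ← Subgroup.comap_map_eq, commutator_def, Subgroup.map_commutator,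
    Subgroup.map_top_of_surjective _ proj0_surjective, ← commutator_def, hX, Subgroup.comap_top]

end CfsgLib.OEightStd
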