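import Cfsg.Agent.Lib.OEightStd.Pairs

/-!
The normalizer of a large elementary group containing the central involution fixes it.
-/

set_option autoImplicit false
set_option maxRecDepth 100000
set_option linter.unusedSectionVars false

namespace CfsgLib.OEightStd

open Matrix CfsgLib.E8
open Kills (inS pm xr top wt)

theorem card_le_two_mul {G : Type*} [Group G] [Finite G] {S : Set G} {P : G → Prop}
    (hmul : ∀ x ∈ S, ∀ y ∈ S, x * y ∈ S) (hP : ∀ x ∈ S, ∀ y ∈ S, ¬ P x → ¬ P y → P (x * y)) :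
    Nat.card S ≤ 2 * Nat.card {x | x ∈ S ∧ P x} := by
  classical
  by_cases h : ∀ x ∈ S, P x
  · calc Nat.card S ≤ Nat.card {x | x ∈ S ∧ P x} :=
        Nat.card_le_card_of_injective (fun x => ⟨x.1, x.2, h _ x.2⟩)
          fun a b e => Subtype.ext (congrArg (fun y : {x | x ∈ S ∧ P x} => y.1) e)
      _ ≤ _ := by omega
  · push_neg at h
    obtain ⟨x0, h0, hn0⟩ := h
    let f : S → {x | x ∈ S ∧ P x} × Bool := fun x =>
      if hx : P x.1 then (⟨x.1, x.2, hx⟩, true)
      else (⟨x.1 * x0, hmul _ x.2 _ h0, hP _ x.2 _ h0 hx hn0⟩, false)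
    have hf : Function.Injective f := by
      intro a b e
      simp only [f] at e
      by_cases ha : P a.1 <;> by_cases hb : P b.1
      · rw [dif_pos ha, dif_pos hb, Prod.mk.injEq, Subtype.mk.injEq] at e
        exact Subtype.ext e.1
      · rw [dif_pos ha, dif_neg hb, Prod.mk.injEq] at e
        exact absurd e.2 (by decide)
      · rw [dif_neg ha, dif_pos hb, Prod.mk.injEq] at e
        exact absurd e.2 (by decide)
      · rw [dif_neg ha, dif_neg hb, Prod.mk.injEq, Subtype.mk.injEq] at e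
        exact Subtype.ext (mul_right_cancel e.1)
    have := Nat.card_le_card_of_injective f hf
    rw [Nat.card_prod, Nat.card_eq_fintype_card (α := Bool), Fintype.card_bool] at this
    omega

namespace Ctx

variable {G : Type*} [Group G] [Finite G] (C : Ctx G)

/-- the isometries whose images lie in a group -/
def inner (E : Subgroup G) : Subgroup W where
  carrier := {a | a ∈ Wp ∧ C.emb a ∈ E}
  one_mem' := ⟨one_mem _, by rw [C.emb_one]; exact one_mem _⟩
  mul_mem' := fun {a b} ⟨ha, ha'⟩ ⟨hb, hb'⟩ => ⟨mul_mem ha hb, by rw [C.emb_mul ha hb]; exact mul_mem ha' hb'⟩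
  inv_mem' := fun {a} ⟨ha, ha'⟩ => ⟨inv_mem ha, by rw [C.emb_inv ha]; exact inv_mem ha'⟩

variable {C}

theorem mem_inner {E : Subgroup G} {a : W} : a ∈ C.inner E ↔ a ∈ Wp ∧ C.emb a ∈ E := Iff.rfl

theorem ind_one : C.Ind 1 1 := C.ind_of_mem_K (one_mem _)

theorem sq_cases {x : G} {u : W} (hu : C.Ind x u) (hx : x * x = 1) : u * u = 1 ∨ u * u = negW := by
  have h := C.ind_mul hu hu
  rw [hx] at h
  rcases C.ind_unique ind_one h with e | e
  · exact Or.inl e
  · exact Or.inr (by rw [e, one_mul])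

/-- an elementary group of large order containing the central involution -/
structure Big (E : Subgroup G) : Prop where
  comm : ∀ x ∈ E, ∀ y ∈ E, x * y = y * x
  sq : ∀ x ∈ E, x * x = 1
  z_mem : C.z ∈ E
  size : 128 ≤ Nat.card E

section Big

variable {E : Subgroup G} (hB : C.Big E) (hG : C.Good)

include hB in
theorem inner_comm {a : W} (ha : a ∈ C.inner E) {b : W} (hb : b ∈ C.inner E) : a * b = b * a :=
  C.emb_inj (mul_mem ha.1 hb.1) (mul_mem hb.1 ha.1) (by
    rw [C.emb_mul ha.1 hb.1, C.emb_mul hb.1 ha.1]; exact hB.comm _ ha.2 _ hb.2)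

include hB in
theorem inner_sq {a : W} (ha : a ∈ C.inner E) : a * a = 1 :=
  C.emb_inj (mul_mem ha.1 ha.1) (one_mem _) (by rw [C.emb_mul ha.1 ha.1, C.emb_one]; exact hB.sq _ ha.2)

include hB in
theorem inner_centralized {x : G} (hx : x ∈ E) {u : W} (hu : C.Ind x u) {a : W} (ha : a ∈ C.inner E) :
    a * u = u * a := by
  have h := hu a ha.1
  rw [hB.comm x hx _ ha.2, mul_inv_cancel_right] at h
  exact (mul_inv_eq_iff_eq_mul.1 (C.emb_inj ha.1 (conj_mem ha.1) h).symm).symm

include hB hG in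
theorem exists_ind {x : G} (hx : x ∈ E) : ∃ u, C.Ind x u := hG.dec x (hB.comm x hx _ hB.z_mem)

include hB hG in
theorem outer_mul {x y : G} (hx : x ∈ E) (hy : y ∈ E) (nx : ¬ ∃ u, C.Ind x u ∧ u ∈ Wp)
    (ny : ¬ ∃ u, C.Ind y u ∧ u ∈ Wp) : ∃ u, C.Ind (x * y) u ∧ u ∈ Wp := by
  obtain ⟨u, hu⟩ := exists_ind hB hG hx
  obtain ⟨v, hv⟩ := exists_ind hB hG hy
  refine ⟨u * v, C.ind_mul hu hv, mem_Wp_iff.2 ?_⟩
  rw [map_mul]
  rcases Int.units_eq_one_or (parity u) with h | h
  · exact absurd ⟨u, hu, mem_Wp_iff.2 h⟩ nx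
  rcases Int.units_eq_one_or (parity v) with h' | h'
  · exact absurd ⟨v, hv, mem_Wp_iff.2 h'⟩ ny
  rw [h, h']; rfl

include hB hG in
/-- inner elements lie in the component -/
theorem inner_eq {x : G} (hx : x ∈ E) {u : W} (hu : C.Ind x u) (hup : u ∈ Wp) :
    ∃ a ∈ C.inner E, x = C.emb a := by
  rcases sq_cases hu (hB.sq x hx) with h | h
  · obtain ⟨a, ha, -, e, -⟩ := inner_inv hG hu hup (hB.sq x hx) h
    exact ⟨a, ⟨ha, e ▸ hx⟩, e⟩
  exfalso
  let S1 : Set G := {x | x ∈ E ∧ ∃ u, C.Ind x u ∧ u ∈ Wp}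
  let S2 : Set G := {x | x ∈ S1 ∧ ∃ a ∈ C.inner E, x = C.emb a}
  have h1 : Nat.card E ≤ 2 * Nat.card S1 :=
    card_le_two_mul (S := (E : Set G)) (P := fun x => ∃ u, C.Ind x u ∧ u ∈ Wp)
      (fun _ a _ b => mul_mem a b) fun a ha b hb => outer_mul hB hG ha hb
  have h2 : Nat.card S1 ≤ 2 * Nat.card S2 := by
    refine card_le_two_mul (P := fun x => ∃ a ∈ C.inner E, x = C.emb a)
      (fun a ⟨ha, u1, hu1, hp1⟩ b ⟨hb, u2, hu2, hp2⟩ => ⟨mul_mem ha hb, u1 * u2, C.ind_mul hu1 hu2, mul_mem hp1 hp2⟩)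
      fun a ⟨ha, u1, hu1, hp1⟩ b ⟨hb, u2, hu2, hp2⟩ na nb => ?_
    have hs : ∀ {y : G} {v : W}, y ∈ E → C.Ind y v → v ∈ Wp → (¬ ∃ a ∈ C.inner E, y = C.emb a) → v * v = negW := by
      intro y v hy hv hvp hn
      rcases sq_cases hv (hB.sq y hy) with h | h
      · obtain ⟨c, hc, -, e, -⟩ := inner_inv hG hv hvp (hB.sq y hy) h
        exact absurd ⟨c, ⟨hc, e ▸ hy⟩, e⟩ hn
      · exact h
    have h3 : (u1 * u2) * (u1 * u2) = 1 := by
      have hc := comm_inner hG hu1 hu2 hp1 hp2 (hB.comm a ha b hb)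
      calc u1 * u2 * (u1 * u2) = u1 * (u2 * u1) * u2 := by group
        _ = u1 * (u1 * u2) * u2 := by rw [hc]
        _ = u1 * u1 * (u2 * u2) := by group
        _ = 1 := by rw [hs ha hu1 hp1 na, hs hb hu2 hp2 nb, negW_sq]
    obtain ⟨c, hc, -, e, -⟩ := inner_inv hG (C.ind_mul hu1 hu2) (mul_mem hp1 hp2) (hB.sq _ (mul_mem ha hb)) h3
    exact ⟨c, ⟨hc, e ▸ mul_mem ha hb⟩, e⟩
  have h3 : Nat.card S2 ≤ Nat.card (C.inner E) := by
    refine Nat.card_le_card_of_surjective
      (fun a => ⟨C.emb a.1, ⟨a.2.2, a.1, C.ind_emb a.2.1, a.2.1⟩, a.1, a.2, rfl⟩) ?_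
    rintro ⟨y, -, a, ha, rfl⟩
    exact ⟨⟨a, ha⟩, rfl⟩
  have h4 := card_le_sixteen (U := C.inner E) (fun a ha b hb => inner_comm hB ha hb) (fun a ha => inner_sq hB ha)
    h (fun a ha => inner_centralized hB hx hu ha)
  have := hB.size
  omega

include hB hG in
theorem inner_card : 64 ≤ Nat.card (C.inner E) := by
  have h1 : Nat.card E ≤ 2 * Nat.card {x | x ∈ E ∧ ∃ u, C.Ind x u ∧ u ∈ Wp} :=
    card_le_two_mul (S := (E : Set G)) (P := fun x => ∃ u, C.Ind x u ∧ u ∈ Wp)
      (fun _ a _ b => mul_mem a b) fun a ha b hb => outer_mul hB hG ha hb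
  have h2 : Nat.card {x | x ∈ E ∧ ∃ u, C.Ind x u ∧ u ∈ Wp} ≤ Nat.card (C.inner E) := by
    refine Nat.card_le_card_of_surjective (fun a => ⟨C.emb a.1, a.2.2, a.1, C.ind_emb a.2.1, a.2.1⟩) ?_
    rintro ⟨y, hy, u, hu, hup⟩
    obtain ⟨a, ha, rfl⟩ := inner_eq hB hG hy hu hup
    exact ⟨⟨a, ha⟩, rfl⟩
  have := hB.size
  omega

include hB hG in
theorem outer_sq {x : G} (hx : x ∈ E) {u : W} (hu : C.Ind x u) : u * u = 1 := by
  refine (sq_cases hu (hB.sq x hx)).resolve_right fun h => ?_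
  have h4 := card_le_sixteen (U := C.inner E) (fun a ha b hb => inner_comm hB ha hb) (fun a ha => inner_sq hB ha)
    h (fun a ha => inner_centralized hB hx hu ha)
  have := inner_card hB hG
  omega

end Big

theorem no_full_inner {U : Subgroup W} (hc : ∀ a ∈ U, ∀ b ∈ U, a * b = b * a) (h2 : ∀ a ∈ U, a * a = 1)
    (hle : U ≤ Wp) : Nat.card U ≠ 256 := fun h => by
  obtain ⟨g, hg⟩ := full_standard hc h2 h
  have hm : g⁻¹ * sgn {0} * g ∈ U := (hg _).2 ⟨{0}, by group⟩
  have hp := mem_Wp_iff.1 (hle hm)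
  rw [map_mul, map_mul, map_inv, sgn_single, fr, parity_refl] at hp
  rcases Int.units_eq_one_or (parity g) with e | e <;> rw [e] at hp <;> exact absurd hp (by decide)

theorem adjust {h : W} : ∃ h' ∈ Wp, ∀ (u : W) (T : Finset (Fin 8)), h * u * h⁻¹ = sgn T → h' * u * h'⁻¹ = sgn T := by
  rcases Int.units_eq_one_or (parity h) with e | e
  · exact ⟨h, mem_Wp_iff.2 e, fun u T hu => hu⟩
  · refine ⟨fr 0 * h, mem_Wp_iff.2 (by rw [map_mul, e, fr, parity_refl]; rfl), fun u T hu => ?_⟩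
    rw [show fr 0 * h * u * (fr 0 * h)⁻¹ = fr 0 * (h * u * h⁻¹) * (fr 0)⁻¹ by group, hu, ← sgn_single, sgn_mul,
      symmDiff_comm, ← sgn_mul, mul_inv_cancel_right]

theorem normF_conj {ev : Bool} {F : Fin 256 → G} {E : Subgroup G} {t g : G}
    (hin : ∀ x, inS ev x = true → t⁻¹ * F x * t ∈ E)
    (hout : ∀ y ∈ E, ∃ x, inS ev x = true ∧ t * y * t⁻¹ = F x)
    (hg : ∀ y ∈ E, g * y * g⁻¹ ∈ E) : NormF ev F (t * g * t⁻¹) := by
  intro x hx
  obtain ⟨x', hx', e⟩ := hout _ (hg _ (hin x hx))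
  exact ⟨x', hx', by rw [← e]; group⟩

theorem comm_back {g t : G} (ht : t * C.z = C.z * t) (h : t * g * t⁻¹ * C.z = C.z * (t * g * t⁻¹)) :
    g * C.z = C.z * g := by
  calc g * C.z = t⁻¹ * (t * g * t⁻¹) * (t * C.z) := by group
    _ = t⁻¹ * (t * g * t⁻¹ * C.z) * t := by rw [ht]; group
    _ = t⁻¹ * (C.z * (t * g * t⁻¹)) * t := by rw [h]
    _ = (t⁻¹ * C.z * t) * g := by group
    _ = C.z * g := by rw [mul_assoc t⁻¹, ← ht, inv_mul_cancel_left]

/-- the normalizer fixes the central involution -/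
theorem target_fix (hG : C.Good) {E : Subgroup G} (hc : ∀ x ∈ E, ∀ y ∈ E, x * y = y * x)
    (hs : ∀ x ∈ E, x * x = 1) (hz : C.z ∈ E)
    (hsize : Nat.card E = 256 ∨ Nat.card E = 128 ∧ ∀ x ∈ E, ∀ u, C.Ind x u → u * u = 1 → parity u = 1)
    {g : G} (hg : ∀ y ∈ E, g * y * g⁻¹ ∈ E) : g * C.z = C.z * g := by
  classical
  have hB : C.Big E := ⟨hc, hs, hz, by omega⟩
  have icomm : ∀ a ∈ C.inner E, ∀ b ∈ C.inner E, a * b = b * a := fun a ha b hb => inner_comm hB ha hb
  have isq : ∀ a ∈ C.inner E, a * a = 1 := fun a ha => inner_sq hB ha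
  have hle : C.inner E ≤ Wp := fun a ha => ha.1
  rcases hsize with hcard | ⟨hcard, hno⟩
  · have hI : Nat.card (C.inner E) ≤ Nat.card E :=
      Nat.card_le_card_of_injective (fun a => (⟨C.emb a.1, a.2.2⟩ : E))
        fun a b e => Subtype.ext (C.emb_inj a.2.1 b.2.1 (congrArg Subtype.val e))
    have hout : ∃ e ∈ E, ¬ ∃ u, C.Ind e u ∧ u ∈ Wp := by
      by_contra hall
      push_neg at hall
      refine no_full_inner icomm isq hle ?_
      have : Nat.card E ≤ Nat.card (C.inner E) := by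
        refine Nat.card_le_card_of_surjective (fun a => ⟨C.emb a.1, a.2.2⟩) ?_
        rintro ⟨y, hy⟩
        obtain ⟨u, hu, hup⟩ := hall y hy
        obtain ⟨a, ha, rfl⟩ := inner_eq hB hG hy hu hup
        exact ⟨⟨a, ha⟩, rfl⟩
      omega
    obtain ⟨e0, he0, hn0⟩ := hout
    obtain ⟨u0, hu0⟩ := exists_ind hB hG he0
    have hu2 := outer_sq hB hG he0 hu0
    have hp0 : parity u0 = -1 :=
      (Int.units_eq_one_or _).resolve_left fun h => hn0 ⟨u0, hu0, mem_Wp_iff.2 h⟩
    have hcm : ∀ a ∈ C.inner E, a * u0 = u0 * a := fun a ha => inner_centralized hB he0 hu0 ha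
    let U : Subgroup W :=
      { carrier := {v | v ∈ C.inner E ∨ u0 * v ∈ C.inner E}
        one_mem' := Or.inl (one_mem _)
        mul_mem' := fun {v w} hv hw => by
          have key : ∀ v, u0 * v ∈ C.inner E → v = u0 * (u0 * v) := fun v _ => by rw [← mul_assoc, hu2, one_mul]
          rcases hv with hv | hv <;> rcases hw with hw | hw
          · exact Or.inl (mul_mem hv hw)
          · refine Or.inr ?_
            rw [← mul_assoc, ← hcm v hv, mul_assoc]
            exact mul_mem hv hw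
          · refine Or.inr ?_
            rw [← mul_assoc]
            exact mul_mem hv hw
          · refine Or.inl ?_
            rw [key v hv, mul_assoc, key w hw, ← mul_assoc (u0 * v), hcm _ hv, mul_assoc, ← mul_assoc u0, hu2, one_mul]
            exact mul_mem hv hw
        inv_mem' := fun {v} hv => by
          rcases hv with hv | hv
          · exact Or.inl (inv_mem hv)
          · refine Or.inr ?_
            have h1 := hcm _ hv
            have h2 : v⁻¹ = (u0 * v)⁻¹ * u0 := by rw [_root_.mul_inv_rev, inv_mul_cancel_right]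
            rw [h2, ← mul_assoc, ← hcm _ (inv_mem hv), mul_assoc, hu2, mul_one]
            exact inv_mem hv }
    have hU : ∀ v, v ∈ U ↔ (v ∈ C.inner E ∨ u0 * v ∈ C.inner E) := fun v => Iff.rfl
    have hUc : ∀ v ∈ U, ∀ w ∈ U, v * w = w * v := by
      have hcu : ∀ v ∈ U, v * u0 = u0 * v := by
        intro v hv
        rcases (hU v).1 hv with h | h
        · exact hcm v h
        · have h1 := hcm _ h
          rw [mul_assoc] at h1
          exact mul_left_cancel h1
      intro v hv w hw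
      have hco : ∀ v ∈ U, ∀ a ∈ C.inner E, v * a = a * v := by
        intro v hv a ha
        rcases (hU v).1 hv with h | h
        · exact icomm v h a ha
        · have h1 := icomm _ h a ha
          rw [← mul_assoc, hcm a ha, mul_assoc, mul_assoc] at h1
          exact mul_left_cancel h1
      rcases (hU w).1 hw with h | h
      · exact hco v hv w h
      · have h1 := hco v hv _ h
        rw [← mul_assoc, hcu v hv, mul_assoc, mul_assoc] at h1
        exact mul_left_cancel h1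
    have hUs : ∀ v ∈ U, v * v = 1 := by
      intro v hv
      rcases (hU v).1 hv with h | h
      · exact isq v h
      · have h1 := isq _ h
        have h2 : u0 * v = v * u0 := hUc _ (Or.inr (by rw [hu2]; exact one_mem _)) v hv
        rw [show u0 * v * (u0 * v) = u0 * (v * u0) * v by group, ← h2,
          show u0 * (u0 * v) * v = u0 * u0 * (v * v) by group, hu2, one_mul] at h1
        exact h1
    have hUcard : Nat.card U = 256 := by
      have h1 : Nat.card E ≤ 2 * Nat.card {x | x ∈ E ∧ ∃ u, C.Ind x u ∧ u ∈ Wp} :=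
        card_le_two_mul (S := (E : Set G)) (P := fun x => ∃ u, C.Ind x u ∧ u ∈ Wp)
          (fun _ a _ b => mul_mem a b) fun a ha b hb => outer_mul hB hG ha hb
      have h2 : Nat.card {x | x ∈ E ∧ ∃ u, C.Ind x u ∧ u ∈ Wp} ≤ Nat.card (C.inner E) := by
        refine Nat.card_le_card_of_surjective (fun a => ⟨C.emb a.1, a.2.2, a.1, C.ind_emb a.2.1, a.2.1⟩) ?_
        rintro ⟨y, hy, u, hu, hup⟩
        obtain ⟨a, ha, rfl⟩ := inner_eq hB hG hy hu hup
        exact ⟨⟨a, ha⟩, rfl⟩
      let fU : ↥(C.inner E) × Bool → U := fun p =>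
        if p.2 then ⟨p.1.1, Or.inl p.1.2⟩
        else ⟨u0 * p.1.1, Or.inr (by rw [← mul_assoc, hu2, one_mul]; exact p.1.2)⟩
      have hfi : Function.Injective fU := by
        rintro ⟨a, s⟩ ⟨b, t⟩ e
        have e' := congrArg Subtype.val e
        have hpar : ∀ c : ↥(C.inner E), parity (c : W) = 1 := fun c => mem_Wp_iff.1 c.2.1
        cases s <;> cases t <;> simp only [fU, if_true, Bool.false_eq_true, if_false] at e'
        · rw [Subtype.ext (mul_left_cancel e')]
        · have := congrArg parity e'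
          rw [map_mul, hp0, hpar, hpar] at this
          exact absurd this (by decide)
        · have := congrArg parity e'
          rw [map_mul, hp0, hpar, hpar] at this
          exact absurd this (by decide)
        · rw [Subtype.ext e']
      have hfs : Function.Surjective fU := by
        rintro ⟨v, hv | hv⟩
        · exact ⟨(⟨v, hv⟩, true), Subtype.ext rfl⟩
        · exact ⟨(⟨u0 * v, hv⟩, false), Subtype.ext (by
            show u0 * (u0 * v) = v
            rw [← mul_assoc, hu2, one_mul])⟩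
      have hprod := Nat.card_congr (Equiv.ofBijective fU ⟨hfi, hfs⟩)
      rw [Nat.card_prod, Nat.card_eq_fintype_card (α := Bool), Fintype.card_bool] at hprod
      have hne : Nat.card (C.inner E) ≠ 256 := no_full_inner icomm isq hle
      have hdvd : Nat.card (C.inner E) ∣ 256 := by
        have hp : IsPGroup 2 (C.inner E) := fun a => ⟨1, Subtype.ext (by
          rw [pow_one, pow_two]; exact isq _ a.2)⟩
        haveI : Fact (Nat.Prime 2) := ⟨Nat.prime_two⟩
        obtain ⟨n, hn⟩ := IsPGroup.iff_card.1 hp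
        rw [hn] at hI hne ⊢
        have : n ≤ 8 := (Nat.pow_le_pow_iff_right (by norm_num)).1 (show 2 ^ n ≤ 2 ^ 8 by omega)
        exact Nat.pow_dvd_pow 2 this
      obtain ⟨n, hn8, hn⟩ := (Nat.dvd_prime_pow Nat.prime_two).1 (show Nat.card (C.inner E) ∣ 2 ^ 8 from hdvd)
      have h64 : 128 ≤ Nat.card (C.inner E) := by omega
      have : n = 7 := by
        rcases (show n < 7 ∨ n = 7 ∨ n = 8 by omega) with h | h | h
        · have := Nat.pow_le_pow_right (show 1 ≤ 2 by norm_num) (show n ≤ 6 by omega)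
          omega
        · exact h
        · subst h; norm_num at hn; omega
      subst this
      norm_num at hn
      omega
    obtain ⟨h0, hh0⟩ := full_standard hUc hUs hUcard
    obtain ⟨h, hh, hadj⟩ := adjust (h := h0)
    obtain ⟨T0, hT0'⟩ := (hh0 u0).1 (Or.inr (by rw [hu2]; exact one_mem _))
    have hT0 := hadj _ _ hT0'
    obtain ⟨x0, hx0⟩ := supp_surjective T0
    rw [← hx0] at hT0
    have hxodd : ¬ wt x0 % 2 = 0 := by
      intro hev
      have := congrArg parity hT0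
      rw [map_mul, map_mul, map_inv, mul_inv_cancel_comm, hp0, mem_Wp_iff.1 (sgn_supp_mem.2 hev)] at this
      exact absurd this (by decide)
    set t := C.emb h with htdef
    have htind : ∀ {y : G} {v : W}, C.Ind y v → C.Ind (t * y * t⁻¹) (h * v * h⁻¹) := fun hy =>
      C.ind_mul (C.ind_mul (C.ind_emb hh) hy) (C.ind_inv (C.ind_emb hh))
    have himg : ∀ a, a ∈ C.inner E → ∃ x, wt x % 2 = 0 ∧ t * C.emb a * t⁻¹ = C.emb (sgn (supp x)) := by
      intro a ha
      obtain ⟨T, hT⟩ := (hh0 a).1 (Or.inl ha)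
      obtain ⟨x, rfl⟩ := supp_surjective T
      have hTa := hadj _ _ hT
      refine ⟨x, sgn_supp_mem.1 (hTa ▸ conj_mem ha.1), ?_⟩
      rw [htdef, C.emb_conj hh ha.1, hTa]
    have hpre : ∀ x, wt x % 2 = 0 → ∃ a ∈ C.inner E, t * C.emb a * t⁻¹ = C.emb (sgn (supp x)) := by
      intro x hx
      obtain ⟨a, ha⟩ : ∃ a, h0 * a * h0⁻¹ = sgn (supp x) := ⟨h0⁻¹ * sgn (supp x) * h0, by group⟩
      have haU := (hh0 a).2 ⟨_, ha⟩
      have haWp : a ∈ Wp := by
        have := congrArg parity ha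
        rw [map_mul, map_mul, map_inv, mul_inv_cancel_comm, mem_Wp_iff.1 (sgn_supp_mem.2 hx)] at this
        exact mem_Wp_iff.2 this
      refine ⟨a, ?_, by rw [htdef, C.emb_conj hh haWp, hadj _ _ ha]⟩
      rcases (hU a).1 haU with h' | h'
      · exact h'
      · exfalso
        have := mem_Wp_iff.1 h'.1
        rw [map_mul, hp0, mem_Wp_iff.1 haWp] at this
        exact absurd this (by decide)
    obtain ⟨a1, ha1, hta1⟩ := hpre (xr x0 1) (even_xr_one hxodd)
    set e1 := t * (C.emb a1 * e0) * t⁻¹ with he1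
    have hOuter : C.Outer false e1 := fun _ => by
      refine ⟨?_, ?_⟩
      · rw [he1, show t * (C.emb a1 * e0) * t⁻¹ * (t * (C.emb a1 * e0) * t⁻¹) =
          t * (C.emb a1 * e0 * (C.emb a1 * e0)) * t⁻¹ by group, hB.sq _ (mul_mem ha1.2 he0), mul_one, mul_inv_cancel]
      · have h1 := C.ind_mul (C.ind_emb (sgn_supp_mem.2 (even_xr_one hxodd))) (htind hu0)
        have e : sgn (supp (xr x0 1)) * sgn (supp x0) = fr 0 := by
          rw [sgn_supp_mul, Kills.xr_comm (xr x0 1) x0, ← Kills.xr_assoc, Kills.xr_self, Kills.zero_xr, supp_one,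
            sgn_single]
        rw [hT0, e, ← hta1] at h1
        rwa [he1, show t * (C.emb a1 * e0) * t⁻¹ = t * C.emb a1 * t⁻¹ * (t * e0 * t⁻¹) by group]
    have hin : ∀ x, inS false x = true → t⁻¹ * C.frameF e1 x * t ∈ E := by
      intro x _
      unfold frameF
      split_ifs with hx
      · obtain ⟨a, ha, hta⟩ := hpre x hx
        rw [← hta, show t⁻¹ * (t * C.emb a * t⁻¹) * t = C.emb a by group]
        exact ha.2
      · obtain ⟨a, ha, hta⟩ := hpre _ (even_xr_one hx)
        rw [← hta, he1, show t⁻¹ * (t * C.emb a * t⁻¹ * (t * (C.emb a1 * e0) * t⁻¹)) * t =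
          C.emb a * (C.emb a1 * e0) by group]
        exact mul_mem ha.2 (mul_mem ha1.2 he0)
    have hout' : ∀ y ∈ E, ∃ x, inS false x = true ∧ t * y * t⁻¹ = C.frameF e1 x := by
      intro y hy
      by_cases hi : ∃ u, C.Ind y u ∧ u ∈ Wp
      · obtain ⟨u, hu, hup⟩ := hi
        obtain ⟨a, ha, rfl⟩ := inner_eq hB hG hy hu hup
        obtain ⟨x, hx, e⟩ := himg a ha
        exact ⟨x, rfl, by rw [frameF, if_pos hx, e]⟩
      · have hy' : y * (C.emb a1 * e0)⁻¹ ∈ E := mul_mem hy (inv_mem (mul_mem ha1.2 he0))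
        have hn1 : ¬ ∃ u, C.Ind (C.emb a1 * e0)⁻¹ u ∧ u ∈ Wp := by
          rintro ⟨v, hv, hvp⟩
          apply hn0
          have h1 := C.ind_mul (C.ind_inv (C.ind_emb ha1.1)) (C.ind_inv hv)
          rw [inv_inv, inv_mul_cancel_left] at h1
          exact ⟨_, h1, mul_mem (inv_mem ha1.1) (inv_mem hvp)⟩
        obtain ⟨u, hu, hup⟩ := outer_mul hB hG hy (inv_mem (mul_mem ha1.2 he0)) hi hn1
        obtain ⟨a, ha, hya⟩ := inner_eq hB hG hy' hu hup
        obtain ⟨x, hx, e⟩ := himg a ha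
        refine ⟨xr x 1, rfl, ?_⟩
        have h2 : ¬ wt (xr x 1) % 2 = 0 := by
          have h1 := wt_xr x 1
          have h2 : wt (1 : Fin 256) = 1 := by decide +kernel
          omega
        rw [frameF, if_neg h2, Kills.xr_assoc, Kills.xr_self, Kills.xr_zero, ← e, he1, ← hya]
        group
    exact comm_back (C.comm_z_of_ind (C.ind_emb hh)) (frameF_fix hG hOuter (normF_conj hin hout' hg))
  · have hall : ∀ y ∈ E, ∃ a ∈ C.inner E, y = C.emb a := by
      intro y hy
      obtain ⟨u, hu⟩ := exists_ind hB hG hy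
      exact inner_eq hB hG hy hu (mem_Wp_iff.2 (hno y hy u hu (outer_sq hB hG hy hu)))
    have hIcard : Nat.card (C.inner E) = 128 := by
      rw [← hcard]
      refine Nat.card_congr (Equiv.ofBijective (fun a => (⟨C.emb a.1, a.2.2⟩ : E)) ⟨fun a b e => ?_, ?_⟩)
      · exact Subtype.ext (C.emb_inj a.2.1 b.2.1 (congrArg Subtype.val e))
      · rintro ⟨y, hy⟩
        obtain ⟨a, ha, rfl⟩ := hall y hy
        exact ⟨⟨a, ha⟩, rfl⟩
    rcases even_shape icomm isq hIcard hle with ⟨h0, hh0⟩ | ⟨φ, hmem, hhom, htr, hswap⟩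
    · obtain ⟨h, hh, hadj⟩ := adjust (h := h0)
      set t := C.emb h with htdef
      have hout' : ∀ y ∈ E, ∃ x, inS true x = true ∧ t * y * t⁻¹ = C.frameF 1 x := by
        intro y hy
        obtain ⟨a, ha, rfl⟩ := hall y hy
        obtain ⟨T, hTe, hT⟩ := (hh0 a).1 ha
        obtain ⟨x, rfl⟩ := supp_surjective T
        rw [wt_supp, Nat.even_iff] at hTe
        exact ⟨x, inS_even hTe, by rw [frameF, if_pos hTe, htdef, C.emb_conj hh ha.1, hadj _ _ hT]⟩
      have hin : ∀ x, inS true x = true → t⁻¹ * C.frameF 1 x * t ∈ E := by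
        intro x hx
        have hev := even_of_inS hx
        obtain ⟨a, ha⟩ : ∃ a, h0 * a * h0⁻¹ = sgn (supp x) := ⟨h0⁻¹ * sgn (supp x) * h0, by group⟩
        have haU := (hh0 a).2 ⟨_, by rw [wt_supp, Nat.even_iff]; exact hev, ha⟩
        rw [frameF, if_pos hev, ← hadj _ _ ha, ← C.emb_conj hh haU.1, htdef,
          show (C.emb h)⁻¹ * (C.emb h * C.emb a * (C.emb h)⁻¹) * C.emb h = C.emb a by group]
        exact haU.2
      exact comm_back (C.comm_z_of_ind (C.ind_emb hh))
        (frameF_fix hG (ev := true) (fun h => absurd h (by decide)) (normF_conj hin hout' hg))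
    · have hL : Label φ := ⟨fun T hT => ((hmem _).2 ⟨T, hT, rfl⟩).1, hhom, htr, hswap⟩
      refine label_fix hG hL fun x hx => ?_
      obtain ⟨a, ha, e⟩ := hall _ (hg _ ((hmem _).2 ⟨_, even_supp hx, rfl⟩).2)
      obtain ⟨T, hT, rfl⟩ := (hmem a).1 ha
      obtain ⟨y, rfl⟩ := supp_surjective T
      rw [wt_supp, Nat.even_iff] at hT
      exact ⟨y, inS_even hT, e⟩

end Ctx

end CfsgLib.OEightStd
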