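import Cfsg.Agent.Lib.OEightStd.Proj

/-!
A graph automorphism of the simple group carries an image of an involution to one without involution
above it.
-/

set_option autoImplicit false
set_option maxRecDepth 100000
set_option linter.unusedSectionVars false

namespace CfsgLib.OEightStd

open Matrix CfsgLib.E8 CfsgLib.Orth Cfsg.Lie CfsgLib.Chev

/-- a root from the list -/
def rt (n : Fin 120) : Ix → ℤ := vec (rootList.getD n.1 [])

theorem rt_norm : ∀ n : Fin 120, q (rt n) = 1 := by decide +kernel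

/-- its reflection -/
def rr (n : Fin 120) : W := refl (rt n) (rt_norm n)

/-- an involution over the product of two root elements -/
def liftA : W := rr 92 * rr 48

/-- an element over another product of two root elements -/
def liftB : W := rr 71 * rr 3 * rr 18 * rr 60 * (rr 78 * rr 36 * rr 35 * rr 66)

/-- a root element as an integral matrix -/
def xz (r : Fin chevD4.nroots) (i j : CfsgLib.E8.Ix) : ℤ :=
  ChevOrth.val ((ChevOrth.modelD4).X r 0) i j + ChevOrth.val ((ChevOrth.modelD4).X r 1) i j +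
    ChevOrth.val ((ChevOrth.modelD4).X r 2) i j

theorem xh_one (r : Fin chevD4.nroots) (i j : CfsgLib.E8.Ix) :
    (ChevOrth.modelD4).xh r (1 : ZMod 2) i j = ((xz r i j : ℤ) : ZMod 2) := by
  simp [ChevOrth.Model.xh, xz, ChevOrth.toM_apply]

theorem liftA_mem : liftA ∈ Wp := pair_mem_Wp _ _

theorem liftB_mem : liftB ∈ Wp := mem_Wp_iff.2 (by simp [liftB, rr, parity_refl])

theorem liftA_sq : liftA * liftA = 1 := ext_frame fun k => by
  revert k
  simp only [liftA, rr, act_mul, act_one, act_refl]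
  decide +kernel

theorem liftB_sq : liftB * liftB = negW := ext_frame fun k => by
  revert k
  simp only [liftB, rr, act_mul, act_negW, act_refl]
  decide +kernel

theorem liftA_entries : ∀ i j : CfsgLib.E8.Ix, (2 : ℤ) ∣ act liftA (Pi.single j 1) i -
    ∑ k, xz ⟨13, by decide⟩ i k * xz ⟨12, by decide⟩ k j := by
  simp only [liftA, rr, act_mul, act_refl]
  decide +kernel

theorem liftB_entries : ∀ i j : CfsgLib.E8.Ix, (2 : ℤ) ∣ act liftB (Pi.single j 1) i -
    ∑ k, xz ⟨13, by decide⟩ i k * xz ⟨18, by decide⟩ k j := by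
  simp only [liftB, rr, act_mul, act_refl]
  decide +kernel

theorem cv_single (j : CfsgLib.E8.Ix) : cv (ZMod 2) (Pi.single j 1) = Pi.single j 1 := by
  funext i
  by_cases h : i = j
  · subst h; simp [cv]
  · simp [cv, h]

theorem redW_eq {g : W} (hg : g ∈ Wp) {r s : Fin chevD4.nroots} {u v : ↥(Cfsg.Omega (ZMod 2) ⇑Qp)}
    (hu : (((u : Grp Qp) : GL CfsgLib.ChevOrth.IxD4 (ZMod 2)) : Matrix _ _ (ZMod 2)) = (ChevOrth.modelD4).xh r 1)
    (hv : (((v : Grp Qp) : GL CfsgLib.ChevOrth.IxD4 (ZMod 2)) : Matrix _ _ (ZMod 2)) = (ChevOrth.modelD4).xh s 1)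
    (he : ∀ i j : CfsgLib.E8.Ix, (2 : ℤ) ∣ act g (Pi.single j 1) i - ∑ k, xz r i k * xz s k j) :
    redW ⟨g, hg⟩ = u * v := by
  refine Subtype.ext (Subtype.ext (Units.ext (Matrix.ext fun i j => ?_)))
  have h1 : (((redp g : Grp Qp) : GL CfsgLib.ChevOrth.IxD4 (ZMod 2)) : Matrix _ _ (ZMod 2)) i j =
      ((act g (Pi.single j 1) i : ℤ) : ZMod 2) := by
    have h := congrFun (redp_spec g (Pi.single j 1)) i
    rw [cv_single, ap, Matrix.mulVec_single_one] at h
    exact h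
  show (((redp g : Grp Qp) : GL CfsgLib.ChevOrth.IxD4 (ZMod 2)) : Matrix _ _ (ZMod 2)) i j =
    ((((u : Grp Qp) : GL CfsgLib.ChevOrth.IxD4 (ZMod 2)) : Matrix CfsgLib.ChevOrth.IxD4 CfsgLib.ChevOrth.IxD4 (ZMod 2)) *
      (((v : Grp Qp) : GL CfsgLib.ChevOrth.IxD4 (ZMod 2)) : Matrix CfsgLib.ChevOrth.IxD4 CfsgLib.ChevOrth.IxD4 (ZMod 2)) :
        Matrix CfsgLib.ChevOrth.IxD4 CfsgLib.ChevOrth.IxD4 (ZMod 2)) i j
  rw [h1, hu, hv, Matrix.mul_apply, ← sub_eq_zero]
  simp only [xh_one]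
  have h2 := (ZMod.intCast_zmod_eq_zero_iff_dvd _ 2).2 (by exact_mod_cast he i j)
  push_cast at h2
  exact h2

theorem simple_idx : tabD4.simple 0 = 18 ∧ tabD4.simple 2 = 13 ∧ tabD4.simple 3 = 12 := by decide +kernel

/-- a twist separating the two kinds of lifts -/
theorem exists_twist : ∃ (α : MulAut Xt) (a : ↥Wp), a * a = 1 ∧
    ∀ b : ↥Wp, proj0 b = α (proj0 a) → b * b ≠ 1 := by
  obtain ⟨ei, hei⟩ := CfsgLib.OrthAut.D4Normal.exists_iso (ZMod 2)
  obtain ⟨s13, m13, e13⟩ := hei ⟨13, by decide⟩ 1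
  obtain ⟨s12, m12, e12⟩ := hei ⟨12, by decide⟩ 1
  obtain ⟨s18, m18, e18⟩ := hei ⟨18, by decide⟩ 1
  obtain ⟨N, hN, hNe⟩ := CfsgLib.ChevAut.D4.exists_node (F := ZMod 2) (σ := Equiv.swap (0 : Fin 4) 3) (by decide)
  have hmem : ∀ r : Fin chevD4.nroots, ∃ x : ↥(chevD4.group (ZMod 2)),
      (x : GL chevD4.Idx (ZMod 2)) = X chevD4 r.val 1 := fun r => by
    have hm : X chevD4 r.val (1 : ZMod 2) ∈ chevD4.group (ZMod 2) := certD4.X_mem_group (lt_of_lt_of_eq r.isLt (by decide +kernel)) 1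
    exact ⟨⟨_, hm⟩, rfl⟩
  obtain ⟨x13, h13⟩ := hmem ⟨13, by decide⟩
  obtain ⟨x12, h12⟩ := hmem ⟨12, by decide⟩
  obtain ⟨x18, h18⟩ := hmem ⟨18, by decide⟩
  have hphi : N.φ x13 = x13 ∧ N.φ x12 = x18 := by
    refine ⟨Subtype.ext ?_, Subtype.ext ?_⟩
    · have := N.pos (2 : Fin 4) 1 x13 (by rw [h13]; exact congrArg (fun n => X chevD4 n (1 : ZMod 2)) simple_idx.2.1.symm)
      rw [one_pow, hN] at this
      rw [this, h13]
      exact congrArg (fun n => X chevD4 n (1 : ZMod 2)) (by decide +kernel)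
    · have := N.pos (3 : Fin 4) 1 x12 (by rw [h12]; exact congrArg (fun n => X chevD4 n (1 : ZMod 2)) simple_idx.2.2.symm)
      rw [one_pow, hN] at this
      rw [this, h18]
      exact congrArg (fun n => X chevD4 n (1 : ZMod 2)) (by decide +kernel)
  let α : MulAut Xt := ei.symm.trans (N.φ.trans ei)
  refine ⟨α, ⟨liftA, liftA_mem⟩, Subtype.ext liftA_sq, fun b hb hbb => ?_⟩
  have hA : proj0 ⟨liftA, liftA_mem⟩ = ei (x13 * x12) := by
    rw [map_mul, e13 x13 h13, e12 x12 h12, proj0, MonoidHom.comp_apply,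
      redW_eq liftA_mem m13 m12 liftA_entries, map_mul]
    rfl
  have hB : proj0 ⟨liftB, liftB_mem⟩ = ei (x13 * x18) := by
    rw [map_mul, e13 x13 h13, e18 x18 h18, proj0, MonoidHom.comp_apply,
      redW_eq liftB_mem m13 m18 liftB_entries, map_mul]
    rfl
  have hb' : proj0 b = proj0 ⟨liftB, liftB_mem⟩ := by
    rw [hb, hA, hB]
    show ei (N.φ (ei.symm (ei (x13 * x12)))) = _
    rw [ei.symm_apply_apply, map_mul N.φ, hphi.1, hphi.2]
  have hk : b⁻¹ * ⟨liftB, liftB_mem⟩ ∈ Subgroup.center ↥Wp := by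
    rw [← proj0_ker, MonoidHom.mem_ker, map_mul, map_inv, hb', inv_mul_cancel]
  have hne : (negW : W) ≠ 1 := fun h => by
    have := congrArg (fun g : W => act g (a 0)) h
    simp only [act_negW, act_one] at this
    exact a_ne_neg 0 this.symm
  set k := b⁻¹ * (⟨liftB, liftB_mem⟩ : ↥Wp) with hkdef
  have hk2 : (k : W) * k = 1 := by
    rcases center_Wp.1 hk with h | h <;> rw [h]
    · exact one_mul 1
    · exact negW_sq
  have e : (⟨liftB, liftB_mem⟩ : ↥Wp) = b * k := by rw [hkdef, mul_inv_cancel_left]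
  have e2 : (⟨liftB, liftB_mem⟩ : ↥Wp) * ⟨liftB, liftB_mem⟩ = b * b * (k * k) := by
    rw [e, show b * k * (b * k) = b * (k * b) * k by group, ← Subgroup.mem_center_iff.1 hk b]
    group
  have e3 := congrArg Subtype.val e2
  rw [hbb, one_mul, Subgroup.coe_mul, Subgroup.coe_mul, liftB_sq, hk2] at e3
  exact hne e3

end CfsgLib.OEightStd
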